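import Cfsg.Agent.HeRecog.O6

/-! Elements acting on the coded extraspecial subgroup by maps of its vectors. -/

set_option autoImplicit false
set_option linter.all false

namespace Cfsg.Agent.HeRecog

open Cfsg.Agent.CosetCert

/-- The extraspecial subgroup in the centraliser of `z`. -/
structure Ext {G : Type*} [Group G] (e : Nat → G) (z : G) : Prop where
  q : QGens e z
  com : ∀ i, i < 6 → Commute (e i) z
  norm : ∀ g, Commute g z → ∀ i, i < 6 → ∃ a, a < 128 ∧ g * e i * g⁻¹ = qel e z a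
  cent : ∀ g, Commute g z → (∀ i, i < 6 → Commute g (e i)) → ∃ a, a < 128 ∧ g = qel e z a

/-- An element of the centraliser inducing a map of vectors. -/
structure Acts {G : Type*} [Group G] (e : Nat → G) (z g : G) (f : Nat → Nat) : Prop where
  mem : Commute g z
  conj : ∀ a, a < 128 → ∃ b, b < 128 ∧ b / 2 = f (a / 2) ∧ g * qel e z a * g⁻¹ = qel e z b

theorem qmul_vec (a b : Nat) : qmul a b / 2 = Nat.xor (a / 2) (b / 2) := by
  show qmul a b / 2 = (a / 2) ^^^ (b / 2)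
  unfold qmul; omega

namespace Ext

variable {G : Type*} [Group G] {e : Nat → G} {z : G}

theorem qel_gen (h : Ext e z) {i : Nat} (hi : i < 6) : qel e z (2 * 2 ^ i) = e i := by
  interval_cases i <;> simp [qel, part]

theorem qel_comm (h : Ext e z) {a : Nat} (ha : a < 128) : Commute (qel e z a) z := by
  have key : ∀ a : Fin 128, qmul a 1 = qmul 1 a := by decide +kernel
  have e1 := h.q.qel_mul ha (show 1 < 128 by norm_num)
  have e2 := h.q.qel_mul (show 1 < 128 by norm_num) ha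
  rw [QGens.qel_one] at e1 e2
  show qel e z a * z = z * qel e z a
  rw [e1, e2, key ⟨a, ha⟩]

theorem exists_act (h : Ext e z) {g : G} (hg : Commute g z) :
    ∃ f, O6.Iso f ∧ Acts e z g f := by
  classical
  have key : ∀ a, a < 128 → ∃ b, b < 128 ∧ g * qel e z a * g⁻¹ = qel e z b := by
    refine Tables.qel_gens h.q ⟨0, by norm_num, by rw [QGens.qel_zero]; group⟩
      ⟨1, by norm_num, by rw [QGens.qel_one, hg.eq, mul_inv_cancel_right]⟩ (fun i hi => ?_) ?_
    · obtain ⟨b, hb, e'⟩ := h.norm g hg i hi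
      exact ⟨b, hb, by rw [h.qel_gen hi]; exact e'⟩
    · rintro a b ha hb ⟨a', ha', ea⟩ ⟨b', hb', eb⟩
      refine ⟨qmul a' b', Tables.qmul_lt ha' hb', ?_⟩
      rw [← h.q.qel_mul ha hb, ← h.q.qel_mul ha' hb', ← ea, ← eb]; group
  choose! F hF using key
  have hFm : ∀ a b, a < 128 → b < 128 → F (qmul a b) = qmul (F a) (F b) := fun a b ha hb => by
    obtain ⟨h1, h2⟩ := hF _ (Tables.qmul_lt ha hb)
    refine h.q.qel_injective h1 (Tables.qmul_lt (hF a ha).1 (hF b hb).1) ?_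
    rw [← h.q.qel_mul (hF a ha).1 (hF b hb).1, ← h2, ← (hF a ha).2, ← (hF b hb).2, ← h.q.qel_mul ha hb]
    group
  have hF1 : F 1 = 1 := h.q.qel_injective (hF 1 (by norm_num)).1 (by norm_num) (by
    rw [← (hF 1 (by norm_num)).2, QGens.qel_one, hg.eq, mul_inv_cancel_right])
  have hF0 : F 0 = 0 := h.q.qel_injective (hF 0 (by norm_num)).1 (by norm_num) (by
    rw [← (hF 0 (by norm_num)).2, QGens.qel_zero, mul_one, mul_inv_cancel])
  refine ⟨fun v => F (2 * v) / 2, ⟨fun v hv => ?_, fun a b ha hb => ?_, fun v hv => ?_⟩, hg, fun a ha => ?_⟩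
  · have := (hF (2 * v) (by omega)).1; omega
  · have hv : Nat.xor a b < 64 := Nat.xor_lt_two_pow (n := 6) ha hb
    have e1 : qmul (2 * a) (2 * b) = qmul (2 * Nat.xor a b) (qmul (2 * a) (2 * b) % 2) := by
      have key : ∀ a b : Fin 64, qmul (2 * a) (2 * b) = qmul (2 * Nat.xor a b) (qmul (2 * a) (2 * b) % 2) := by
        decide +kernel
      exact key ⟨a, ha⟩ ⟨b, hb⟩
    have hm := hFm _ _ (show 2 * a < 128 by omega) (show 2 * b < 128 by omega)
    rw [e1, hFm _ _ (by omega) (by omega)] at hm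
    have := congrArg (· / 2) hm
    simp only [qmul_vec] at this
    rw [← this]
    rcases Nat.mod_two_eq_zero_or_one (qmul (2 * a) (2 * b)) with e2 | e2 <;> rw [e2]
    · rw [hF0]; exact (Nat.xor_zero _).symm
    · rw [hF1]; exact (Nat.xor_zero _).symm
  · have hm := hFm _ _ (show 2 * v < 128 by omega) (show 2 * v < 128 by omega)
    have key : ∀ b : Fin 128, qmul b b = O6.qf ((b : Nat) / 2) := by decide +kernel
    have hl := (hF (2 * v) (by omega)).1
    rw [key ⟨2 * v, by omega⟩, key ⟨F (2 * v), hl⟩] at hm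
    simp only [show 2 * v / 2 = v by omega] at hm
    rw [← hm]
    rcases Nat.mod_two_eq_zero_or_one (150 >>> ((v % 8) &&& (v / 8))) with e2 | e2
    · rw [show O6.qf v = 0 from e2, hF0]
    · rw [show O6.qf v = 1 from e2, hF1]
  · refine ⟨F a, (hF a ha).1, ?_, (hF a ha).2⟩
    show F a / 2 = F (2 * (a / 2)) / 2
    rcases Nat.mod_two_eq_zero_or_one a with e2 | e2
    · rw [show 2 * (a / 2) = a by omega]
    · have : qmul (2 * (a / 2)) 1 = a := by
        have key : ∀ a : Fin 128, (a : Nat) % 2 = 1 → qmul (2 * ((a : Nat) / 2)) 1 = a := by decide +kernel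
        exact key ⟨a, ha⟩ e2
      conv_lhs => rw [← this]
      rw [hFm _ _ (by omega) (by norm_num), hF1, qmul_vec]
      exact Nat.xor_zero _

theorem acts_qel (h : Ext e z) {c : Nat} (hc : c < 128) : Acts e z (qel e z c) id := by
  refine ⟨h.qel_comm hc, fun a ha => ?_⟩
  obtain ⟨hi, hi'⟩ := h.q.qel_qinv hc
  refine ⟨qmul (qmul c a) (qinv c), Tables.qmul_lt (Tables.qmul_lt hc ha) hi, ?_, ?_⟩
  · rw [qmul_vec, qmul_vec]
    have e1 : qinv c / 2 = c / 2 := by unfold qinv; omega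
    rw [e1]
    show (c / 2 ^^^ a / 2) ^^^ c / 2 = a / 2
    rw [Nat.xor_comm (c / 2) (a / 2), Nat.xor_assoc, Nat.xor_self, Nat.xor_zero]
  · rw [← hi', h.q.qel_mul hc ha, h.q.qel_mul (Tables.qmul_lt hc ha) hi]

theorem mem_of_id (h : Ext e z) {g : G} (hg : Acts e z g id) : ∃ a, a < 128 ∧ g = qel e z a := by
  have key : ∀ a : Fin 128, ∀ i : Fin 6, (a : Nat) / 2 = 2 ^ (i : Nat) →
      (a : Nat) = 2 * 2 ^ (i : Nat) ∨ (a : Nat) = qmul (2 * 2 ^ (i : Nat)) 1 := by decide +kernel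
  have hs : ∀ i, i < 6 → ∃ s : Bool, g * e i * g⁻¹ = e i * cond s z 1 := fun i hi => by
    have h6 : 2 * 2 ^ i < 128 := by interval_cases i <;> norm_num
    obtain ⟨b, hb, hv, he⟩ := hg.conj _ h6
    rw [h.qel_gen hi] at he
    simp only [id, show 2 * 2 ^ i / 2 = 2 ^ i by omega] at hv
    rcases key ⟨b, hb⟩ ⟨i, hi⟩ hv with e1 | e1 <;> simp only at e1
    · exact ⟨false, by rw [he, e1, h.qel_gen hi, cond_false, mul_one]⟩
    · exact ⟨true, by rw [he, e1, ← h.q.qel_mul h6 (by norm_num), h.qel_gen hi, QGens.qel_one, cond_true]⟩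
  choose! s hs using hs
  have sel : ∀ b : Fin 6 → Bool, ∃ c : Fin 128, ∀ i : Fin 6,
      qmul (qmul c (2 * 2 ^ (i : Nat))) (qinv c) = qmul (2 * 2 ^ (i : Nat)) (cond (b i) 1 0) := by
    have : ∀ m : Fin 64, ∃ c : Fin 128, ∀ i : Fin 6,
        qmul (qmul c (2 * 2 ^ (i : Nat))) (qinv c) = qmul (2 * 2 ^ (i : Nat)) (cond (Nat.testBit m i) 1 0) := by
      decide +kernel
    intro b
    have hm : ∀ b : Fin 6 → Bool, ∃ m : Fin 64, ∀ i : Fin 6, Nat.testBit m i = b i := by decide +kernel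
    obtain ⟨m, hm⟩ := hm b
    obtain ⟨c, hc⟩ := this m
    exact ⟨c, fun i => by rw [hc i, hm i]⟩
  obtain ⟨c, hc⟩ := sel fun i => s i
  have hcc := h.qel_comm c.2
  obtain ⟨hci, hci'⟩ := h.q.qel_qinv c.2
  have hconj : ∀ i, i < 6 → qel e z c * e i * (qel e z c)⁻¹ = e i * cond (s i) z 1 := fun i hi => by
    have h6 : 2 * 2 ^ i < 128 := by interval_cases i <;> norm_num
    rw [← h.qel_gen hi, ← hci', h.q.qel_mul c.2 h6, h.q.qel_mul (Tables.qmul_lt c.2 h6) hci, hc ⟨i, hi⟩]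
    cases s i
    · simp only [cond_false]
      rw [← h.q.qel_mul h6 (by norm_num), QGens.qel_zero]
    · simp only [cond_true]
      rw [← h.q.qel_mul h6 (by norm_num), QGens.qel_one]
  obtain ⟨a, ha, he⟩ := h.cent ((qel e z c)⁻¹ * g) (hcc.inv_left.mul_left hg.mem) fun i hi => by
    show _ * _ = _ * _
    calc (qel e z c)⁻¹ * g * e i = (qel e z c)⁻¹ * (g * e i * g⁻¹) * g := by group
      _ = (qel e z c)⁻¹ * (qel e z c * e i * (qel e z c)⁻¹) * g := by rw [hs i hi, hconj i hi]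
      _ = e i * ((qel e z c)⁻¹ * g) := by group
  exact ⟨qmul c a, Tables.qmul_lt c.2 ha, by rw [← h.q.qel_mul c.2 ha, ← he]; group⟩

end Ext

namespace Acts

variable {G : Type*} [Group G] {e : Nat → G} {z g g' : G} {f f' : Nat → Nat}

theorem mul (hg : Acts e z g f) (hg' : Acts e z g' f') : Acts e z (g * g') (fun v => f (f' v)) := by
  refine ⟨hg.mem.mul_left hg'.mem, fun a ha => ?_⟩
  obtain ⟨b, hb, hbv, hbe⟩ := hg'.conj a ha
  obtain ⟨c, hc, hcv, hce⟩ := hg.conj b hb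
  exact ⟨c, hc, by rw [hcv, hbv], by rw [← hce, ← hbe]; group⟩

theorem one (e : Nat → G) (z : G) : Acts e z 1 id :=
  ⟨Commute.one_left z, fun a ha => ⟨a, ha, rfl, by group⟩⟩

theorem congr (hg : Acts e z g f) (h : ∀ v, v < 64 → f v = f' v) : Acts e z g f' :=
  ⟨hg.mem, fun a ha => by
    obtain ⟨b, hb, hbv, hbe⟩ := hg.conj a ha
    exact ⟨b, hb, by rw [hbv, h _ (by omega)], hbe⟩⟩

theorem unique (h : Ext e z) (hg : Acts e z g f) (hg' : Acts e z g f') {v : Nat} (hv : v < 64) : f v = f' v := by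
  obtain ⟨b, hb, hbv, hbe⟩ := hg.conj (2 * v) (by omega)
  obtain ⟨c, hc, hcv, hce⟩ := hg'.conj (2 * v) (by omega)
  rw [show 2 * v / 2 = v by omega] at hbv hcv
  rw [← hbv, ← hcv, h.q.qel_injective hb hc (hbe.symm.trans hce)]

theorem inv (hg : Acts e z g f) (hf' : ∀ v, v < 64 → f' v < 64) (hinv : ∀ v, v < 64 → f (f' v) = v)
    (h : Ext e z) : Acts e z g⁻¹ f' := by
  refine ⟨hg.mem.inv_left, fun a ha => ?_⟩
  have hv : f' (a / 2) < 64 := hf' _ (by omega)
  obtain ⟨b, hb, hbv, hbe⟩ := hg.conj (2 * f' (a / 2)) (by omega)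
  rw [show 2 * f' (a / 2) / 2 = f' (a / 2) by omega, hinv _ (by omega)] at hbv
  rcases (show b = a ∨ a = qmul b 1 by
    have key : ∀ a b : Fin 128, (b : Nat) / 2 = (a : Nat) / 2 → (b : Nat) = a ∨ (a : Nat) = qmul b 1 := by decide +kernel
    exact key ⟨a, ha⟩ ⟨b, hb⟩ hbv) with e' | e'
  · exact ⟨2 * f' (a / 2), by omega, by omega, by rw [← e', ← hbe, e']; group⟩
  · refine ⟨qmul (2 * f' (a / 2)) 1, Tables.qmul_lt (by omega) (by norm_num), ?_, ?_⟩
    · rw [qmul_vec, show 2 * f' (a / 2) / 2 = f' (a / 2) by omega]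
      exact Nat.xor_zero _
    · have hcz := (Ext.qel_comm h (show 2 * f' (a / 2) < 128 by omega)).eq
      rw [← h.q.qel_mul (show 2 * f' (a / 2) < 128 by omega) (by norm_num)]
      conv_lhs => rw [e', ← h.q.qel_mul hb (by norm_num), QGens.qel_one, ← hbe]
      rw [QGens.qel_one]
      calc g⁻¹ * (g * qel e z (2 * f' (a / 2)) * g⁻¹ * z) * g⁻¹⁻¹
          = qel e z (2 * f' (a / 2)) * (g⁻¹ * z * g) := by group
        _ = _ := by rw [hg.mem.inv_left.eq, inv_mul_cancel_right]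

end Acts

end Cfsg.Agent.HeRecog
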