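import Cfsg.Agent.HeRecog.TICase
import Cfsg.Agent.Core.Gaschutz
import Cfsg.Agent.Core.Basics
import Cfsg.Agent.Invol.Count
import Mathlib.GroupTheory.SemidirectProduct
import Mathlib.LinearAlgebra.Matrix.GeneralLinearGroup.Card

/-!
The groups with a fused block are the affine group of the block, and the stabiliser of a vector
in the special linear group of dimension five is a group of this kind.
-/

set_option autoImplicit false
set_option linter.all false
set_option maxRecDepth 100000

namespace Cfsg.Agent.HeRecog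

open Subgroup

/-- Four coordinates over the field with two elements. -/
abbrev V4 := Fin 4 → ZMod 2

/-- An automorphism of the additive group as an invertible linear map. -/
def autLin : MulAut (Multiplicative V4) →* LinearMap.GeneralLinearGroup (ZMod 2) V4 :=
  MonoidHom.toHomUnits
    { toFun := fun σ => AddMonoidHom.toZModLinearMap 2 (MonoidHom.toAdditive σ.toMonoidHom :)
      map_one' := LinearMap.ext fun v => rfl
      map_mul' := fun σ τ => LinearMap.ext fun v => rfl }

theorem card_aut_le : Nat.card (MulAut (Multiplicative V4)) ≤ 20160 := by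
  have h : Nat.card (LinearMap.GeneralLinearGroup (ZMod 2) V4) = 20160 := by
    rw [← Nat.card_congr (Matrix.GeneralLinearGroup.toLin (n := Fin 4) (R := ZMod 2)).toEquiv,
      Matrix.card_GL_field]
    simp [Fin.prod_univ_four]
  have : Finite (LinearMap.GeneralLinearGroup (ZMod 2) V4) := Nat.finite_of_card_ne_zero (by rw [h]; decide)
  rw [← h]
  refine Nat.card_le_card_of_injective autLin fun σ τ e => MulEquiv.ext fun v => ?_
  exact congrArg (fun f : LinearMap.GeneralLinearGroup (ZMod 2) V4 => Multiplicative.ofAdd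
    ((f : V4 →ₗ[ZMod 2] V4) (Multiplicative.toAdd v))) e

/-- A split group acting as all automorphisms of an elementary group of order sixteen is determined. -/
theorem affine_iso {G : Type*} [Group G] [Finite G] (A : Subgroup G) [A.Normal] (e : A ≃* Multiplicative V4)
    {H : Subgroup G} (hH : IsComplement' A H) (hcen : ∀ g, (∀ a ∈ A, Commute g a) → g ∈ A)
    (hG : Nat.card G = 322560) :
    Nonempty (G ≃* Multiplicative V4 ⋊[MonoidHom.id (MulAut (Multiplicative V4))] MulAut (Multiplicative V4)) := by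
  let φ : H →* MulAut A := (A.normalizerMonoidHom).comp (inclusion (A.normalizer_eq_top ▸ le_top))
  have hA : Nat.card A = 16 := by
    rw [Nat.card_congr e.toEquiv]; simp [Nat.card_eq_fintype_card]
  have hHc : Nat.card H = 20160 := by
    have := hH.card_mul_card
    rw [hA, hG] at this
    omega
  let ψ : H →* MulAut (Multiplicative V4) := (MulAut.congr e).toMonoidHom.comp φ
  have hinj : Function.Injective ψ := by
    refine (injective_iff_map_eq_one ψ).2 fun h hh => ?_
    have h1 : φ h = 1 := (MulAut.congr e).injective (hh.trans (map_one _).symm)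
    have hA' : (h : G) ∈ A := hcen _ fun a ha => by
      have h2 : (h : G) * a * (h : G)⁻¹ = a :=
        (congrArg Subtype.val (DFunLike.congr_fun h1 ⟨a, ha⟩) : ((φ h ⟨a, ha⟩ : A) : G) = a)
      exact mul_inv_eq_iff_eq_mul.1 h2
    exact Subtype.ext (by simpa [disjoint_iff.1 hH.disjoint] using (mem_inf.2 ⟨hA', h.2⟩ : (h : G) ∈ A ⊓ H))
  have hbij : Function.Bijective ψ := by
    refine (Nat.bijective_iff_injective_and_card ψ).2 ⟨hinj, le_antisymm ?_ ?_⟩
    · exact Nat.card_le_card_of_injective ψ hinj
    · rw [hHc]; exact card_aut_le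
  refine ⟨(SemidirectProduct.mulEquivSubgroup hH).symm.trans
    (SemidirectProduct.congr e (MulEquiv.ofBijective ψ hbij) fun h => MulEquiv.ext fun a => ?_)⟩
  show e (φ h a) = e (φ h (e.symm (e a)))
  rw [e.symm_apply_apply]

namespace Classes

open Cfsg.Agent.CosetCert

variable {D : Tables} {K : Classes} {G : Type*} [Group G] [Finite G] {t : G}

/-- An enumeration of the block, a complement in a Sylow subgroup, and the centraliser of the block. -/
noncomputable def checkSplit (D : Tables) (A B P gens : List Nat) : Bool :=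
  allFrom (fun i => allFrom (fun j => Nat.beq (D.mul (B.getD i 0) (B.getD j 0)) (B.getD (Nat.xor i j) 0)) 0 16) 0 16 &&
    (allFrom (fun i => A.contains (B.getD i 0)) 0 16 &&
    (P.all (fun p => Nat.blt p 21504 && (Nat.beq p 0 || !A.contains p)) &&
    (P.contains 0 && (P.all (fun p => P.all fun q => P.contains (D.mul p q)) &&
    (gens.all (fun g => A.contains g) &&
    allFrom (fun c => A.contains c || !(gens.all fun g => Nat.beq (D.mul c g) (D.mul g c))) 0 21504)))))

/-- The index of a vector. -/
def enc (v : V4) : Nat := (v 0).val + 2 * (v 1).val + 4 * (v 2).val + 8 * (v 3).val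

theorem enc_facts : (∀ v w : V4, enc (v + w) = Nat.xor (enc v) (enc w)) ∧ (∀ v : V4, enc v < 16) ∧
    (∀ v w : V4, enc v = enc w → v = w) := by
  refine ⟨?_, ?_, ?_⟩ <;> decide +kernel

/-- A fused block with a complement: the affine group. -/
theorem block_affine (co : Coord D t) (hK : K.Valid D) (ht : orderOf t = 2)
    (hC : Nat.card (Subgroup.centralizer ({t} : Set G)) = 21504) {k : Nat}
    (honly : ∀ j ∈ K.allowed, IsConj t (co.ψ (K.rep j)) → j = k) (hfus : IsConj t (co.ψ (K.rep k)))
    {A : List Nat} (hnd : A.Nodup) (hA : checkBlock K D k A = true) {u a b : Nat}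
    (hU : checkTransvection D A u a b = true) {B P gens : List Nat} (hB : B.Nodup) (hBl : B.length = 16)
    (hP : P.Nodup) (hPl : P.length = 64) (hS : checkSplit D A B P gens = true) :
    Nonempty (G ≃* Multiplicative V4 ⋊[MonoidHom.id (MulAut (Multiplicative V4))] MulAut (Multiplicative V4)) := by
  classical
  obtain ⟨N, hN, hcard, htN, hmem, hconj⟩ := block_normal_mem co hK ht honly hfus hnd hA hU
  have hlt : ∀ a ∈ A, a < 21504 := fun a ha => by
    simp only [checkBlock, Bool.and_eq_true, List.all_eq_true] at hA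
    exact Nat.ble_eq.mp (hA.2.2.2.1 a ha).1
  simp only [checkSplit, Bool.and_eq_true, List.all_eq_true, List.contains_iff_mem, Bool.or_eq_true,
    Bool.not_eq_true', ← Bool.not_eq_true] at hS
  obtain ⟨hxor, hBA, hPA, hP0, hPm, hgens, hcent⟩ := hS
  have hBA : ∀ i, i < 16 → B.getD i 0 ∈ A := fun i hi => List.contains_iff_mem.1 (Tables.all_lt hBA hi)
  have hBlt : ∀ i, i < 16 → B.getD i 0 < 21504 := fun i hi => hlt _ (hBA i hi)
  obtain ⟨henc, henclt, hencinj⟩ := enc_facts
  let f : Multiplicative V4 →* N := MonoidHom.mk'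
    (fun v => ⟨co.ψ (B.getD (enc (Multiplicative.toAdd v)) 0), (hmem _).2 ⟨_, hBA _ (henclt _), rfl⟩⟩)
    (fun v w => Subtype.ext (by
      show co.ψ (B.getD (enc (Multiplicative.toAdd v + Multiplicative.toAdd w)) 0) = _ * _
      rw [henc, ← Nat.eq_of_beq_eq_true (Tables.all_lt (Tables.all_lt hxor (henclt _)) (henclt _))]
      exact co.mul _ _ (hBlt _ (henclt _)) (hBlt _ (henclt _))))
  have hfinj : Function.Injective f := fun v w e => by
    have e1 := co.inj _ _ (hBlt _ (henclt _)) (hBlt _ (henclt _)) (congrArg Subtype.val e)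
    rw [List.getD_eq_getElem _ _ (by rw [hBl]; exact henclt _),
      List.getD_eq_getElem _ _ (by rw [hBl]; exact henclt _)] at e1
    exact Multiplicative.toAdd.injective (hencinj _ _ (hB.getElem_inj_iff.1 e1))
  have hfbij : Function.Bijective f := (Nat.bijective_iff_injective_and_card f).2
    ⟨hfinj, by rw [hcard]; simp [Nat.card_eq_fintype_card]⟩
  have hG : Nat.card G = 322560 := by
    have h15 : Nat.card {g : G // IsConj t g} = 15 := by
      have e : {g : G // IsConj t g} ≃ {a : N // a ≠ 1} :=
        { toFun := fun g => ⟨⟨g.1, ((hconj g.1).1 g.2).1⟩, fun e => ((hconj g.1).1 g.2).2 (congrArg Subtype.val e)⟩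
          invFun := fun a => ⟨a.1.1, (hconj _).2 ⟨a.1.2, fun e => a.2 (Subtype.ext e)⟩⟩
          left_inv := fun g => rfl
          right_inv := fun a => rfl }
      rw [Nat.card_congr e]
      have := Fintype.ofFinite N
      rw [Nat.card_eq_fintype_card, Fintype.card_subtype_compl, Fintype.card_subtype_eq,
        ← Nat.card_eq_fintype_card, hcard]
    rw [← Invol.card_isConj_mul_card_centralizer t, h15, hC]
  have hcen : ∀ g, (∀ a ∈ N, Commute g a) → g ∈ N := by
    intro g hg
    obtain ⟨c, hc, rfl⟩ := co.surj g (hg t htN)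
    have h := Tables.all_lt hcent hc
    simp only [Bool.or_eq_true, Bool.not_eq_true', ← Bool.not_eq_true, List.all_eq_true] at h
    rcases h with h | h
    · exact (hmem _).2 ⟨c, List.contains_iff_mem.1 h, rfl⟩
    · refine absurd (fun x hx => ?_) h
      have hxA := hgens x hx
      rw [co.inj (D.mul c x) (D.mul x c) (co.lt _ _ hc (hlt x hxA)) (co.lt _ _ (hlt x hxA) hc)
        (by rw [co.mul c x hc (hlt x hxA), co.mul x c (hlt x hxA) hc]; exact (hg _ ((hmem _).2 ⟨x, hxA, rfl⟩)).eq)]
      exact Nat.beq_refl _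
  have hPlt : ∀ p ∈ P, p < 21504 := fun p hp => Nat.ble_eq.mp (hPA p hp).1
  let M : Submonoid G :=
    { carrier := {g | ∃ p ∈ P, co.ψ p = g}
      one_mem' := ⟨0, hP0, co.zero⟩
      mul_mem' := by
        rintro _ _ ⟨p, hp, rfl⟩ ⟨q, hq, rfl⟩
        exact ⟨_, hPm p hp q hq, co.mul p q (hPlt p hp) (hPlt q hq)⟩ }
  let S : Subgroup G :=
    { M with
      inv_mem' := fun {g} hg => by
        have hp : g ^ (orderOf g - 1) ∈ M := M.pow_mem hg _
        have he : g⁻¹ = g ^ (orderOf g - 1) := by
          refine inv_eq_of_mul_eq_one_right ?_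
          rw [← pow_succ', Nat.sub_add_cancel (orderOf_pos g), pow_orderOf_eq_one]
        show g⁻¹ ∈ M
        rw [he]; exact hp }
  have hScard : Nat.card S = 64 := by
    have e : P.toFinset.card = 64 := by rw [List.toFinset_card_of_nodup hP, hPl]
    rw [← e, ← Nat.card_eq_finsetCard]
    symm
    refine Nat.card_eq_of_bijective (fun a : P.toFinset => (⟨co.ψ a.1, a.1, List.mem_toFinset.1 a.2, rfl⟩ : S)) ⟨?_, ?_⟩
    · rintro ⟨a, ha⟩ ⟨b, hb⟩ hab
      exact Subtype.ext (co.inj a b (hPlt a (List.mem_toFinset.1 ha)) (hPlt b (List.mem_toFinset.1 hb))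
        (congrArg Subtype.val hab))
    · rintro ⟨g, a, ha, rfl⟩
      exact ⟨⟨a, List.mem_toFinset.2 ha⟩, rfl⟩
  have hSN : S ⊓ N = ⊥ := by
    refine (Subgroup.eq_bot_iff_forall _).2 ?_
    rintro _ ⟨⟨p, hp, rfl⟩, hpN⟩
    obtain ⟨x, hx, e⟩ := (hmem _).1 hpN
    have := co.inj x p (hlt x hx) (hPlt p hp) e
    subst this
    rcases (hPA x hp).2 with h | h
    · rw [Nat.eq_of_beq_eq_true h, co.zero]
    · exact absurd hx h
  have : IsMulCommutative N := ⟨⟨fun x y => by
    obtain ⟨v, rfl⟩ := hfbij.2 x
    obtain ⟨w, rfl⟩ := hfbij.2 y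
    rw [← map_mul, ← map_mul, mul_comm]⟩⟩
  have hUc : Nat.card (N ⊔ S : Subgroup G) = 1024 := by
    rw [sup_comm, Core.card_sup_of_inf_eq_bot hSN, hScard, hcard]
  have hidx : (N ⊔ S : Subgroup G).index = 315 := by
    have := (N ⊔ S : Subgroup G).card_mul_index
    rw [hUc, hG] at this
    omega
  obtain ⟨H, hH⟩ := Core.gaschutz_exists (K := N) (U := N ⊔ S) le_sup_left
    (by rw [hcard, hidx]; decide) (A := S) le_sup_right hSN rfl
  exact affine_iso N (MulEquiv.ofBijective f hfbij).symm hH hcen hG

end Classes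

namespace M8a

open Cfsg.Agent.CosetCert

theorem split2 : Classes.checkSplit D
    [0, 1, 14, 15, 48, 49, 62, 63, 80, 81, 94, 95, 96, 97, 110, 111]
    [0, 1, 14, 15, 48, 49, 62, 63, 80, 81, 94, 95, 96, 97, 110, 111]
    [0, 25, 33, 56, 66, 90, 99, 123, 1801, 1808, 1832, 1841, 1867, 1875, 1898, 1906, 8711, 8734, 8742, 8767, 8773, 8797, 8804, 8828, 10120, 10129, 10153, 10160, 10186, 10194, 10219, 10227, 11143, 11166, 11174, 11199, 11205, 11229, 11236, 11260, 15112, 15121, 15145, 15152, 15178, 15186, 15211, 15219, 17928, 17937, 17961, 17968, 17994, 18002, 18027, 18035, 20737, 20760, 20768, 20793, 20803, 20827, 20834, 20858]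
    [1, 14, 48, 80] = true := by decide +kernel

theorem split3 : Classes.checkSplit D
    [0, 1, 16, 17, 40, 41, 56, 57, 68, 69, 84, 85, 108, 109, 124, 125]
    [0, 1, 16, 17, 40, 41, 56, 57, 68, 69, 84, 85, 109, 108, 125, 124]
    [0, 14, 48, 62, 80, 94, 96, 110, 131, 141, 179, 189, 211, 221, 227, 237, 9479, 9481, 9527, 9529, 9559, 9561, 9575, 9577, 10758, 10760, 10806, 10808, 10838, 10840, 10854, 10856, 16130, 16140, 16178, 16188, 16210, 16220, 16226, 16236, 17665, 17679, 17713, 17727, 17745, 17759, 17761, 17775, 19201, 19215, 19249, 19263, 19281, 19295, 19297, 19311, 19600, 19615, 19616, 19631, 19648, 19663, 19696, 19711]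
    [1, 16, 40, 68] = true := by decide +kernel

/-- The groups in which a block is fused are isomorphic. -/
theorem block_affine {G : Type*} [Group G] [Finite G] {t : G} (co : Coord D t) (ht : orderOf t = 2)
    (hC : Nat.card (Subgroup.centralizer ({t} : Set G)) = 21504) {r : Nat} (hr : FusedSet P K co r)
    (h12 : r = 1 ∨ r = 2) :
    Nonempty (G ≃* Multiplicative V4 ⋊[MonoidHom.id (MulAut (Multiplicative V4))] MulAut (Multiplicative V4)) := by
  have honly : ∀ j ∈ K.allowed, IsConj t (co.ψ (K.rep j)) → inF K.allowed r j = true := by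
    intro j hj h
    have key : ∀ i ∈ K.allowed, i < K.reps.length := by decide
    exact (hr.iff j (key j hj)).2 h
  rcases h12 with rfl | rfl
  · refine Classes.block_affine co classes ht hC (k := 2) (fun j hj h => ?_)
      ((hr.iff 2 (by decide)).1 (by decide)) (by decide) block2 transvection2 (by decide) rfl (by decide) rfl split2
    have key : ∀ i ∈ K.allowed, inF K.allowed 1 i = true → i = 2 := by decide
    exact key j hj (honly j hj h)
  · refine Classes.block_affine co classes ht hC (k := 3) (fun j hj h => ?_)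
      ((hr.iff 3 (by decide)).1 (by decide)) (by decide) block3 transvection3 (by decide) rfl (by decide) rfl split3
    have key : ∀ i ∈ K.allowed, inF K.allowed 2 i = true → i = 3 := by decide
    exact key j hj (honly j hj h)

theorem block_iso {G G' : Type*} [Group G] [Finite G] [Group G'] [Finite G'] {t : G} {t' : G'}
    (co : Coord D t) (co' : Coord D t') (ht : orderOf t = 2) (ht' : orderOf t' = 2)
    (hC : Nat.card (Subgroup.centralizer ({t} : Set G)) = 21504)
    (hC' : Nat.card (Subgroup.centralizer ({t'} : Set G')) = 21504) {r r' : Nat} (hr : FusedSet P K co r)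
    (hr' : FusedSet P K co' r') (h12 : r = 1 ∨ r = 2) (h12' : r' = 1 ∨ r' = 2) : Nonempty (G ≃* G') := by
  obtain ⟨f⟩ := block_affine co ht hC hr h12
  obtain ⟨f'⟩ := block_affine co' ht' hC' hr' h12'
  exact ⟨f.trans f'.symm⟩

/-- Restriction to the lower block of a matrix fixing the first vector. -/
def lowerBlock (g : Matrix (Fin 5) (Fin 5) (ZMod 2)) : Matrix (Fin 4) (Fin 4) (ZMod 2) :=
  g.submatrix Fin.succ Fin.succ

theorem stab_block (s : Matrix.SpecialLinearGroup (Fin 5) (ZMod 2))
    (hs : (s : Matrix (Fin 5) (Fin 5) (ZMod 2)) = Matrix.transvection 0 1 1) :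
    ∃ (v : Fin 5 → ZMod 2) (_ : v ≠ 0)
      (z : MulAction.stabilizer (Matrix.SpecialLinearGroup (Fin 5) (ZMod 2)) v), orderOf z = 2 ∧
      Nonempty (Subgroup.centralizer ({z} : Set _) ≃* Subgroup.centralizer ({s} : Set _)) ∧
      Nat.card (MulAction.stabilizer (Matrix.SpecialLinearGroup (Fin 5) (ZMod 2)) v) ≤ 322560 ∧
      ∃ g, Commute (g * z * g⁻¹) z ∧ g * z * g⁻¹ ≠ z := by
  set S := MulAction.stabilizer (Matrix.SpecialLinearGroup (Fin 5) (ZMod 2))
    (Pi.single 0 1 : Fin 5 → ZMod 2) with hS
  have hmem : ∀ g : Matrix.SpecialLinearGroup (Fin 5) (ZMod 2), g ∈ S ↔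
      ∀ i, (g : Matrix (Fin 5) (Fin 5) (ZMod 2)) i 0 = (Pi.single 0 1 : Fin 5 → ZMod 2) i := fun g => by
    rw [hS, MulAction.mem_stabilizer_iff, funext_iff]
    refine forall_congr' fun i => ?_
    show ((g : Matrix (Fin 5) (Fin 5) (ZMod 2)).mulVec (Pi.single 0 1)) i = _ ↔ _
    rw [Matrix.mulVec_single_one]
    rfl
  have hsv : s ∈ S := (hmem s).2 (by rw [hs]; decide +kernel)
  have hCS : ∀ g : Matrix.SpecialLinearGroup (Fin 5) (ZMod 2), g * s = s * g → g ∈ S := by
    intro g hg
    have hm : (g : Matrix (Fin 5) (Fin 5) (ZMod 2)) * Matrix.transvection (0 : Fin 5) 1 (1 : ZMod 2) =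
        Matrix.transvection (0 : Fin 5) 1 (1 : ZMod 2) * (g : Matrix (Fin 5) (Fin 5) (ZMod 2)) := by
      rw [← hs]
      exact congrArg Subtype.val hg
    simp only [Matrix.transvection, mul_add, add_mul, mul_one, one_mul, add_right_inj] at hm
    have h0 : ∀ i, i ≠ 0 → (g : Matrix (Fin 5) (Fin 5) (ZMod 2)) i 0 = 0 := by
      intro i hi
      have h := congrFun (congrFun hm i) 1
      simpa [Matrix.mul_apply, Matrix.single, Ne.symm hi] using h
    have h00 : (g : Matrix (Fin 5) (Fin 5) (ZMod 2)) 0 0 = 1 := by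
      have hne : (g : Matrix (Fin 5) (Fin 5) (ZMod 2)) 0 0 ≠ 0 := by
        intro h
        have hd := g.2
        rw [Matrix.det_eq_zero_of_column_eq_zero 0 (fun i => if hi : i = 0 then hi ▸ h else h0 i hi)] at hd
        exact zero_ne_one hd
      revert hne
      generalize (g : Matrix (Fin 5) (Fin 5) (ZMod 2)) 0 0 = x
      revert x
      decide
    exact (hmem g).2 fun i => by
      by_cases hi : i = 0
      · subst hi; simpa using h00
      · rw [Pi.single_eq_of_ne hi, h0 i hi]
  refine ⟨Pi.single 0 1, fun e => by simpa using congrFun e 0, ⟨s, hsv⟩, ?_, ?_, ?_, ?_⟩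
  · rw [Subgroup.orderOf_mk]
    refine Invol.orderOf_eq_two_iff.2 ⟨fun e => ?_, Subtype.ext ?_⟩
    · have h := congrArg Subtype.val e
      rw [hs] at h
      revert h; decide +kernel
    · rw [Matrix.SpecialLinearGroup.coe_mul, hs]; decide +kernel
  · refine ⟨{ toFun := fun g => ⟨(g.1 : Matrix.SpecialLinearGroup (Fin 5) (ZMod 2)),
                Subgroup.mem_centralizer_singleton_iff.2
                  (congrArg Subtype.val (Subgroup.mem_centralizer_singleton_iff.1 g.2))⟩
              invFun := fun g => ⟨⟨g.1, hCS g.1 (Subgroup.mem_centralizer_singleton_iff.1 g.2)⟩,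
                Subgroup.mem_centralizer_singleton_iff.2
                  (Subtype.ext (Subgroup.mem_centralizer_singleton_iff.1 g.2))⟩
              left_inv := fun g => rfl
              right_inv := fun g => rfl
              map_mul' := fun g h => rfl }⟩
  · have hblk : ∀ g h : S, lowerBlock ((g * h : S) : Matrix.SpecialLinearGroup (Fin 5) (ZMod 2)).1 =
        lowerBlock (g : Matrix.SpecialLinearGroup (Fin 5) (ZMod 2)).1 *
          lowerBlock (h : Matrix.SpecialLinearGroup (Fin 5) (ZMod 2)).1 := by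
      intro g h
      ext i j
      simp only [lowerBlock, Matrix.submatrix_apply, Matrix.mul_apply, Subgroup.coe_mul,
        Matrix.SpecialLinearGroup.coe_mul]
      rw [Fin.sum_univ_succ, (hmem g.1).1 g.2 i.succ, Pi.single_eq_of_ne (Fin.succ_ne_zero i), zero_mul, zero_add]
    let φ : S →* (Matrix (Fin 4) (Fin 4) (ZMod 2))ˣ := MonoidHom.toHomUnits
      { toFun := fun g => lowerBlock (g : Matrix.SpecialLinearGroup (Fin 5) (ZMod 2)).1
        map_one' := by
          show lowerBlock (1 : Matrix (Fin 5) (Fin 5) (ZMod 2)) = 1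
          exact Matrix.submatrix_one _ (Fin.succ_injective 4)
        map_mul' := hblk }
    have hinj : Function.Injective fun g : S =>
        ((fun j : Fin 4 => (g : Matrix.SpecialLinearGroup (Fin 5) (ZMod 2)).1 0 j.succ), φ g) := by
      intro g h e
      obtain ⟨e1, e2⟩ := Prod.ext_iff.1 e
      refine Subtype.ext (Subtype.ext (Matrix.ext fun i j => ?_))
      induction j using Fin.cases with
      | zero => rw [(hmem g.1).1 g.2 i, (hmem h.1).1 h.2 i]
      | succ j =>
        induction i using Fin.cases with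
        | zero => exact congrFun e1 j
        | succ i =>
          have e3 : lowerBlock (g : Matrix.SpecialLinearGroup (Fin 5) (ZMod 2)).1 =
              lowerBlock (h : Matrix.SpecialLinearGroup (Fin 5) (ZMod 2)).1 :=
            congrArg (fun u : (Matrix (Fin 4) (Fin 4) (ZMod 2))ˣ => (u : Matrix (Fin 4) (Fin 4) (ZMod 2))) e2
          exact congrFun (congrFun e3 i) j
    refine (Nat.card_le_card_of_injective _ hinj).trans ?_
    rw [Nat.card_prod]
    show Nat.card (Fin 4 → ZMod 2) * Nat.card (GL (Fin 4) (ZMod 2)) ≤ _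
    rw [Matrix.card_GL_field]
    simp [Nat.card_eq_fintype_card, Fin.prod_univ_four]
  · let p : Matrix.SpecialLinearGroup (Fin 5) (ZMod 2) :=
      ⟨!![1, 0, 0, 0, 0; 0, 0, 1, 0, 0; 0, 1, 0, 0, 0; 0, 0, 0, 1, 0; 0, 0, 0, 0, 1], by decide +kernel⟩
    have hp : p ∈ S := (hmem p).2 (by decide +kernel)
    have hpp : p⁻¹ = p := inv_eq_of_mul_eq_one_right (Subtype.ext (by decide +kernel))
    refine ⟨⟨p, hp⟩, Subtype.ext (Subtype.ext ?_), fun e => ?_⟩
    · simp only [Subgroup.coe_mul, InvMemClass.coe_inv, hpp, Matrix.SpecialLinearGroup.coe_mul, hs]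
      decide +kernel
    · have h := congrArg (fun x : S => (x : Matrix.SpecialLinearGroup (Fin 5) (ZMod 2)).1) e
      simp only [Subgroup.coe_mul, InvMemClass.coe_inv, hpp, Matrix.SpecialLinearGroup.coe_mul, hs] at h
      revert h
      decide +kernel

end M8a

end Cfsg.Agent.HeRecog
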