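import Cfsg.Agent.HeRecog.Cert

/-! A set stabilised by the subgroup generators: collapse and order contradictions. -/

set_option autoImplicit false
set_option linter.all false

namespace Cfsg.Agent.HeRecog

open Cfsg.Agent.CosetCert

/-- A generator of the enumerated subgroup. -/
inductive SubSpec where
  | cen (w : List Nat)
  | loc (second : Bool) (w : List Nat)

def SubSpec.word : SubSpec → List Nat
  | .cen w => w
  | .loc s w => w.map (trLoc s)

/-- A marked set, in both coordinate systems. -/
structure Mark where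
  MA : Nat
  MB : Nat

theorem exists_of_any {p : Nat → Bool} {n : Nat} (h : (!allFrom (fun i => !p i) 0 n) = true) :
    ∃ i, i < n ∧ p i = true := by
  by_contra hne
  simp only [Bool.not_eq_true', ← Bool.not_eq_true] at h
  refine h ((allFrom_iff _ _ _).2 fun i _ hi => ?_)
  simp only [Bool.not_eq_true', ← Bool.not_eq_true]
  exact fun e => hne ⟨i, by omega, e⟩

namespace Mark

variable (M : Mark) (L : Letters) (P : PairData) (D : Tables)

/-- A code is a marked element. -/
noncomputable def inM (c : Nat) : Bool :=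
  !allFrom (fun v => !(Nat.testBit M.MA v && Nat.beq (L.A.X.el v) c)) 0 64

/-- The two masks mark the same elements. -/
noncomputable def same : Bool :=
  allFrom (fun v => !Nat.testBit M.MA v || !allFrom (fun w => !(Nat.testBit M.MB w && Nat.beq (L.B.X.el w) (L.A.X.el v))) 0 64) 0 64 &&
    allFrom (fun w => !Nat.testBit M.MB w || M.inM L (L.B.X.el w)) 0 64

/-- A code of the centraliser stabilises the marked set. -/
noncomputable def stabC (c : Nat) : Bool :=
  allFrom (fun v => !Nat.testBit M.MA v || M.inM L (P.cj D c (L.A.X.el v))) 0 64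

/-- The subgroup generator uses only the first coordinate system. -/
def first : SubSpec → Bool
  | .loc true _ => false
  | _ => true

noncomputable def check : SubSpec → Bool
  | .cen w => Letters.cenWord w && M.stabC L P D (cev D (L.code P) w)
  | .loc s w => (w.all fun i => Nat.blt i 6) && allFrom (fun v =>
      !Nat.testBit (cond s M.MB M.MA) v || Nat.testBit (cond s M.MB M.MA) (mev (cond s L.B L.A).mat w v)) 0 64

variable {M L P D} {K : Classes} {G : Type*} [Group G] [Finite G] {t : G} {co : Coord D t} {x y m l : G}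

/-- The marked elements. -/
def carrier (M : Mark) (L : Letters) (co : Coord D t) : Set G :=
  {g | ∃ v, v < 64 ∧ M.MA.testBit v = true ∧ L.A.X.E co v = g}

def stabilizer (M : Mark) (L : Letters) (co : Coord D t) : Subgroup G := Subgroup.normalizer (M.carrier L co)

theorem mem_stabilizer {g : G} (h : ∀ u ∈ M.carrier L co, g * u * g⁻¹ ∈ M.carrier L co) :
    g ∈ M.stabilizer L co := by
  refine Subgroup.mem_set_normalizer_iff.2 fun u => ⟨h u, fun hu => ?_⟩
  let f : M.carrier L co → M.carrier L co := fun a => ⟨g * a * g⁻¹, h a a.2⟩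
  have hf : Function.Injective f := fun a b hab => Subtype.ext (by
    have := congrArg Subtype.val hab
    simpa [f] using this)
  obtain ⟨a, ha⟩ := (Finite.injective_iff_surjective.1 hf) ⟨_, hu⟩
  have ha' : g * (a : G) * g⁻¹ = g * u * g⁻¹ := congrArg Subtype.val ha
  rw [← mul_left_cancel (mul_right_cancel ha')]
  exact a.2

theorem inM_iff {c : Nat} : M.inM L c = true ↔ ∃ v, v < 64 ∧ M.MA.testBit v = true ∧ L.A.X.el v = c := by
  unfold inM
  rw [Bool.not_eq_true', ← Bool.not_eq_true, allFrom_iff]
  simp only [Bool.not_eq_true', not_forall, Bool.not_eq_false, Bool.and_eq_true]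
  constructor
  · rintro ⟨v, _, hv, h1, h2⟩; exact ⟨v, by omega, h1, Nat.eq_of_beq_eq_true h2⟩
  · rintro ⟨v, hv, h1, rfl⟩; exact ⟨v, Nat.zero_le _, by omega, h1, Nat.beq_refl _⟩

theorem stabC_iff (h : L.Ok P K co x y m l) {c : Nat} (hc : c < 21504) :
    M.stabC L P D c = true ↔ co.ψ c ∈ M.stabilizer L co := by
  constructor
  · intro hs
    refine mem_stabilizer ?_
    rintro u ⟨v, hv, hb, rfl⟩
    have h' := Tables.all_lt hs hv
    rw [hb] at h'
    obtain ⟨w, hw, hwb, e⟩ := inM_iff.1 (by simpa using h')
    exact ⟨w, hw, hwb, by rw [EData.E, e, (PairData.cj_spec h.pair co hc (EData.el_lt h.AX hv)).2]; rfl⟩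
  · intro hs
    refine (allFrom_iff _ _ _).2 fun v _ hv => ?_
    have hv : v < 64 := by omega
    cases hb : Nat.testBit M.MA v
    · rfl
    obtain ⟨w, hw, hwb, e⟩ := (Subgroup.mem_set_normalizer_iff.1 hs (L.A.X.E co v)).1 ⟨v, hv, hb, rfl⟩
    obtain ⟨hl, he⟩ := PairData.cj_spec h.pair co hc (EData.el_lt h.AX hv)
    simp only [Bool.not_true, Bool.false_or]
    exact inM_iff.2 ⟨w, hw, hwb, co.inj _ _ (EData.el_lt h.AX hw) hl (by rw [he]; exact e)⟩

theorem check_spec (h : L.Ok P K co x y m l) {s : SubSpec} (hM : M.same L = true ∨ Mark.first s = true)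
    (hs : M.check L P D s = true) :
    wev (L.val co m l) s.word ∈ M.stabilizer L co := by
  cases s with
  | cen w =>
    simp only [check, Bool.and_eq_true] at hs
    obtain ⟨h1, h2⟩ := Letters.cen_spec h hs.1
    show wev _ w ∈ _
    rw [← h2]
    exact (stabC_iff h h1).1 hs.2
  | loc s w =>
    simp only [check, Bool.and_eq_true] at hs
    have hw : ∀ i ∈ w, i < 6 := fun i hi => Nat.ble_eq.mp (List.all_eq_true.1 hs.1 i hi)
    have e : wev (L.val co m l) ((SubSpec.loc s w).word) = wev ((cond s L.B L.A).val co (cond s l m)) w := by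
      simp only [SubSpec.word, wev, List.map_map]
      exact congrArg List.prod (List.map_congr_left fun i hi => Letters.loc_val h (hw i hi) s)
    rw [e]
    refine mem_stabilizer ?_
    rintro u ⟨v, hv, hb, rfl⟩
    cases s
    · obtain ⟨hi, -⟩ := Side.word_spec h.A h.pair h.AX h.Fa h.m_ind hw
      obtain ⟨hlt, he⟩ := hi v hv
      have h' := Tables.all_lt hs.2 hv
      simp only [cond_false, hb, Bool.not_true, Bool.false_or] at h'
      exact ⟨_, hlt, h', he.symm⟩
    · simp only [same, Bool.and_eq_true, first, Bool.false_eq_true, or_false] at hM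
      have h1 := Tables.all_lt hM.1 hv
      simp only [hb, Bool.not_true, Bool.false_or] at h1
      obtain ⟨w', hw', hp⟩ := exists_of_any h1
      simp only [Bool.and_eq_true] at hp
      obtain ⟨hwb, he'⟩ := hp
      obtain ⟨hi, -⟩ := Side.word_spec h.B h.pair h.BX h.Fb h.l_ind hw
      obtain ⟨hlt, he⟩ := hi w' hw'
      have h' := Tables.all_lt hs.2 hw'
      simp only [cond_true, hwb, Bool.not_true, Bool.false_or] at h'
      have h2 := Tables.all_lt hM.2 hlt
      simp only [h', Bool.not_true, Bool.false_or] at h2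
      obtain ⟨z, hz, hzb, ez⟩ := inM_iff.1 h2
      refine ⟨z, hz, hzb, ?_⟩
      rw [EData.E, ez]
      rw [show L.A.X.E co v = L.B.X.E co w' by rw [EData.E, EData.E, Nat.eq_of_beq_eq_true he']]
      exact he.symm

/-- The subgroup generators lie in the stabiliser. -/
theorem gens_mem (h : L.Ok P K co x y m l) {SS : List SubSpec} (hM : M.same L = true ∨ SS.all Mark.first = true)
    (hSS : SS.all (M.check L P D) = true) {SW : List (List Nat)} (hSW : SW = SS.map SubSpec.word) :
    ∀ w ∈ SW, wev (L.val co m l) w ∈ M.stabilizer L co := by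
  subst hSW
  intro w hw
  obtain ⟨s, hs, rfl⟩ := List.mem_map.1 hw
  exact check_spec h (hM.imp id fun e => List.all_eq_true.1 e s hs) (List.all_eq_true.1 hSS s hs)

/-- A centraliser letter outside the stabiliser cannot be traced into it. -/
theorem outside (h : L.Ok P K co x y m l) {g : Nat} (hg : g < 8)
    (hout : M.stabC L P D (L.gens g) = false) : wev (L.val co m l) [g] ∉ M.stabilizer L co := by
  intro hmem
  have hgl : L.gens g < 21504 := Nat.ble_eq.mp (Tables.all_lt h.gens hg)
  have e : wev (L.val co m l) [g] = co.ψ (L.gens g) := by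
    simp [wev, Letters.val, Letters.gval, Letters.gcode, show g < 14 by omega, show g ≠ 8 by omega,
      show g ≠ 13 by omega, show Nat.blt g 8 = true from Nat.ble_eq.mpr hg]
  rw [e, ← stabC_iff h hgl, hout] at hmem
  exact Bool.noConfusion hmem

end Mark

theorem wev_replicate {G : Type*} [Monoid G] (f : Nat → G) (w : List Nat) :
    ∀ p : Nat, wev f (List.replicate p w).flatten = wev f w ^ p
  | 0 => by simp [wev]
  | p + 1 => by rw [List.replicate_succ, List.flatten_cons, wev_append, wev_replicate f w p, pow_succ']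

/-- A prime order outside a subgroup divides the order of the group. -/
theorem dvd_of_pow_mem {G : Type*} [Group G] [Finite G] {S : Subgroup G} {g : G} {p : Nat} (hp : p.Prime)
    (h : g ^ p ∈ S) (hg : g ∉ S) : p ∣ Nat.card G := by
  refine dvd_trans ?_ (orderOf_dvd_natCard g)
  by_contra hd
  have hco : Nat.Coprime p (orderOf g) := hp.coprime_iff_not_dvd.2 hd
  obtain ⟨k, hk⟩ := exists_pow_eq_self_of_coprime hco
  exact hg (hk ▸ S.pow_mem h k)

end Cfsg.Agent.HeRecog
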