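import Cfsg.Agent.HeRecog.Rels
import Cfsg.Agent.CosetCert.MemberGroup
import Cfsg.Agent.CosetCert.Upper
import Cfsg.Agent.CosetCert.Pack

/-! The certificates read in the group. -/

set_option autoImplicit false
set_option linter.all false

namespace Cfsg.Agent.HeRecog

open Cfsg.Agent.CosetCert

/-- The raw letters of the nineteen codes. -/
def LET : List Nat := [0, 1, 2, 3, 4, 5, 6, 7, 8, 9, 10, 11, 12, 13, 21, 22, 24, 26, 27]

def encL (b : Fin 14) : Nat := b.val

def decL (x : Nat) : Fin 14 × Bool := Letters.dec14 (LET.getD x 0)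

/-- The inverse of a code. -/
noncomputable def ivL (x : Nat) : Nat :=
  cond (Nat.blt x 19) ([0, 1, 2, 3, 4, 5, 6, 14, 15, 9, 16, 11, 17, 18, 7, 8, 10, 12, 13].getD x 0) x

abbrev RW := List (List (Fin 14 × Bool))

/-- The relators as signed words. -/
def relWords (RS : List RelSpec) : RW := RS.map fun s => s.word.map Letters.dec14

/-- Raw words as signed words. -/
def rawWords (l : List (List Nat)) : RW := l.map fun w => w.map Letters.dec14

/-- The certificate spells the presentation. -/
structure Fits (C : Data) (RS : List RelSpec) (SW : List (List Nat)) : Prop where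
  K : C.K = 19
  iv : C.iv = ivL
  invol : ([0, 1, 2, 3, 4, 5, 6, 9, 11].all fun g =>
    (relWords RS).contains [((Fin.ofNat 14 g), true), ((Fin.ofNat 14 g), true)]) = true
  take : C.W.take C.nR = (relWords RS).map (List.map (Data.code ivL encL)) ++
    ([] :: (List.range 19).map fun x => [x, ivL x])
  drop : C.W.drop C.nR = (rawWords SW).map fun w => (FreeGroup.mk w).toWord.map (Data.code ivL encL)

theorem Fits.spells {C : Data} {RS : List RelSpec} {SW : List (List Nat)} (h : Fits C RS SW) :
    Data.Spells C (wordRels (relWords RS)) ((rawWords SW).map FreeGroup.mk) encL decL (relWords RS) := by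
  have henc : ∀ b : Fin 14, encL b < 19 ∧ decL (encL b) = (b, true) := by decide +kernel
  have hcode : ∀ x : Fin 19, Data.code ivL encL (decL x) = x := by decide +kernel
  have hinv : ∀ x : Fin 19, (decL (ivL x) = ((decL x).1, !(decL x).2)) ∨
      (decL (ivL x) = decL x ∧ (decL x).2 = true ∧ ((decL x).1 : Nat) ∈ [0, 1, 2, 3, 4, 5, 6, 9, 11]) := by
    decide +kernel
  refine
    { enc_lt := fun b => by rw [h.K]; exact henc b
      inv_letter := fun x hx => ?_
      rels_one := fun l hl => PresentedGroup.one_of_mem (List.mem_map.2 ⟨l, hl, rfl⟩)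
      rels_mem := fun r hr => Subgroup.subset_normalClosure hr
      take_eq := by rw [h.take, h.iv, h.K]
      code_dec := fun x hx => by rw [h.iv]; exact hcode ⟨x, h.K ▸ hx⟩
      drop_eq := by rw [h.drop, h.iv, List.map_map]; rfl }
  rw [h.iv]
  rw [h.K] at hx
  rw [← map_mul]
  rcases hinv ⟨x, hx⟩ with e | ⟨e, hb, hg⟩
  · simp only at e
    rw [e]
    have : FreeGroup.mk [((decL x).1, !(decL x).2)] = (FreeGroup.mk [decL x])⁻¹ := by
      rw [FreeGroup.inv_mk]; rfl
    rw [this, inv_mul_cancel, map_one]
  · simp only at e hb hg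
    rw [e, FreeGroup.mul_mk]
    refine PresentedGroup.one_of_mem (List.mem_map.2 ⟨_, ?_, rfl⟩)
    have hmem := List.all_eq_true.1 h.invol _ hg
    rw [List.contains_iff_mem] at hmem
    have hd : decL x = (Fin.ofNat 14 ((decL x).1 : Nat), true) := by
      refine Prod.ext (Fin.ext ?_) hb
      simp [Fin.ofNat, Nat.mod_eq_of_lt (decL x).1.2]
    show [decL x] ++ [decL x] ∈ relWords RS
    rw [hd]
    exact hmem

variable {P : PairData} {D : Tables} {K : Classes} {G : Type*} [Group G] [Finite G] {t : G} {co : Coord D t}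
  {L : Letters} {x y m l : G}

theorem rawWords_spec (m l : G) {SW : List (List Nat)} (hSW : (SW.all fun w => w.all fun a => Nat.blt a 28) = true)
    {S : Subgroup G} (hS : ∀ w ∈ SW, wev (L.val co m l) w ∈ S) :
    {s | ∃ w ∈ rawWords SW, FreeGroup.lift (L.fval co m l) (FreeGroup.mk w) = s} ⊆ (S : Set G) := by
  rintro _ ⟨w, hw, rfl⟩
  obtain ⟨u, hu, rfl⟩ := List.mem_map.1 hw
  rw [Letters.lift_word m l fun a ha => Nat.ble_eq.mp (List.all_eq_true.1 (List.all_eq_true.1 hSW u hu) a ha)]
  exact hS u hu

/-- A traced word lies in every subgroup containing the generators. -/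
theorem mem_of_walk (h : L.Ok P K co x y m l) {RS : List RelSpec} (hRS : RS.all (L.check P D) = true)
    {C : Data} (hC : C.MemValid) {SW : List (List Nat)} (hF : Fits C RS SW)
    (hSW : (SW.all fun w => w.all fun a => Nat.blt a 28) = true) {tg : List Nat}
    (htg : (tg.all fun a => Nat.blt a 28) = true) {n items : Nat}
    (hwalk : walk C.F C.iv C.K C.Nf n items 0 (pack ((tg.map Letters.dec14).map (Data.code C.iv encL))) = stop 0 0)
    {S : Subgroup G} (hS : ∀ w ∈ SW, wev (L.val co m l) w ∈ S) : wev (L.val co m l) tg ∈ S := by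
  have h1 := group_mem_of_mem_sub (Data.mem_sub_of_path hC hF.spells _ n items hwalk) (L.fval co m l)
    (Letters.lift_rels h hRS)
  rw [Letters.lift_word m l fun a ha => Nat.ble_eq.mp (List.all_eq_true.1 htg a ha)] at h1
  exact (Subgroup.closure_le S).2 (rawWords_spec m l hSW hS) h1

end Cfsg.Agent.HeRecog
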