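import Cfsg.Agent.HeRecog.Gauge
import Cfsg.Agent.HeRecog.Models.M8a
import Cfsg.Agent.HeRecog.Models.M8b
import Cfsg.Agent.HeRecog.Models.M8c
import Cfsg.Agent.HeRecog.Models.M8d
import Cfsg.Agent.HeRecog.Models.M7a
import Cfsg.Agent.HeRecog.Models.M7b
import Cfsg.Agent.HeRecog.Models.M7c
import Cfsg.Agent.HeRecog.Models.M7d
import Cfsg.Agent.Fg24.ExtraTwo
import Cfsg.Agent.LargeFischer.PlaneGen

/-! Every centraliser of the given shape is one of four models. -/

set_option autoImplicit false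
set_option linter.all false
set_option maxRecDepth 100000

namespace Cfsg.Agent.HeRecog

open Cfsg.Agent.CosetCert Cfsg.Agent.Compute Cfsg.Agent.LargeExtra

/-- The model is one of four. -/
def IsModel {G : Type*} [Group G] (t : G) : Prop :=
  Nonempty (Coord M8a.D t) ∨ Nonempty (Coord M8b.D t) ∨ Nonempty (Coord M7a.D t) ∨ Nonempty (Coord M7b.D t)

theorem coord_of {G : Type*} [Group G] [Finite G] {e : Nat → G} {z x y : G} (h : Ext e z) {D : Tables} (hD : D.Valid)
    (hR : D.Rep e z x y) (hkeys : allFrom (fun i => allFrom (fun j => Nat.beq i j ||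
      !allFrom (fun k => Nat.beq (D.ajV i (2 * 2 ^ k) / 2) (D.ajV j (2 * 2 ^ k) / 2)) 0 6) 0 168) 0 168 = true)
    (hx : Commute x z) (hy : Commute y z) (hC : Nat.card (Subgroup.centralizer ({z} : Set G)) = 21504) :
    Nonempty (Coord D z) := by
  classical
  set K := Subgroup.closure ({g | ∃ i, i < 6 ∧ e i = g} ∪ {x, y})
  have hKle : K ≤ Subgroup.centralizer ({z} : Set G) := by
    rw [Subgroup.closure_le]
    rintro g (⟨i, hi, rfl⟩ | rfl | rfl)
    · exact Subgroup.mem_centralizer_singleton_iff.2 (h.com i hi).eq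
    · exact Subgroup.mem_centralizer_singleton_iff.2 hx.eq
    · exact Subgroup.mem_centralizer_singleton_iff.2 hy.eq
  have hzK : z ∈ K := by
    have h0 : e 0 ∈ K := Subgroup.subset_closure (Or.inl ⟨0, by norm_num, rfl⟩)
    have h3 : e 3 ∈ K := Subgroup.subset_closure (Or.inl ⟨3, by norm_num, rfl⟩)
    have hp := h.q.pair 0 (by norm_num)
    rw [show z = (e (0 + 3) * e 0)⁻¹ * (e 0 * e (0 + 3)) by rw [hp]; group]
    exact K.mul_mem (K.inv_mem (K.mul_mem h3 h0)) (K.mul_mem h0 h3)
  have hqK : ∀ a, a < 128 → qel e z a ∈ K := by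
    intro a _
    have hem : ∀ i, i < 6 → e i ∈ K := fun i hi => Subgroup.subset_closure (Or.inl ⟨i, hi, rfl⟩)
    exact K.mul_mem (K.mul_mem
      (K.mul_mem (K.mul_mem (K.pow_mem (hem 3 (by omega)) _) (K.pow_mem (hem 4 (by omega)) _)) (K.pow_mem (hem 5 (by omega)) _))
      (K.mul_mem (K.mul_mem (K.pow_mem (hem 0 (by omega)) _) (K.pow_mem (hem 1 (by omega)) _)) (K.pow_mem (hem 2 (by omega)) _)))
      (K.pow_mem hzK _)
  have hrK : ∀ j, Tables.rep D x y j ∈ K := fun j => by
    refine K.list_prod_mem fun g hg => ?_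
    obtain ⟨l, -, rfl⟩ := List.mem_map.1 hg
    have hxK : x ∈ K := Subgroup.subset_closure (Or.inr (Or.inl rfl))
    have hyK : y ∈ K := Subgroup.subset_closure (Or.inr (Or.inr rfl))
    unfold Tables.lt; split_ifs <;> simp [inv_mem_iff, hxK, hyK]
  have h21 : 21504 ≤ Nat.card K := by
    rw [← Nat.card_fin 21504]
    refine Nat.card_le_card_of_injective (fun c : Fin 21504 =>
      (⟨qel e z (c % 128) * Tables.rep D x y (c / 128), K.mul_mem (hqK _ (by omega)) (hrK _)⟩ : K)) fun c d hcd => ?_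
    have hcd : qel e z (c % 128) * Tables.rep D x y (c / 128) = qel e z (d % 128) * Tables.rep D x y (d / 128) :=
      congrArg Subtype.val hcd
    have hij : (c : Nat) / 128 = d / 128 := by
      by_contra hne
      have hk := Tables.all_lt (Tables.all_lt hkeys (show (c : Nat) / 128 < 168 by omega)) (show (d : Nat) / 128 < 168 by omega)
      simp only [Bool.or_eq_true, Bool.not_eq_true', ← Bool.not_eq_true] at hk
      rcases hk with hk | hk
      · exact hne (Nat.eq_of_beq_eq_true hk)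
      refine hk ((allFrom_iff _ _ _).2 fun k _ hk' => ?_)
      have h6 : 2 * 2 ^ k < 128 := by
        have : (2 : Nat) ^ k < 64 := Nat.pow_lt_pow_right (by norm_num) (by omega : k < 6)
        omega
      have act : ∀ c : Fin 21504, ∃ b, b < 128 ∧ b / 2 = D.ajV (c / 128) (2 * 2 ^ k) / 2 ∧
          qel e z (c % 128) * Tables.rep D x y (c / 128) * qel e z (2 * 2 ^ k) *
            (qel e z (c % 128) * Tables.rep D x y (c / 128))⁻¹ = qel e z b := fun c => by
        obtain ⟨h1, h2⟩ := Tables.aj_spec hD hR (show (c : Nat) / 128 < 168 by omega) h6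
        obtain ⟨b, hb, hbv, hbe⟩ := (h.acts_qel (show (c : Nat) % 128 < 128 by omega)).conj _ h1
        exact ⟨b, hb, hbv, by rw [← hbe, ← h2]; group⟩
      obtain ⟨b, hb, hbv, hbe⟩ := act c
      obtain ⟨b', hb', hbv', hbe'⟩ := act d
      rw [hcd] at hbe
      rw [← hbv, ← hbv', h.q.qel_injective hb hb' (hbe.symm.trans hbe')]
      exact Nat.beq_refl _
    rw [hij, mul_left_inj] at hcd
    have := h.q.qel_injective (Nat.mod_lt _ (by norm_num)) (Nat.mod_lt _ (by norm_num)) hcd
    exact Fin.ext (by omega)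
  have hKeq : K = Subgroup.centralizer ({z} : Set G) := Subgroup.eq_of_le_of_card_ge hKle (by rw [hC]; exact h21)
  exact ⟨Tables.coord hD hR (fun g hg => Subgroup.mem_centralizer_singleton_iff.1 (hKle hg))
    (fun g hg => by
      show g ∈ K
      rw [hKeq]; exact Subgroup.mem_centralizer_singleton_iff.2 hg.eq) hC⟩

theorem rep_of {G : Type*} [Group G] {e : Nat → G} {z x y : G} (h : Ext e z) (D : Tables) {v0 v1 v2 v3 : Nat}
    (hrels : D.rels = [([0, 0], v0), ([1, 1, 1], v1), ([0, 1, 0, 1, 0, 1, 0, 1, 0, 1, 0, 1, 0, 1], v2),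
      ([2, 3, 0, 1, 2, 3, 0, 1, 2, 3, 0, 1, 2, 3, 0, 1], v3)])
    (hx : Commute x z) (hy : Commute y z)
    (hxa : ∀ i, i < 6 → x * e i * x⁻¹ = qel e z (D.actV 0 (2 * 2 ^ i)))
    (hya : ∀ i, i < 6 → y * e i * y⁻¹ = qel e z (D.actV 1 (2 * 2 ^ i)))
    (r0 : Tables.lprod x y [0, 0] = qel e z v0) (r1 : Tables.lprod x y [1, 1, 1] = qel e z v1)
    (r2 : Tables.lprod x y [0, 1, 0, 1, 0, 1, 0, 1, 0, 1, 0, 1, 0, 1] = qel e z v2)
    (r3 : Tables.lprod x y [2, 3, 0, 1, 2, 3, 0, 1, 2, 3, 0, 1, 2, 3, 0, 1] = qel e z v3) : D.Rep e z x y where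
  q := h.q
  xz := hx
  yz := hy
  xact := hxa
  yact := hya
  rel r hr := by
    rw [hrels] at hr
    simp only [List.mem_cons, List.not_mem_nil, or_false] at hr
    rcases hr with rfl | rfl | rfl | rfl <;> assumption

theorem model8 {G : Type*} [Group G] [Finite G] {e : Nat → G} {z x y : G} (h : Ext e z)
    (hx : Acts e z x (O6.lin (O6.O.MA true))) (hy : Acts e z y (O6.lin (O6.O.MB true)))
    (hC : Nat.card (Subgroup.centralizer ({z} : Set G)) = 21504) : IsModel z := by
  obtain ⟨x', y', s0, s3, hs0, hs3, hx', hy', r0, r1, r2, r3, ha, hb⟩ := exists_rep h M8a.D M8a.valid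
    (by decide +kernel) (by decide +kernel) (by decide +kernel) (by decide +kernel) (by decide +kernel)
    (v0 := 0) (v1 := 16) (v2 := 0) (v3 := 0) (by decide) (by decide +kernel) (by decide +kernel)
    (by decide +kernel) (by decide +kernel) (by decide +kernel) hx hy
  interval_cases s0 <;> interval_cases s3
  · exact Or.inl (coord_of h M8a.valid (rep_of h M8a.D rfl hx'.mem hy'.mem ha hb r0 r1 r2 r3) (by decide +kernel) hx'.mem hy'.mem hC)
  · exact absurd (M8c.bad (rep_of h M8c.D rfl hx'.mem hy'.mem ha hb r0 r1 r2 r3)) fun hab =>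
      Tables.bad_absurd (rep_of h M8c.D rfl hx'.mem hy'.mem ha hb r0 r1 r2 r3) hab (by decide +kernel)
  · exact absurd (M8d.bad (rep_of h M8d.D rfl hx'.mem hy'.mem ha hb r0 r1 r2 r3)) fun hab =>
      Tables.bad_absurd (rep_of h M8d.D rfl hx'.mem hy'.mem ha hb r0 r1 r2 r3) hab (by decide +kernel)
  · exact Or.inr (Or.inl (coord_of h M8b.valid (rep_of h M8b.D rfl hx'.mem hy'.mem ha hb r0 r1 r2 r3) (by decide +kernel) hx'.mem hy'.mem hC))

theorem model7 {G : Type*} [Group G] [Finite G] {e : Nat → G} {z x y : G} (h : Ext e z)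
    (hx : Acts e z x (O6.lin (O6.O.MA false))) (hy : Acts e z y (O6.lin (O6.O.MB false)))
    (hC : Nat.card (Subgroup.centralizer ({z} : Set G)) = 21504) : IsModel z := by
  obtain ⟨x', y', s0, s3, hs0, hs3, hx', hy', r0, r1, r2, r3, ha, hb⟩ := exists_rep h M7a.D M7a.valid
    (by decide +kernel) (by decide +kernel) (by decide +kernel) (by decide +kernel) (by decide +kernel)
    (v0 := 2) (v1 := 0) (v2 := 0) (v3 := 2) (by decide) (by decide +kernel) (by decide +kernel)
    (by decide +kernel) (by decide +kernel) (by decide +kernel) hx hy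
  interval_cases s0 <;> interval_cases s3
  · exact Or.inr (Or.inr (Or.inl (coord_of h M7a.valid (rep_of h M7a.D rfl hx'.mem hy'.mem ha hb r0 r1 r2 r3) (by decide +kernel) hx'.mem hy'.mem hC)))
  · exact absurd (M7c.bad (rep_of h M7c.D rfl hx'.mem hy'.mem ha hb r0 r1 r2 r3)) fun hab =>
      Tables.bad_absurd (rep_of h M7c.D rfl hx'.mem hy'.mem ha hb r0 r1 r2 r3) hab (by decide +kernel)
  · exact absurd (M7d.bad (rep_of h M7d.D rfl hx'.mem hy'.mem ha hb r0 r1 r2 r3)) fun hab =>
      Tables.bad_absurd (rep_of h M7d.D rfl hx'.mem hy'.mem ha hb r0 r1 r2 r3) hab (by decide +kernel)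
  · exact Or.inr (Or.inr (Or.inr (coord_of h M7b.valid (rep_of h M7b.D rfl hx'.mem hy'.mem ha hb r0 r1 r2 r3) (by decide +kernel) hx'.mem hy'.mem hC)))

/-- The six basis vectors. -/
def hvec (i : Fin 6) : HV 2 :=
  if h : (i : Nat) < 3 then (Pi.single ⟨i, h⟩ 1, 0) else (0, Pi.single ⟨(i : Nat) - 3, by omega⟩ 1)

theorem hvec_beta : ∀ i j : Fin 6, hbeta 0 (hvec i) (hvec j) = if (i : Nat) + 3 = j then 1 else 0 := by
  decide +kernel

/-- An involution of SL(3, 2). -/
def a32 : Matrix.SpecialLinearGroup (Fin 3) (ZMod 2) := ⟨!![1, 1, 0; 0, 1, 0; 0, 0, 1], by decide +kernel⟩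

/-- An element of order three. -/
def b32 : Matrix.SpecialLinearGroup (Fin 3) (ZMod 2) := ⟨!![0, 1, 0; 0, 0, 1; 1, 0, 0], by decide +kernel⟩

theorem ab32 : a32 ≠ 1 ∧ b32 ≠ 1 ∧ ∀ w ∈ relW, Tables.lprod a32 b32 w = 1 := by
  refine ⟨by decide +kernel, by decide +kernel, fun w hw => ?_⟩
  simp only [relW, List.mem_cons, List.not_mem_nil, or_false] at hw
  rcases hw with rfl | rfl | rfl | rfl <;> decide +kernel

/-- The centraliser is one of the models. -/
theorem classify {G : Type*} [Group G] [Finite G] (t : G) (ht : orderOf t = 2)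
    (Q : Subgroup (Subgroup.centralizer ({t} : Set G))) [Q.Normal] (hQ : Cfsg.IsExtraspecial 2 Q)
    (hcard : Nat.card Q = 2 ^ 7) (hplus : ∃ E : Subgroup Q, Cfsg.IsElementaryAbelian 2 E ∧ Nat.card E = 2 ^ 4)
    (h2c : Subgroup.centralizer (Q : Set (Subgroup.centralizer ({t} : Set G))) ≤ Q)
    (e : (Subgroup.centralizer ({t} : Set G)) ⧸ Q ≃* Matrix.SpecialLinearGroup (Fin 3) (ZMod 2)) :
    Nat.card (Subgroup.centralizer ({t} : Set G)) = 21504 ∧ IsModel t := by
  classical
  have hC : Nat.card (Subgroup.centralizer ({t} : Set G)) = 21504 := by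
    rw [Q.card_eq_card_quotient_mul_card_subgroup, Nat.card_congr e.toEquiv, LargeFischer.card_sl32, hcard]
    norm_num
  refine ⟨hC, ?_⟩
  obtain ⟨m, c, ⟨ε⟩⟩ := Fg24.ExtraTwo.exists_equiv_heis hQ
  obtain rfl : m = 2 := by
    have h := Nat.card_congr ε.toEquiv
    rw [hcard, Heis.card] at h
    have := Nat.pow_right_injective le_rfl h
    omega
  obtain rfl : c = 0 := by
    rcases Fg24.ExtraTwo.two_cases c with rfl | rfl
    · rfl
    · exfalso
      obtain ⟨E, hE, hEc⟩ := hplus
      have h4 : (4 : ℕ) ≤ 2 + 1 := (Heis.rank_minus (m := 2)).2 ⟨E.map ε.toMonoidHom, ?_, ?_⟩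
      · omega
      · refine ⟨⟨⟨?_⟩⟩, ?_⟩
        · rintro ⟨_, a, ha, rfl⟩ ⟨_, b, hb, rfl⟩
          exact Subtype.ext (by
            show ε a * ε b = ε b * ε a
            rw [← map_mul, ← map_mul]
            exact congrArg ε (congrArg Subtype.val (hE.1.is_comm.comm (⟨a, ha⟩ : ↥E) ⟨b, hb⟩)))
        · rintro _ ⟨a, ha, rfl⟩
          show ε a ^ 2 = 1
          rw [← map_pow, hE.2 a ha, map_one]
      · rw [← hEc]
        exact (Nat.card_congr (E.equivMapOfInjective ε.toMonoidHom ε.injective).toEquiv).symm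
  -- the basis
  let hv : Fin 6 → HV 2 := hvec
  let bq : Nat → Q := fun i => if h : i < 6 then ε.symm ⟨hv ⟨i, h⟩, 0⟩ else 1
  let eG : Nat → G := fun i => ((bq i : Subgroup.centralizer ({t} : Set G)) : G)
  have htC : t ∈ Subgroup.centralizer ({t} : Set G) := Subgroup.mem_centralizer_singleton_iff.2 rfl
  have hzQ : (⟨t, htC⟩ : Subgroup.centralizer ({t} : Set G)) ∈ Q := h2c (Subgroup.mem_centralizer_iff.2 fun g _ =>
    Subtype.ext (Subgroup.mem_centralizer_singleton_iff.1 g.2))
  set zq : Q := ⟨⟨t, htC⟩, hzQ⟩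
  have hcomQ : ∀ q : Q, ((q : Subgroup.centralizer ({t} : Set G)) : G) * t = t * ((q : Subgroup.centralizer ({t} : Set G)) : G) :=
    fun q => Subgroup.mem_centralizer_singleton_iff.1 (q : Subgroup.centralizer ({t} : Set G)).2
  have hzv : (ε zq).v = 0 := hB_nondeg fun w => by
    refine (Heis.comm_iff _ ⟨w, 0⟩).1 ?_
    obtain ⟨y, hy⟩ := ε.surjective ⟨w, 0⟩
    rw [← hy, ← map_mul, ← map_mul]
    congr 1
    exact Subtype.ext (Subtype.ext (hcomQ y).symm)
  have ht1 : t ≠ 1 := fun e => by rw [e, orderOf_one] at ht; omega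
  have hzs : ε zq = (⟨0, 1⟩ : Heis 2 0) := by
    rcases Fg24.ExtraTwo.two_cases (ε zq).s with h | h
    · exact absurd (congrArg (fun x : Q => ((x : Subgroup.centralizer ({t} : Set G)) : G))
        (ε.map_eq_one_iff.1 (Heis.ext hzv h))) ht1
    · exact Heis.ext hzv h
  have toG : ∀ {a b : Q}, ε a = ε b → ((a : Subgroup.centralizer ({t} : Set G)) : G) = b :=
    fun h => congrArg (fun x : Q => ((x : Subgroup.centralizer ({t} : Set G)) : G)) (ε.injective h)
  have hb : ∀ i (hi : i < 6), ε (bq i) = ⟨hv ⟨i, hi⟩, 0⟩ := fun i hi => by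
    simp only [bq, dif_pos hi, MulEquiv.apply_symm_apply]
  have key : ∀ i j : Fin 6, hbeta 0 (hv i) (hv j) = if (i : Nat) + 3 = j then 1 else 0 := hvec_beta
  have hmulv : ∀ i j (hi : i < 6) (hj : j < 6), ε (bq i * bq j) =
      ⟨hv ⟨i, hi⟩ + hv ⟨j, hj⟩, if i + 3 = j then 1 else 0⟩ := fun i j hi hj => by
    rw [map_mul, hb i hi, hb j hj, Heis.mul_def, key]
    simp
  have q : QGens eG t :=
    { sq := fun i hi => toG (a := bq i * bq i) (b := 1) (by
        rw [hmulv i i hi hi, map_one, if_neg (by omega), Heis.dbl]; rfl)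
      zsq := by rw [← pow_two, ← ht, pow_orderOf_eq_one]
      zne := ht1
      zcomm := fun i _ => (hcomQ (bq i)).symm
      pair := fun i hi => toG (a := bq i * bq (i + 3)) (b := bq (i + 3) * bq i * zq) (by
        rw [hmulv i (i + 3) (by omega) (by omega), map_mul ε (_ * _), hmulv (i + 3) i (by omega) (by omega), hzs,
          if_pos rfl, if_neg (by omega), Heis.mul_def]
        simp [add_comm, Heis.hbeta_zero_left, hbeta])
      comm := fun i j hi hj h1 h2 => toG (a := bq i * bq j) (b := bq j * bq i) (by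
        rw [hmulv i j hi hj, hmulv j i hj hi, if_neg (by omega), if_neg (by omega), add_comm]) }
  have hqQ : ∀ a, a < 128 → ∃ w : Q, qel eG t a = ((w : Subgroup.centralizer ({t} : Set G)) : G) :=
    Tables.qel_gens q ⟨1, by rw [QGens.qel_zero]; rfl⟩ ⟨zq, by rw [QGens.qel_one]⟩
      (fun i hi => ⟨bq i, by interval_cases i <;> simp [qel, part, eG]⟩)
      (fun a b ha hb' ⟨u, hu⟩ ⟨v, hv'⟩ => ⟨u * v, by rw [← q.qel_mul ha hb', hu, hv']; rfl⟩)
  choose! qm hqm using hqQ
  have hqcard : ∀ w : Q, ∃ a, a < 128 ∧ qel eG t a = ((w : Subgroup.centralizer ({t} : Set G)) : G) := by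
    have hb' : Function.Bijective fun a : Fin 128 => qm a := (Nat.bijective_iff_injective_and_card _).2
      ⟨fun a b hab => Fin.ext (q.qel_injective a.2 b.2 (by
        rw [hqm a a.2, hqm b b.2]; exact congrArg (fun x : Q => ((x : Subgroup.centralizer ({t} : Set G)) : G)) hab)),
        by rw [Nat.card_fin, hcard]; norm_num⟩
    intro w
    obtain ⟨a, ha⟩ := hb'.2 w
    exact ⟨a, a.2, by rw [hqm a a.2]; exact congrArg (fun x : Q => ((x : Subgroup.centralizer ({t} : Set G)) : G)) ha⟩
  have hExt : Ext eG t :=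
    { q := q
      com := fun i _ => hcomQ (bq i)
      norm := fun g hg i _ => by
        obtain ⟨a, ha, he⟩ := hqcard ⟨⟨g, Subgroup.mem_centralizer_singleton_iff.2 hg.eq⟩ * (bq i) *
          (⟨g, Subgroup.mem_centralizer_singleton_iff.2 hg.eq⟩ : Subgroup.centralizer ({t} : Set G))⁻¹,
          (inferInstance : Q.Normal).conj_mem _ (bq i).2 _⟩
        exact ⟨a, ha, by rw [he]; rfl⟩
      cent := fun g hg hc => by
        have hall : ∀ a, a < 128 → Commute g (qel eG t a) := Tables.qel_gens q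
          (by rw [QGens.qel_zero]; exact Commute.one_right g) (by rw [QGens.qel_one]; exact hg)
          (fun i hi => by
            rw [show qel eG t (2 * 2 ^ i) = eG i by interval_cases i <;> simp [qel, part]]
            exact hc i hi)
          (fun a b ha hb' h1 h2 => by rw [← q.qel_mul ha hb']; exact h1.mul_right h2)
        have hmem : (⟨g, Subgroup.mem_centralizer_singleton_iff.2 hg.eq⟩ : Subgroup.centralizer ({t} : Set G)) ∈ Q :=
          h2c (Subgroup.mem_centralizer_iff.2 fun w hw => by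
            obtain ⟨a, ha, he⟩ := hqcard ⟨w, hw⟩
            refine Subtype.ext ?_
            show (w : G) * g = g * (w : G)
            rw [← show qel eG t a = (w : G) from he]
            exact (hall a ha).symm.eq)
        obtain ⟨a, ha, he⟩ := hqcard ⟨_, hmem⟩
        exact ⟨a, ha, he.symm⟩ }
  -- the lifts
  let a0 := a32
  let b0 := b32
  obtain ⟨xc, hxc⟩ := QuotientGroup.mk'_surjective Q (e.symm a0)
  obtain ⟨yc, hyc⟩ := QuotientGroup.mk'_surjective Q (e.symm b0)
  let π : Subgroup.centralizer ({t} : Set G) →* Matrix.SpecialLinearGroup (Fin 3) (ZMod 2) :=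
    e.toMonoidHom.comp (QuotientGroup.mk' Q)
  have hπx : π xc = a0 := by show e (QuotientGroup.mk' Q xc) = a0; rw [hxc, e.apply_symm_apply]
  have hπy : π yc = b0 := by show e (QuotientGroup.mk' Q yc) = b0; rw [hyc, e.apply_symm_apply]
  have inQ : ∀ g : Subgroup.centralizer ({t} : Set G), π g = 1 ↔ InQ eG t (g : G) := fun g => by
    constructor
    · intro hg
      obtain ⟨a, ha, he⟩ := hqcard ⟨g, (QuotientGroup.eq_one_iff g).1 (e.map_eq_one_iff.1 hg)⟩
      exact ⟨a, ha, he.symm⟩
    · rintro ⟨a, ha, he⟩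
      have hg : g ∈ Q := by
        rw [show g = (qm a : Subgroup.centralizer ({t} : Set G)) from Subtype.ext (he.trans (hqm a ha))]
        exact (qm a).2
      show e _ = 1
      rw [e.map_eq_one_iff]
      exact (QuotientGroup.eq_one_iff g).2 hg
  have hw : ∀ w : List Nat, Tables.lprod (xc : G) (yc : G) w =
      ((Tables.lprod xc yc w : Subgroup.centralizer ({t} : Set G)) : G) ∧
      π (Tables.lprod xc yc w) = Tables.lprod a0 b0 w := by
    intro w
    induction w with
    | nil => simp [Tables.lprod]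
    | cons l w ih =>
      rw [lprod_cons, lprod_cons, lprod_cons, map_mul, ih.2, ih.1]
      constructor
      · simp only [Tables.lt]; split_ifs <;> rfl
      · congr 1
        simp only [Tables.lt]; split_ifs <;> simp [hπx, hπy]
  obtain ⟨T, m, y', hE', hxA, hyB⟩ := normal_form hExt (x := (xc : G)) (y := (yc : G))
    (Subgroup.mem_centralizer_singleton_iff.1 xc.2) (Subgroup.mem_centralizer_singleton_iff.1 yc.2)
    (fun w hw' => by
      rw [(hw w).1]
      exact (inQ _).1 ((hw w).2.trans (ab32.2.2 w hw')))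
    (fun hq => by
      have := (inQ xc).2 hq
      rw [hπx] at this
      exact ab32.1 this)
    (fun hq => by
      have := (inQ yc).2 hq
      rw [hπy] at this
      exact ab32.2.1 this)
  cases m
  · exact model7 hE' hxA hyB hC
  · exact model8 hE' hxA hyB hC

end Cfsg.Agent.HeRecog
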