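import Mathlib

/-!
When the conjugates of an involution commuting with it lie in a subgroup of 16 pairwise commuting
conjugates, the number of these subgroups is one modulo 16.
-/

set_option autoImplicit false
set_option linter.all false

namespace Cfsg.Agent.HeRecog

open Subgroup

variable {G : Type*} [Group G] [Finite G]

/-- The counting congruence. -/
theorem block_count {t : G} (ht2 : t * t = 1) (A : Subgroup G) (hcard : Nat.card A = 16) (htA : t ∈ A)
    (ht1 : t ≠ 1) (hab : ∀ a ∈ A, ∀ b ∈ A, Commute a b) (hconj : ∀ a ∈ A, a ≠ 1 → IsConj t a)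
    (hcl : ∀ s, IsConj t s → Commute s t → s ∈ A) :
    ∃ n, n % 16 = 1 ∧ Nat.card G = n * (15 * Nat.card (centralizer ({t} : Set G))) := by
  set N := normalizer (A : Set G) with hN
  have hblock : ∀ g, g * t * g⁻¹ ∈ A → g ∈ N := by
    intro g hg
    have hsub : ∀ a ∈ A, g⁻¹ * a * g ∈ A := by
      intro a ha
      by_cases h1 : a = 1
      · subst h1; simp
      refine hcl _ ((hconj a ha h1).trans (isConj_iff.2 ⟨g⁻¹, by group⟩)) ?_
      have := (Commute.conj_iff g⁻¹).2 (hab a ha _ hg)
      simpa [mul_assoc] using this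
    let f : A → A := fun a => ⟨g⁻¹ * a * g, hsub a a.2⟩
    have hf : Function.Injective f := fun a b h => Subtype.ext (by
      have := congrArg Subtype.val h
      simpa [f] using this)
    refine Subgroup.mem_normalizer_iff.2 fun y => ⟨fun hy => ?_, fun hy => ?_⟩
    · obtain ⟨a, ha⟩ := (Finite.injective_iff_surjective.1 hf) ⟨y, hy⟩
      have : g⁻¹ * (a : G) * g = y := congrArg Subtype.val ha
      rw [← this]
      simp [mul_assoc]
    · have := hsub _ hy
      simpa [mul_assoc] using this
  have hCN : centralizer ({t} : Set G) ≤ N := fun c hc => hblock c (by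
    rw [mem_centralizer_singleton_iff.1 hc, mul_inv_cancel_right]; exact htA)
  have htrans : ∀ a ∈ A, a ≠ 1 → ∃ n ∈ N, n * t * n⁻¹ = a := fun a ha h1 => by
    obtain ⟨g, hg⟩ := isConj_iff.1 (hconj a ha h1)
    exact ⟨g, hblock g (hg ▸ ha), hg⟩
  -- the order of the normaliser
  let fN : ↥N → {a : A // (a : G) ≠ 1} := fun n =>
    ⟨⟨(n : G) * t * (n : G)⁻¹, (Subgroup.mem_normalizer_iff.1 n.2 t).1 htA⟩,
      fun e => ht1 (conj_eq_one_iff.1 e)⟩
  have hfib : ∀ n n' : ↥N, fN n = fN n' ↔ n⁻¹ * n' ∈ (centralizer ({t} : Set G)).subgroupOf N := by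
    intro n n'
    rw [mem_subgroupOf, mem_centralizer_singleton_iff, Subtype.ext_iff, Subtype.ext_iff]
    simp only [fN, Subgroup.coe_mul, Subgroup.coe_inv]
    constructor
    · intro h
      calc (n : G)⁻¹ * n' * t = (n : G)⁻¹ * ((n' : G) * t * (n' : G)⁻¹) * n' := by group
        _ = t * ((n : G)⁻¹ * n') := by rw [← h]; group
    · intro h
      calc (n : G) * t * (n : G)⁻¹ = n * (t * ((n : G)⁻¹ * n')) * (n' : G)⁻¹ := by group
        _ = _ := by rw [← h]; group
  have hcardN : Nat.card N = 15 * Nat.card (centralizer ({t} : Set G)) := by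
    have e : ↥N ⧸ (centralizer ({t} : Set G)).subgroupOf N ≃ {a : A // (a : G) ≠ 1} := by
      refine Equiv.ofBijective (Quotient.lift fN fun a b hab => (hfib a b).2
        (QuotientGroup.leftRel_apply.1 hab)) ⟨?_, ?_⟩
      · intro a b
        induction a using Quotient.inductionOn with
        | _ a => induction b using Quotient.inductionOn with
          | _ b => exact fun h => Quotient.sound (QuotientGroup.leftRel_apply.2 ((hfib a b).1 h))
      · rintro ⟨⟨a, ha⟩, h1⟩
        obtain ⟨n, hn, hna⟩ := htrans a ha h1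
        exact ⟨Quotient.mk _ ⟨n, hn⟩, Subtype.ext (Subtype.ext hna)⟩
    have h15 : Nat.card {a : A // (a : G) ≠ 1} = 15 := by
      classical
      have := Fintype.ofFinite ↥A
      rw [Nat.card_eq_fintype_card, Fintype.card_subtype_compl, ← Nat.card_eq_fintype_card, hcard]
      rw [Fintype.card_subtype]
      have : (Finset.univ.filter fun a : ↥A => (a : G) = 1) = {1} := by
        ext a; simp
      rw [this]; rfl
    rw [Subgroup.card_eq_card_quotient_mul_card_subgroup ((centralizer ({t} : Set G)).subgroupOf N),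
      Nat.card_congr e, h15, Nat.card_congr (Subgroup.subgroupOfEquivOfLe hCN).toEquiv]
  -- only one point has a stabiliser
  have hfree : ∀ (a : G) (g : G), a ∈ A → a ≠ 1 → g⁻¹ * a * g ∈ N → g ∈ N := by
    intro a g ha h1 hx
    set x := g⁻¹ * a * g with hxdef
    have hxA : x ∈ A := by
      have hxx : x * x = 1 := by
        obtain ⟨k, hk⟩ := isConj_iff.1 (hconj a ha h1)
        rw [hxdef, ← hk]
        calc g⁻¹ * (k * t * k⁻¹) * g * (g⁻¹ * (k * t * k⁻¹) * g) = g⁻¹ * (k * (t * t) * k⁻¹) * g := by group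
          _ = 1 := by rw [ht2]; group
      obtain ⟨b, hb, hb1, hbx⟩ : ∃ b ∈ A, b ≠ 1 ∧ Commute x b := by
        by_cases h : Commute x t
        · exact ⟨t, htA, ht1, h⟩
        have htx : x * t * x⁻¹ ∈ A := (Subgroup.mem_normalizer_iff.1 hx t).1 htA
        have hxi : x⁻¹ = x := inv_eq_of_mul_eq_one_right hxx
        refine ⟨t * (x * t * x⁻¹), A.mul_mem htA htx, fun e => h ?_, ?_⟩
        · have e' : x * t * x⁻¹ = t := by
            rw [← inv_eq_of_mul_eq_one_right e, inv_eq_of_mul_eq_one_right ht2]
          exact mul_inv_eq_iff_eq_mul.1 e'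
        · have hc := hab t htA _ htx
          refine mul_inv_eq_iff_eq_mul.1 ?_
          calc x * (t * (x * t * x⁻¹)) * x⁻¹ = x * t * x⁻¹ * ((x * x) * t * (x * x)⁻¹) := by group
            _ = t * (x * t * x⁻¹) := by rw [hxx, one_mul, inv_one, mul_one, hc.eq]
      obtain ⟨n, hn, hnb⟩ := htrans b hb hb1
      have h2 : n⁻¹ * x * n ∈ A := by
        refine hcl _ ((hconj a ha h1).trans (isConj_iff.2 ⟨n⁻¹ * g⁻¹, by rw [hxdef]; group⟩)) ?_
        have := (Commute.conj_iff n⁻¹).2 hbx
        rw [← hnb] at this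
        simpa [mul_assoc] using this
      have := (Subgroup.mem_normalizer_iff.1 hn _).1 h2
      simpa [mul_assoc] using this
    have hx1 : x ≠ 1 := fun e => h1 (by
      calc a = g * x * g⁻¹ := by rw [hxdef]; group
        _ = 1 := by rw [e]; group)
    obtain ⟨n, hn, hna⟩ := htrans a ha h1
    obtain ⟨m, hm, hmx⟩ := htrans x hxA hx1
    have hk : n⁻¹ * g * m ∈ centralizer ({t} : Set G) := by
      rw [mem_centralizer_singleton_iff]
      calc n⁻¹ * g * m * t = n⁻¹ * g * (m * t * m⁻¹) * m := by group
        _ = n⁻¹ * (n * t * n⁻¹) * g * m := by rw [hmx, hna, hxdef]; group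
        _ = t * (n⁻¹ * g * m) := by group
    have := N.mul_mem (N.mul_mem hn (hCN hk)) (N.inv_mem hm)
    simpa [mul_assoc] using this
  refine ⟨N.index, ?_, by rw [← hcardN, mul_comm, Subgroup.card_mul_index]⟩
  -- orbits away from the base
  set base : G ⧸ N := ((1 : G) : G ⧸ N) with hbase
  let P := {p : G ⧸ N // p ≠ base}
  have hmem : ∀ (a : A) (p : P), (a : G) • (p : G ⧸ N) ≠ base := by
    rintro a ⟨p, hp⟩ h
    apply hp
    have : p = (a : G)⁻¹ • base := by rw [← h, inv_smul_smul]
    rw [this, hbase, MulAction.Quotient.smul_coe]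
    show ((( (a : G)⁻¹ * 1 : G)) : G ⧸ N) = _
    rw [mul_one]
    exact (QuotientGroup.eq.2 (by simpa using Subgroup.le_normalizer a.2)).symm
  let _ : MulAction A P :=
    { smul := fun a p => ⟨(a : G) • (p : G ⧸ N), hmem a p⟩
      one_smul := fun p => Subtype.ext (one_smul G (p : G ⧸ N))
      mul_smul := fun a b p => Subtype.ext (mul_smul (a : G) (b : G) (p : G ⧸ N)) }
  have horb : ∀ p : P, Nat.card (MulAction.orbit A p) = 16 := by
    intro p
    have hstab : MulAction.stabilizer A p = ⊥ := by
      refine (Subgroup.eq_bot_iff_forall _).2 fun a ha => ?_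
      by_contra h1
      obtain ⟨g, hg⟩ := QuotientGroup.mk_surjective (p : G ⧸ N)
      have e : (a : G) • (p : G ⧸ N) = p := congrArg Subtype.val (MulAction.mem_stabilizer_iff.1 ha)
      rw [← hg, MulAction.Quotient.smul_coe, QuotientGroup.eq] at e
      apply p.2
      have e' := N.inv_mem e
      simp only [mul_inv_rev, inv_inv, smul_eq_mul] at e'
      rw [← hg, hbase, QuotientGroup.eq]
      have := hfree a g a.2 (fun h => h1 (Subtype.ext h)) (by simpa [mul_assoc] using e')
      simpa using this
    rw [Nat.card_congr (MulAction.orbitEquivQuotientStabilizer A p), hstab]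
    rw [← Subgroup.index, Subgroup.index_bot, hcard]
  have hP : 16 ∣ Nat.card P := by
    have := Fintype.ofFinite (Quotient (MulAction.orbitRel A P))
    rw [Nat.card_congr (MulAction.selfEquivSigmaOrbits A P), Nat.card_sigma]
    exact Finset.dvd_sum fun o _ => by rw [horb]
  have hidx : N.index = Nat.card P + 1 := by
    classical
    have := Fintype.ofFinite (G ⧸ N)
    have hpos : 0 < Fintype.card (G ⧸ N) := Fintype.card_pos
    rw [Subgroup.index, Nat.card_eq_fintype_card, Nat.card_eq_fintype_card, Fintype.card_subtype_compl,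
      Fintype.card_subtype_eq]
    omega
  omega

end Cfsg.Agent.HeRecog
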