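import Cfsg.Agent.HeRecog.Fusion
import Cfsg.Agent.HeRecog.TI

/-! Small fusion: an isolated involution, or a block of sixteen. -/

set_option autoImplicit false
set_option linter.all false

namespace Cfsg.Agent.HeRecog

open Cfsg.Agent.CosetCert

namespace Classes

variable {D : Tables} {K : Classes} {G : Type*} [Group G] [Finite G] {t : G}

/-- The whole group cannot be the centraliser. -/
theorem not_center [IsSimpleGroup G] (hC : Nat.card (Subgroup.centralizer ({t} : Set G)) = 21504)
    (hG : Nat.card G = 4030387200) : t ∉ Subgroup.center G := by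
  intro h
  have e : Subgroup.centralizer ({t} : Set G) = ⊤ := eq_top_iff.2 fun g _ =>
    Subgroup.mem_centralizer_singleton_iff.2 (Subgroup.mem_center_iff.1 h g)
  rw [e, Subgroup.card_top, hG] at hC
  omega

/-- Some allowed class is fused. -/
theorem exists_fused [IsSimpleGroup G] (co : Coord D t) (hK : K.Valid D) (ht : orderOf t = 2)
    (hC : Nat.card (Subgroup.centralizer ({t} : Set G)) = 21504) (hG : Nat.card G = 4030387200) :
    ∃ k, k ∈ K.allowed ∧ IsConj t (co.ψ (K.rep k)) := by
  by_contra hne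
  refine not_center hC hG (isolated_central ht fun s hs hst => ?_)
  obtain ⟨c, hc, rfl⟩ := co.surj s hst
  by_contra hct
  obtain ⟨k, e, -, hk, hconj⟩ := fused_class co hK ht hc (fun e => hct (by rw [e, co.one])) hs
  exact hne ⟨k, hk, hconj⟩

/-- Sixteen codes forming the block. -/
noncomputable def checkBlock (K : Classes) (D : Tables) (k : Nat) (A : List Nat) : Bool :=
  Nat.beq A.length 16 && (A.contains 0 && (A.contains 1 &&
    (A.all (fun a => Nat.blt a 21504 && (Nat.beq a 0 || (Nat.beq a 1 || K.tab.any fun e => Nat.beq e.1 a && Nat.beq e.2.1 k))) &&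
      (K.tab.all (fun e => !Nat.beq e.2.1 k || A.contains e.1) &&
        (A.all fun a => A.all fun b => A.contains (D.mul a b) && Nat.beq (D.mul a b) (D.mul b a))))))

/-- A single fused class forming a block is impossible. -/
theorem block_absurd (co : Coord D t) (hK : K.Valid D) (ht : orderOf t = 2)
    (hC : Nat.card (Subgroup.centralizer ({t} : Set G)) = 21504) (hG : Nat.card G = 4030387200) {k : Nat}
    (honly : ∀ j ∈ K.allowed, IsConj t (co.ψ (K.rep j)) → j = k) (hfus : IsConj t (co.ψ (K.rep k)))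
    {A : List Nat} (hnd : A.Nodup) (hA : checkBlock K D k A = true) : False := by
  classical
  simp only [checkBlock, Bool.and_eq_true, List.all_eq_true, List.contains_iff_mem] at hA
  obtain ⟨hlen, h0, h1, hel, htab, hmul⟩ := hA
  have hlt : ∀ a ∈ A, a < 21504 := fun a ha => Nat.ble_eq.mp (hel a ha).1
  have hsub : ∀ a ∈ A, ∀ b ∈ A, D.mul a b ∈ A ∧ co.ψ a * co.ψ b = co.ψ (D.mul a b) ∧ Commute (co.ψ a) (co.ψ b) :=
    fun a ha b hb => ⟨(hmul a ha b hb).1, (co.mul a b (hlt a ha) (hlt b hb)).symm, by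
      show co.ψ a * co.ψ b = co.ψ b * co.ψ a
      rw [← co.mul a b (hlt a ha) (hlt b hb), ← co.mul b a (hlt b hb) (hlt a ha),
        Nat.eq_of_beq_eq_true (hmul a ha b hb).2]⟩
  let S : Set G := {g | ∃ a ∈ A, co.ψ a = g}
  have hone : (1 : G) ∈ S := ⟨0, h0, co.zero⟩
  have hclosed : ∀ g ∈ S, ∀ h ∈ S, g * h ∈ S := by
    rintro _ ⟨a, ha, rfl⟩ _ ⟨b, hb, rfl⟩
    exact ⟨_, (hsub a ha b hb).1, (hsub a ha b hb).2.1.symm⟩
  let M : Submonoid G := { carrier := S, one_mem' := hone, mul_mem' := fun {a b} ha hb => hclosed a ha b hb }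
  let B : Subgroup G :=
    { M with
      inv_mem' := fun {g} hg => by
        have hp : g ^ (orderOf g - 1) ∈ M := M.pow_mem hg _
        have he : g⁻¹ = g ^ (orderOf g - 1) := by
          refine inv_eq_of_mul_eq_one_right ?_
          rw [← pow_succ', Nat.sub_add_cancel (orderOf_pos g), pow_orderOf_eq_one]
        show g⁻¹ ∈ M
        rw [he]; exact hp }
  have hmem : ∀ g, g ∈ B ↔ ∃ a ∈ A, co.ψ a = g := fun g => Iff.rfl
  have hcard : Nat.card B = 16 := by
    have e : A.toFinset.card = 16 := by rw [List.toFinset_card_of_nodup hnd]; exact Nat.eq_of_beq_eq_true hlen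
    rw [← e, ← Nat.card_eq_finsetCard]
    symm
    refine Nat.card_eq_of_bijective (fun a : A.toFinset => (⟨co.ψ a.1, a.1, List.mem_toFinset.1 a.2, rfl⟩ : B)) ⟨?_, ?_⟩
    · rintro ⟨a, ha⟩ ⟨b, hb⟩ hab
      exact Subtype.ext (co.inj a b (hlt a (List.mem_toFinset.1 ha)) (hlt b (List.mem_toFinset.1 hb))
        (congrArg Subtype.val hab))
    · rintro ⟨g, a, ha, rfl⟩
      exact ⟨⟨a, List.mem_toFinset.2 ha⟩, rfl⟩
  have htt : t * t = 1 := by rw [← pow_two, ← ht, pow_orderOf_eq_one]
  have ht1 : t ≠ 1 := fun e => by rw [e, orderOf_one] at ht; omega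
  obtain ⟨n, hn, hnG⟩ := block_count htt B hcard ((hmem t).2 ⟨1, h1, co.one⟩) ht1
    (by rintro _ ⟨a, ha, rfl⟩ _ ⟨b, hb, rfl⟩; exact (hsub a ha b hb).2.2)
    (by
      rintro _ ⟨a, ha, rfl⟩ hne
      have h := (hel a ha).2
      simp only [Bool.or_eq_true, List.any_eq_true, Bool.and_eq_true] at h
      rcases h with h | h | ⟨⟨c, j, e⟩, hm, hc, hj⟩
      · exact absurd (by rw [Nat.eq_of_beq_eq_true h, co.zero]) hne
      · rw [Nat.eq_of_beq_eq_true h, co.one]
      · obtain rfl := Nat.eq_of_beq_eq_true hc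
        obtain rfl := Nat.eq_of_beq_eq_true hj
        have he := List.all_eq_true.1 hK.entries _ hm
        simp only [checkEntry, Bool.and_eq_true] at he
        obtain ⟨hc', he', hk', heq⟩ := he
        have hr := Tables.all_lt hK.count (Nat.ble_eq.mp hk')
        simp only [checkCount, Bool.and_eq_true] at hr
        refine hfus.trans (isConj_iff.2 ⟨co.ψ e, ?_⟩)
        rw [mul_inv_eq_iff_eq_mul, ← co.mul _ _ (Nat.ble_eq.mp he') (Nat.ble_eq.mp hr.1),
          ← co.mul _ _ (Nat.ble_eq.mp hc') (Nat.ble_eq.mp he'), Nat.eq_of_beq_eq_true heq])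
    (by
      intro s hs hst
      obtain ⟨c, hc, rfl⟩ := co.surj s hst
      by_cases hc1 : c = 1
      · exact ⟨1, h1, by rw [hc1]⟩
      obtain ⟨j, e, hm, hj, hjc⟩ := fused_class co hK ht hc hc1 hs
      have h := htab _ hm
      simp only [honly j hj hjc, Bool.or_eq_true, Bool.not_eq_true', ← Bool.not_eq_true] at h
      rcases h with h | h
      · exact absurd (Nat.beq_refl k) h
      · exact ⟨c, List.contains_iff_mem.1 h, rfl⟩)
  rw [hG, hC] at hnG
  omega

end Classes

end Cfsg.Agent.HeRecog
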