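import Cfsg.Agent.HeRecog.HeIdent
import Cfsg.Agent.HeRecog.Small

/-! Contradictions from certificates. -/

set_option autoImplicit false
set_option linter.all false

namespace Cfsg.Agent.HeRecog

open Cfsg.Agent.CosetCert

namespace Letters

variable {L : Letters} {P : PairData} {D : Tables} {K : Classes} {G : Type*} [Group G] [Finite G] {t : G}
  {co : Coord D t} {x y m l : G}

/-- The marked set cannot be stabilised by a letter outside. -/
theorem collapse (h : L.Ok P K co x y m l) {RS : List RelSpec} (hRS : RS.all (L.check P D) = true)
    {C : Data} (hC : C.MemValid) {SS : List SubSpec} (hF : Fits C RS (SS.map SubSpec.word))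
    (hSW : ((SS.map SubSpec.word).all fun w => w.all fun a => Nat.blt a 28) = true) {n items : Nat}
    (hwalk : walk C.F C.iv C.K C.Nf n items 0 (pack (([7].map Letters.dec14).map (Data.code C.iv encL))) = stop 0 0)
    {M : Mark} (hfirst : SS.all Mark.first = true) (hSS : SS.all (M.check L P D) = true)
    (hout : M.stabC L P D (L.gens 7) = false) : False :=
  Mark.outside h (by norm_num) hout
    (mem_of_walk h hRS hC hF hSW (by decide) hwalk (Mark.gens_mem h (Or.inr hfirst) hSS rfl))

/-- An element of prime order modulo the stabiliser forces the prime to divide the order. -/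
theorem order_dvd (h : L.Ok P K co x y m l) {RS : List RelSpec} (hRS : RS.all (L.check P D) = true)
    {SS : List SubSpec} {word : List Nat} (hword : (word.all fun a => Nat.blt a 28) = true)
    {M : Mark} (hfirst : SS.all Mark.first = true) (hSS : SS.all (M.check L P D) = true)
    (hout : M.stabC L P D (L.gens 7) = false)
    {C : Data} (hC : C.MemValid) (hF : Fits C RS (SS.map SubSpec.word ++ [word]))
    (hSW : ((SS.map SubSpec.word).all fun w => w.all fun a => Nat.blt a 28) = true) {n items : Nat}
    (hwalk : walk C.F C.iv C.K C.Nf n items 0 (pack (([7].map Letters.dec14).map (Data.code C.iv encL))) = stop 0 0)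
    {p : Nat} (hp : p.Prime) {C' : Data} (hC' : C'.MemValid) (hF' : Fits C' RS (SS.map SubSpec.word))
    {n' items' : Nat} (hwalk' : walk C'.F C'.iv C'.K C'.Nf n' items' 0
      (pack (((List.replicate p word).flatten.map Letters.dec14).map (Data.code C'.iv encL))) = stop 0 0) :
    p ∣ Nat.card G := by
  have hS := Mark.gens_mem h (Or.inr hfirst) hSS (SW := SS.map SubSpec.word) rfl
  refine dvd_of_pow_mem (S := M.stabilizer L co) (g := wev (L.val co m l) word) hp ?_ fun hw => ?_
  · rw [← wev_replicate]
    refine mem_of_walk h hRS hC' hF' hSW ?_ hwalk' hS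
    refine List.all_eq_true.2 fun a ha => ?_
    obtain ⟨u, hu, hau⟩ := List.mem_flatten.1 ha
    exact List.all_eq_true.1 hword a (List.eq_of_mem_replicate hu ▸ hau)
  · refine Mark.outside h (by norm_num) hout (mem_of_walk h hRS hC hF ?_ (by decide) hwalk fun w hw' => ?_)
    · rw [List.all_append, hSW, List.all_cons, List.all_nil, hword]; rfl
    · rcases List.mem_append.1 hw' with e | e
      · exact hS w e
      · rw [List.mem_singleton.1 e]; exact hw

end Letters

end Cfsg.Agent.HeRecog
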