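import Cfsg.Agent.HeRecog.Rels

/-!
The subgroup generated by the centraliser and the letter `m` contains the normalizers of the two elementary
subgroups: the orbit of the involution under it covers the marked vectors.
-/

set_option autoImplicit false
set_option linter.all false

namespace Cfsg.Agent.HeRecog

open Cfsg.Agent.CosetCert

/-- The subgroup generated by the centraliser of `t` and `m`. -/
def gen {G : Type*} [Group G] (t m : G) : Subgroup G :=
  Subgroup.closure ((Subgroup.centralizer ({t} : Set G) : Set G) ∪ {m})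

theorem cent_le_gen {G : Type*} [Group G] (t m : G) : Subgroup.centralizer ({t} : Set G) ≤ gen t m :=
  fun _ h => Subgroup.subset_closure (Or.inl h)

theorem mem_gen {G : Type*} [Group G] (t m : G) : m ∈ gen t m := Subgroup.subset_closure (Or.inr rfl)

namespace Side

variable (S : Side) (P : PairData) (D : Tables)

/-- A step of the orbit: the vector `p.1` goes to `p.2.1` by the map of `m`, or by the code `p.2.2`. -/
noncomputable def orbOk : List (Nat × Nat × Nat) → Nat → Bool
  | [], seen => allFrom (fun v => !Nat.testBit S.U.O v || Nat.testBit seen v) 0 64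
  | p :: ps, seen => Nat.testBit seen p.1 && (Nat.blt p.1 64 && (Nat.blt p.2.1 64 &&
      ((cond (Nat.beq p.2.2 21504) (Nat.beq (S.mat 2 p.1) p.2.1)
        (Nat.blt p.2.2 21504 && Nat.beq (P.cj D p.2.2 (S.X.el p.1)) (S.X.el p.2.1))) &&
          orbOk ps (seen ||| 2 ^ p.2.1))))

variable {S P D} {K : Classes} {G : Type*} [Group G] [Finite G] {t : G} {co : Coord D t}

theorem orb_spec (hX : S.X.Valid D K) (hP : P.Valid D K) {M : Subgroup G}
    (hC : Subgroup.centralizer ({t} : Set G) ≤ M) {m : G} (hm : m ∈ M) (hind : S.X.Induces co m (S.mat 2)) :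
    ∀ (ps : List (Nat × Nat × Nat)) (seen : Nat), S.orbOk P D ps seen = true →
      (∀ v, v < 64 → seen.testBit v = true → ∃ w ∈ M, w * t * w⁻¹ = S.X.E co v) →
      ∀ v, v < 64 → S.U.O.testBit v = true → ∃ w ∈ M, w * t * w⁻¹ = S.X.E co v
  | [], seen, h, hseen => fun v hv hb => by
    simp only [orbOk] at h
    have := Tables.all_lt h hv
    rw [hb] at this
    exact hseen v hv (by simpa using this)
  | p :: ps, seen, h, hseen => by
    simp only [orbOk, Bool.and_eq_true] at h
    obtain ⟨hp, h1, h2, h3, hrest⟩ := h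
    have h1 := Nat.ble_eq.mp h1
    have h2 := Nat.ble_eq.mp h2
    obtain ⟨w, hw, hwv⟩ := hseen _ h1 hp
    have hnew : ∃ w ∈ M, w * t * w⁻¹ = S.X.E co p.2.1 := by
      cases hb : Nat.beq p.2.2 21504
      · simp only [hb, cond_false, Bool.and_eq_true] at h3
        have hc := Nat.ble_eq.mp h3.1
        obtain ⟨-, e⟩ := PairData.cj_spec hP co hc (EData.el_lt hX h1)
        rw [Nat.eq_of_beq_eq_true h3.2] at e
        refine ⟨co.ψ p.2.2 * w, M.mul_mem (hC (Subgroup.mem_centralizer_singleton_iff.2 (co.mem _ hc).eq)) hw, ?_⟩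
        show _ = co.ψ _
        rw [e]
        show _ = co.ψ p.2.2 * S.X.E co p.1 * (co.ψ p.2.2)⁻¹
        rw [← hwv]; group
      · simp only [hb, cond_true] at h3
        refine ⟨m * w, M.mul_mem hm hw, ?_⟩
        rw [← Nat.eq_of_beq_eq_true h3, ← (hind _ h1).2, ← hwv]; group
    refine orb_spec hX hP hC hm hind ps _ hrest fun v hv hb => ?_
    rw [Nat.testBit_or, Bool.or_eq_true, Nat.testBit_two_pow, decide_eq_true_iff] at hb
    rcases hb with hb | rfl
    · exact hseen v hv hb
    · exact hnew

/-- The normalizer lies in the generated subgroup. -/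
theorem norm_mem (hX : S.X.Valid D K) (hP : P.Valid D K) (hF : Fused S.U S.X co) {M : Subgroup G}
    (hC : Subgroup.centralizer ({t} : Set G) ≤ M) {m : G} (hm : m ∈ M) (hind : S.X.Induces co m (S.mat 2))
    (h1 : S.U.O.testBit 1 = true) {ps : List (Nat × Nat × Nat)} (hps : S.orbOk P D ps 2 = true)
    {n : G} {f : Nat → Nat} (hn : S.X.Induces co n f) : n ∈ M := by
  obtain ⟨w, hw, hwv⟩ := orb_spec hX hP hC hm hind ps 2 hps (fun v hv hb => by
    have : v = 1 := by
      rw [show (2 : Nat) = 2 ^ 1 from rfl, Nat.testBit_two_pow, decide_eq_true_iff] at hb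
      omega
    subst this
    exact ⟨1, M.one_mem, by rw [EData.E_one co hX]; group⟩) (f 1) (hn 1 (by norm_num)).1
      (by rw [(Fused.pres hF hX hn).O 1 (by norm_num)]; exact h1)
  have hnt : n * t * n⁻¹ = S.X.E co (f 1) := by
    rw [← (hn 1 (by norm_num)).2, EData.E_one co hX]
  have : w⁻¹ * n ∈ Subgroup.centralizer ({t} : Set G) := by
    rw [Subgroup.mem_centralizer_singleton_iff]
    calc w⁻¹ * n * t = w⁻¹ * (n * t * n⁻¹) * n := by group
      _ = w⁻¹ * (w * t * w⁻¹) * n := by rw [hnt, hwv]
      _ = t * (w⁻¹ * n) := by group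
  simpa using M.mul_mem hw (hC this)

end Side

namespace Letters

variable {L : Letters} {P : PairData} {D : Tables} {K : Classes} {G : Type*} [Group G] [Finite G] {t : G}
  {co : Coord D t} {x y m l : G}

theorem l_mem_gen (h : L.Ok P K co x y m l) : l ∈ gen t m := by
  have hl : l = (L.B.X.E co L.e)⁻¹ * m := by rw [h.link, inv_mul_cancel_left]
  rw [hl]
  exact (gen t m).mul_mem ((gen t m).inv_mem (cent_le_gen t m (Subgroup.mem_centralizer_singleton_iff.2
    (co.mem _ (EData.el_lt h.BX h.e_lt)).eq))) (mem_gen t m)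

end Letters

end Cfsg.Agent.HeRecog
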