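import Cfsg.Agent.HeRecog.HeIdent
import Cfsg.Agent.HeRecog.Generated

/-! The comparison with the Held group for a group generated by the centraliser and one letter. -/

set_option autoImplicit false
set_option linter.all false

namespace Cfsg.Agent.HeRecog

open Cfsg.Agent.CosetCert

namespace HeData

variable {H : HeData} {L : Letters} {D : Tables} {P : PairData} {K : Classes} {G : Type*} [Group G] [Finite G] {t : G}
  {co : Coord D t} {x y m l : G}

/-- The Held group from the certificate. -/
theorem identify_top_of_ker (h : L.Ok P K co x y m l) {RS : List RelSpec} (hRS : RS.all (L.check P D) = true)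
    {C : Data} (hC : C.LogValid) (hn : C.n = 8330) {SS : List SubSpec} (hF : Fits C RS (SS.map SubSpec.word))
    {M : Mark} (hM : M.same L = true) (hSS : SS.all (M.check L P D) = true)
    (hcount : Nat.ble (countB (M.stabC L P D) 21504) 512 = true)
    (hi : H.checkImg = true) (hrels : H.checkRels RS = true) (honto : H.checkOnto = true)
    (hU : H.checkU (SS.map SubSpec.word) = true) (hconj : H.checkConj = true)
    (hpre : allFrom (H.checkPre L D) 0 21504 = true)
    (hcardC : Nat.card (Subgroup.centralizer ({t} : Set G)) = 21504) (htop : gen t m = ⊤)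
    (hkerQ : ∀ q : G →* Cfsg.Spor.He, Function.Surjective q →
      (∀ w : List Nat, (∀ a ∈ w, a < 28) → q (wev (L.val co m l) w) = HeFacts.elem (H.expand w)) → q.ker = ⊥) :
    Cfsg.Spor.IsoHe G := by
  classical
  have := HeFacts.finite_he
  obtain ⟨hsimp, hHe⟩ := HeOrder.order_and_simple
  set f : Fin 14 → G × Cfsg.Spor.He := fun b => (L.fval co m l b, HeFacts.elem (H.img b)) with hf
  have hfst : ∀ r : FreeGroup (Fin 14), (FreeGroup.lift f r).1 = FreeGroup.lift (L.fval co m l) r := fun r =>
    DFunLike.congr_fun (show (MonoidHom.fst G Cfsg.Spor.He).comp (FreeGroup.lift f) = FreeGroup.lift (L.fval co m l)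
      from FreeGroup.ext_hom _ _ fun b => by simp [hf]) r
  have hsnd : ∀ r : FreeGroup (Fin 14), (FreeGroup.lift f r).2 =
      FreeGroup.lift (fun b : Fin 14 => HeFacts.elem (H.img b)) r := fun r =>
    DFunLike.congr_fun (show (MonoidHom.snd G Cfsg.Spor.He).comp (FreeGroup.lift f) =
      FreeGroup.lift (fun b : Fin 14 => HeFacts.elem (H.img b)) from FreeGroup.ext_hom _ _ fun b => by simp [hf]) r
  have hrel : ∀ r ∈ wordRels (relWords RS), FreeGroup.lift f r = 1 := by
    intro r hr
    obtain ⟨w, hw, rfl⟩ := List.mem_map.1 hr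
    refine Prod.ext ?_ ?_
    · rw [hfst]; exact Letters.lift_rels h hRS w hw
    · rw [hsnd]
      obtain ⟨s, hs, rfl⟩ := List.mem_map.1 hw
      rw [lift_expand hi (Letters.word_lt (List.all_eq_true.1 hRS s hs)),
        elem_eq (List.all_eq_true.1 hrels s hs), HeFacts.elem_nil]
      rfl
  set Φ := PresentedGroup.toGroup hrel with hΦ
  have hΦmk : ∀ r, Φ (PresentedGroup.mk _ r) = FreeGroup.lift f r := fun r =>
    DFunLike.congr_fun (show Φ.comp (PresentedGroup.mk _) = FreeGroup.lift f from
      FreeGroup.ext_hom _ _ fun b => by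
        simp only [MonoidHom.comp_apply, FreeGroup.lift_apply_of]
        exact PresentedGroup.toGroup.of hrel) r
  set J := Φ.range with hJ
  -- the subgroup of the certificate
  set SP := Data.sub (wordRels (relWords RS)) ((rawWords (SS.map SubSpec.word)).map FreeGroup.mk) with hSP
  obtain ⟨hi0, hile⟩ := Data.index_le hC hF.spells
  rw [hn] at hile
  have hSPsurj : Function.Surjective Φ.rangeRestrict := MonoidHom.rangeRestrict_surjective Φ
  have hidx : (SP.map Φ.rangeRestrict).index ≤ 8330 :=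
    (Nat.le_of_dvd (Nat.pos_of_ne_zero hi0) (Subgroup.index_map_dvd (H := SP) hSPsurj)).trans hile
  have hcardJ : Nat.card J ≤ 8330 * Nat.card (SP.map Φ) := by
    rw [← Subgroup.card_mul_index (SP.map Φ.rangeRestrict), mul_comm]
    refine Nat.mul_le_mul hidx (le_of_eq ?_)
    have hm : (SP.map Φ.rangeRestrict).map J.subtype = SP.map Φ := by
      rw [Subgroup.map_map]; congr 1
    rw [← hm]
    exact Nat.card_congr (Subgroup.equivMapOfInjective _ _ (Subgroup.subtype_injective _)).toEquiv
  -- where the subgroup goes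
  set SG := M.stabilizer L co with hSG
  set U : Set Cfsg.Spor.He := {u | ∃ w ∈ H.uw, HeFacts.elem w = u} with hUdef
  set SH := Subgroup.normalizer U with hSH
  set G0 : Subgroup G := J.map (MonoidHom.fst G Cfsg.Spor.He) with hG0
  simp only [checkConj, Bool.and_eq_true] at hconj
  obtain ⟨hu7, hulen, hcw7, hcwlt, hcwlen, hcwcount⟩ := hconj
  have hgen : ∀ w, (∀ a ∈ w, a < 28) → (wev (L.val co m l) w, HeFacts.elem (H.expand w)) =
      FreeGroup.lift f (FreeGroup.mk (w.map Letters.dec14)) := fun w hw =>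
    Prod.ext (by rw [hfst, Letters.lift_word m l hw]) (by rw [hsnd, lift_expand hi hw])
  have hsubSH : ∀ w ∈ SS.map SubSpec.word, (∀ a ∈ w, a < 28) ∧ HeFacts.elem (H.expand w) ∈ SH := by
    intro w hw
    have hw' := List.all_eq_true.1 hU w hw
    simp only [Bool.and_eq_true] at hw'
    have h28 : ∀ a ∈ w, a < 28 := fun a ha => Nat.ble_eq.mp (List.all_eq_true.1 hw'.1 a ha)
    refine ⟨h28, ?_⟩
    have hmaps : ∀ u ∈ U, HeFacts.elem (H.expand w) * u * (HeFacts.elem (H.expand w))⁻¹ ∈ U := by
      rintro _ ⟨u, hu, rfl⟩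
      obtain ⟨u', hu', hsame⟩ := List.any_eq_true.1 (List.all_eq_true.1 hw'.2 u hu)
      refine ⟨u', hu', ?_⟩
      rw [← elem_eq hsame, HeFacts.elem_append, HeFacts.elem_append, elem_inv (img_lt hi h28)]
    refine Subgroup.mem_set_normalizer_iff.2 fun u => ⟨hmaps u, fun hu => ?_⟩
    let g : U → U := fun a => ⟨HeFacts.elem (H.expand w) * a * (HeFacts.elem (H.expand w))⁻¹, hmaps a a.2⟩
    have hg : Function.Injective g := fun a b hab => Subtype.ext (by
      have := congrArg Subtype.val hab
      simpa [g] using this)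
    obtain ⟨a, ha⟩ := (Finite.injective_iff_surjective.1 hg) ⟨_, hu⟩
    have ha' : HeFacts.elem (H.expand w) * (a : Cfsg.Spor.He) * (HeFacts.elem (H.expand w))⁻¹ = _ := congrArg Subtype.val ha
    rw [← mul_left_cancel (mul_right_cancel ha')]
    exact a.2
  have hSPle : SP.map Φ ≤ (SG.prod SH) ⊓ J := by
    refine le_inf ?_ (Subgroup.map_le_range Φ SP)
    rw [hSP, Data.sub, Subgroup.map_map, Subgroup.map_le_iff_le_comap, Subgroup.closure_le]
    intro r hr
    obtain ⟨w', hw', rfl⟩ := List.mem_map.1 hr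
    obtain ⟨w, hw, rfl⟩ := List.mem_map.1 hw'
    show Φ (PresentedGroup.mk _ _) ∈ SG.prod SH
    rw [hΦmk, ← hgen w (hsubSH w hw).1]
    exact ⟨Mark.gens_mem h (Or.inl hM) hSS rfl w hw, (hsubSH w hw).2⟩
  -- the projection onto the Held group
  have honto' : ∀ q : Cfsg.Spor.He, ∃ j ∈ J, j.2 = q := by
    have key : (⊤ : Subgroup Cfsg.Spor.He) ≤ J.map (MonoidHom.snd G Cfsg.Spor.He) := by
      rw [← PresentedGroup.closure_range_of, Subgroup.closure_le]
      rintro _ ⟨g, rfl⟩
      have hspec : ∀ j, j < 7 → HeFacts.elem [j] ∈ J.map (MonoidHom.snd G Cfsg.Spor.He) := by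
        intro j hj
        have hj' := Tables.all_lt honto hj
        simp only [Bool.and_eq_true] at hj'
        have h28 : ∀ a ∈ H.gens7.getD j [], a < 28 := fun a ha => Nat.ble_eq.mp (List.all_eq_true.1 hj'.1 a ha)
        refine ⟨_, ⟨PresentedGroup.mk _ (FreeGroup.mk ((H.gens7.getD j []).map Letters.dec14)), rfl⟩, ?_⟩
        show (Φ _).2 = _
        rw [hΦmk, ← hgen _ h28]
        exact elem_eq hj'.2
      have hall : ∀ g : Cfsg.Spor.He.Gen, ∃ j, j < 7 ∧ HeFacts.elem [j] = PresentedGroup.of g := fun g => by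
        refine ⟨HeSp44.enc g, (by cases g <;> decide), ?_⟩
        show PresentedGroup.mk _ (FreeGroup.mk [HeSp44.dec (HeSp44.enc g)]) = _
        cases g <;> rfl
      obtain ⟨j, hj, e⟩ := hall g
      exact e ▸ hspec j hj
    exact fun q => key (Subgroup.mem_top q)
  by_cases hL : ∀ q : Cfsg.Spor.He, ((1 : G), q) ∈ J → q = 1
  · -- a graph
    let p1 : J →* G := (MonoidHom.fst G Cfsg.Spor.He).comp J.subtype
    let p2 : J →* Cfsg.Spor.He := (MonoidHom.snd G Cfsg.Spor.He).comp J.subtype
    have hp1 : Function.Injective p1 := by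
      rw [injective_iff_map_eq_one]
      rintro ⟨⟨a, b⟩, hab⟩ ha
      change a = 1 at ha
      subst ha
      obtain rfl := hL b hab
      rfl
    have hp2 : Function.Surjective p2 := fun q => by
      obtain ⟨j, hj, e⟩ := honto' q
      exact ⟨⟨j, hj⟩, e⟩
    have hs1 : Function.Surjective p1 := by
      have key : gen t m ≤ G0 := by
        rw [gen, Subgroup.closure_le]
        rintro u (hu | hu)
        · obtain ⟨c, hc, rfl⟩ := co.surj u (Subgroup.mem_centralizer_singleton_iff.1 hu)
          refine pre_mem h hpre (fun g hg => ?_) _ c hc rfl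
          refine ⟨_, ⟨PresentedGroup.mk _ (FreeGroup.mk ([g].map Letters.dec14)), rfl⟩, ?_⟩
          show (Φ _).1 = _
          rw [hΦmk, ← hgen [g] (by simp; omega)]
          simp [wev, Letters.val, Letters.gval, Letters.gcode, show g < 14 by omega, show g ≠ 8 by omega,
            show g ≠ 13 by omega, show Nat.blt g 8 = true from Nat.ble_eq.mpr hg]
        · rw [Set.mem_singleton_iff] at hu
          subst hu
          refine ⟨_, ⟨PresentedGroup.mk _ (FreeGroup.mk ([8].map Letters.dec14)), rfl⟩, ?_⟩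
          show (Φ _).1 = _
          rw [hΦmk, ← hgen [8] (by simp)]
          simp [wev, Letters.val, Letters.gval]
      intro q
      obtain ⟨j, hj, rfl⟩ := key (htop ▸ Subgroup.mem_top q)
      exact ⟨⟨j, hj⟩, rfl⟩
    let q : G →* Cfsg.Spor.He := p2.comp (MulEquiv.ofBijective p1 ⟨hp1, hs1⟩).symm.toMonoidHom
    have hq : Function.Surjective q := hp2.comp (MulEquiv.ofBijective p1 ⟨hp1, hs1⟩).symm.surjective
    have hker : q.ker = ⊥ := hkerQ q hq fun w hw => by
      let j : J := ⟨(wev (L.val co m l) w, HeFacts.elem (H.expand w)),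
        ⟨PresentedGroup.mk _ (FreeGroup.mk (w.map Letters.dec14)), by rw [hΦmk, ← hgen w hw]⟩⟩
      show p2 ((MulEquiv.ofBijective p1 ⟨hp1, hs1⟩).symm (p1 j)) = _
      rw [show (MulEquiv.ofBijective p1 ⟨hp1, hs1⟩).symm (p1 j) = j from
        (MulEquiv.ofBijective p1 ⟨hp1, hs1⟩).symm_apply_apply j]
      rfl
    exact ⟨MulEquiv.ofBijective q ⟨(MonoidHom.ker_eq_bot_iff q).1 hker, hq⟩⟩
  -- a product
  exfalso
  let N : Subgroup Cfsg.Spor.He := J.comap (MonoidHom.inr G Cfsg.Spor.He)
  have hNn : N.Normal := ⟨fun q hq r => by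
    obtain ⟨⟨a, b⟩, hab, e⟩ := honto' r
    change b = r at e
    subst e
    have := J.mul_mem (J.mul_mem hab hq) (J.inv_mem hab)
    show ((1 : G), b * q * b⁻¹) ∈ J
    simpa using this⟩
  have hNtop : N = ⊤ := hNn.eq_bot_or_eq_top.resolve_left fun hb => hL fun q hq => by
    have : q ∈ N := hq
    rwa [hb, Subgroup.mem_bot] at this
  have hfull : ∀ a ∈ G0, ∀ b : Cfsg.Spor.He, (a, b) ∈ J := by
    rintro _ ⟨⟨a, b'⟩, hab, rfl⟩ b
    have hq : ((1 : G), b'⁻¹ * b) ∈ J := (hNtop ▸ Subgroup.mem_top _ : b'⁻¹ * b ∈ N)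
    have := J.mul_mem hab hq
    simpa using this
  have hcardfull : Nat.card G0 * Nat.card Cfsg.Spor.He ≤ Nat.card J := by
    rw [← Nat.card_prod]
    exact Nat.card_le_card_of_injective (fun p => (⟨(p.1.1, p.2), hfull _ p.1.2 _⟩ : J))
      fun p q hpq => Prod.ext (Subtype.ext (congrArg (fun j : J => j.1.1) hpq)) (congrArg (fun j : J => j.1.2) hpq)
  have hcardS : Nat.card (SP.map Φ) ≤ Nat.card ↥(SG ⊓ G0) * Nat.card SH := by
    rw [← Nat.card_prod]
    refine Nat.card_le_card_of_injective (fun p =>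
      (⟨p.1.1, (hSPle p.2).1.1, ⟨p.1, (hSPle p.2).2, rfl⟩⟩, ⟨p.1.2, (hSPle p.2).1.2⟩)) fun p q hpq => ?_
    exact Subtype.ext (Prod.ext (congrArg Subtype.val (congrArg Prod.fst hpq))
      (congrArg Subtype.val (congrArg Prod.snd hpq)))
  -- the stabiliser in the group
  have hCle : Subgroup.centralizer ({t} : Set G) ≤ G0 := by
    intro g hg
    obtain ⟨c, hc, rfl⟩ := co.surj g (Subgroup.mem_centralizer_singleton_iff.1 hg)
    refine pre_mem h hpre (fun g hg => ?_) _ c hc rfl
    refine ⟨_, ⟨PresentedGroup.mk _ (FreeGroup.mk ([g].map Letters.dec14)), rfl⟩, ?_⟩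
    show (Φ _).1 = _
    rw [hΦmk, ← hgen [g] (by simp; omega)]
    simp [wev, Letters.val, Letters.gval, Letters.gcode, show g < 14 by omega, show g ≠ 8 by omega,
      show g ≠ 13 by omega, show Nat.blt g 8 = true from Nat.ble_eq.mpr hg]
  have hstab : Nat.card ↥(SG ⊓ Subgroup.centralizer ({t} : Set G)) ≤ 512 := by
    refine le_trans ?_ (Nat.ble_eq.mp hcount)
    rw [countB_eq, ← Nat.card_eq_finsetCard]
    refine Nat.card_le_card_of_surjective
      (fun c : ((Finset.range 21504).filter fun c => M.stabC L P D c = true) => ?_) ?_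
    · exact ⟨co.ψ c.1, (Mark.stabC_iff h (Finset.mem_range.1 (Finset.mem_filter.1 c.2).1)).1 (Finset.mem_filter.1 c.2).2,
        Subgroup.mem_centralizer_singleton_iff.2 (co.mem _ (Finset.mem_range.1 (Finset.mem_filter.1 c.2).1)).eq⟩
    · rintro ⟨g, hg1, hg2⟩
      obtain ⟨c, hc, rfl⟩ := co.surj g (Subgroup.mem_centralizer_singleton_iff.1 hg2)
      exact ⟨⟨c, Finset.mem_filter.2 ⟨Finset.mem_range.2 hc, (Mark.stabC_iff h hc).2 hg1⟩⟩, rfl⟩
  have hG0 : 42 * Nat.card ↥(SG ⊓ G0) ≤ Nat.card G0 := by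
    have hne : SG.relIndex G0 ≠ 0 := Subgroup.index_ne_zero_of_finite
    have hle := Subgroup.relIndex_le_of_le_right hCle hne
    have e1 : SG.relIndex (Subgroup.centralizer ({t} : Set G)) * Nat.card ↥(SG ⊓ Subgroup.centralizer ({t} : Set G)) =
        21504 := by
      rw [← hcardC, ← Subgroup.inf_relIndex_right, mul_comm, Subgroup.relIndex,
        ← Nat.card_congr (Subgroup.subgroupOfEquivOfLe (inf_le_right :
          SG ⊓ Subgroup.centralizer ({t} : Set G) ≤ _)).toEquiv]
      exact Subgroup.card_mul_index _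
    have e2 : SG.relIndex G0 * Nat.card ↥(SG ⊓ G0) = Nat.card G0 := by
      rw [← Subgroup.inf_relIndex_right, mul_comm, Subgroup.relIndex,
        ← Nat.card_congr (Subgroup.subgroupOfEquivOfLe (inf_le_right : SG ⊓ G0 ≤ _)).toEquiv]
      exact Subgroup.card_mul_index _
    have h42 : 42 ≤ SG.relIndex (Subgroup.centralizer ({t} : Set G)) := by nlinarith
    rw [← e2]
    exact Nat.mul_le_mul (h42.trans hle) le_rfl
  -- the normalizer in the Held group
  have hSHbound : 200 * Nat.card SH ≤ Nat.card Cfsg.Spor.He := by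
    obtain ⟨φ, -, -, -, helem⟩ := HeFacts.exists_action
    set u0 := HeFacts.elem (H.uw.getD 0 []) with hu0
    have hulen' : H.uw.length = 3 := Nat.eq_of_beq_eq_true hulen
    have hcwlen' : H.cw.length = 600 := Nat.eq_of_beq_eq_true hcwlen
    have hu0U : u0 ∈ U := ⟨_, by rw [List.getD_eq_getElem _ _ (by omega)]; exact List.getElem_mem _, rfl⟩
    have hU3 : Nat.card U ≤ 3 := by
      have : Finite (Fin 3) := inferInstance
      refine le_trans (Nat.card_le_card_of_surjective
        (fun i : Fin 3 => (⟨HeFacts.elem (H.uw.getD i []), _, by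
          rw [List.getD_eq_getElem _ _ (by omega)]; exact List.getElem_mem _, rfl⟩ : U)) ?_) (by rw [Nat.card_fin])
      rintro ⟨_, w, hw, rfl⟩
      obtain ⟨i, hi, rfl⟩ := List.getElem_of_mem hw
      exact ⟨⟨i, by omega⟩, Subtype.ext (congrArg HeFacts.elem (List.getD_eq_getElem _ _ hi))⟩
    -- the conjugates
    set Z := Subgroup.centralizer ({u0} : Set Cfsg.Spor.He) with hZ
    have hnodup : (H.cw.map H.val0).Nodup := by
      refine nodup_of_mask (n := 2058) (fun a ha => ?_) ?_
      · obtain ⟨w, hw, rfl⟩ := List.mem_map.1 ha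
        exact Nat.ble_eq.mp (List.all_eq_true.1 hcwlt w hw)
      · rw [← countB_eq, Nat.eq_of_beq_eq_true hcwcount, List.length_map, hcwlen']
    have hw7 : ∀ i : Fin 600, (H.cw.getD i []).all (fun x => Nat.blt x 7) = true := fun i => by
      rw [List.getD_eq_getElem _ _ (by omega)]
      exact List.all_eq_true.1 hcw7 _ (List.getElem_mem _)
    have h600 : 600 ≤ Z.index := by
      rw [← Nat.card_fin 600, Subgroup.index]
      refine Nat.card_le_card_of_injective (fun i : Fin 600 =>
        ((HeFacts.elem (H.cw.getD i []) : Cfsg.Spor.He) : Cfsg.Spor.He ⧸ Z)) fun i j hij => ?_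
      rw [QuotientGroup.eq, hZ, Subgroup.mem_centralizer_singleton_iff] at hij
      set a := HeFacts.elem (H.cw.getD i [])
      set b := HeFacts.elem (H.cw.getD j [])
      have e : a * u0 * a⁻¹ = b * u0 * b⁻¹ := by
        calc a * u0 * a⁻¹ = a * (u0 * (a⁻¹ * b)) * b⁻¹ := by group
          _ = a * ((a⁻¹ * b) * u0) * b⁻¹ := by rw [hij]
          _ = b * u0 * b⁻¹ := by group
      have hval : ∀ k : Fin 600, H.val0 (H.cw.getD k []) =
          (((φ (HeFacts.elem (H.cw.getD k []) * u0 * (HeFacts.elem (H.cw.getD k []))⁻¹))⁻¹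
            (⟨0, by norm_num⟩ : Fin 2058) : Fin 2058) : Nat) := by
        intro k
        rw [hu0, elem_inv (hw7 k), ← HeFacts.elem_append, ← HeFacts.elem_append,
          helem _ (fun x hx => ?_)]
        · rfl
        · simp only [List.mem_append] at hx
          rcases hx with (hx | hx) | hx
          · exact Nat.ble_eq.mp (List.all_eq_true.1 (hw7 k) x hx)
          · have : H.uw.getD 0 [] ∈ H.uw := by rw [List.getD_eq_getElem _ _ (by omega)]; exact List.getElem_mem _
            exact Nat.ble_eq.mp (List.all_eq_true.1 (List.all_eq_true.1 hu7 _ this) x hx)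
          · exact Nat.ble_eq.mp (List.all_eq_true.1 (hw7 k) x (List.mem_reverse.1 hx))
      have hv : H.val0 (H.cw.getD i []) = H.val0 (H.cw.getD j []) := by rw [hval i, hval j, e]
      rw [List.getD_eq_getElem _ _ (by omega), List.getD_eq_getElem _ _ (by omega)] at hv
      exact Fin.ext ((List.Nodup.getElem_inj_iff hnodup
        (hi := by rw [List.length_map]; omega) (hj := by rw [List.length_map]; omega)).1
          (by simpa only [List.getElem_map] using hv))
    have hrel3 : Z.relIndex SH ≤ 3 := by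
      refine le_trans ?_ hU3
      rw [Subgroup.relIndex, Subgroup.index]
      refine Nat.card_le_card_of_injective (Quotient.lift (fun n : SH =>
        (⟨(n : Cfsg.Spor.He) * u0 * (n : Cfsg.Spor.He)⁻¹, (Subgroup.mem_set_normalizer_iff.1 n.2 u0).1 hu0U⟩ : U))
        fun a b hab => ?_) ?_
      · have hab := QuotientGroup.leftRel_apply.1 hab
        rw [Subgroup.mem_subgroupOf, hZ, Subgroup.mem_centralizer_singleton_iff] at hab
        simp only [Subgroup.coe_mul, Subgroup.coe_inv] at hab
        refine Subtype.ext ?_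
        show (a : Cfsg.Spor.He) * u0 * (a : Cfsg.Spor.He)⁻¹ = b * u0 * (b : Cfsg.Spor.He)⁻¹
        calc (a : Cfsg.Spor.He) * u0 * (a : Cfsg.Spor.He)⁻¹
            = a * (u0 * ((a : Cfsg.Spor.He)⁻¹ * b)) * (b : Cfsg.Spor.He)⁻¹ := by group
          _ = a * (((a : Cfsg.Spor.He)⁻¹ * b) * u0) * (b : Cfsg.Spor.He)⁻¹ := by rw [hab]
          _ = _ := by group
      · intro p q hpq
        induction p using Quotient.inductionOn with
        | _ a => induction q using Quotient.inductionOn with
          | _ b =>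
            refine Quotient.sound (QuotientGroup.leftRel_apply.2 ?_)
            rw [Subgroup.mem_subgroupOf, hZ, Subgroup.mem_centralizer_singleton_iff]
            simp only [Subgroup.coe_mul, Subgroup.coe_inv]
            have e : (a : Cfsg.Spor.He) * u0 * (a : Cfsg.Spor.He)⁻¹ = b * u0 * (b : Cfsg.Spor.He)⁻¹ :=
              congrArg Subtype.val hpq
            calc (a : Cfsg.Spor.He)⁻¹ * b * u0 = (a : Cfsg.Spor.He)⁻¹ * (b * u0 * (b : Cfsg.Spor.He)⁻¹) * b := by group
              _ = u0 * ((a : Cfsg.Spor.He)⁻¹ * b) := by rw [← e]; group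
    have e3 := Z.card_mul_index
    have e4 : Z.relIndex SH * Nat.card ↥(Z ⊓ SH) = Nat.card SH := by
      rw [← Subgroup.inf_relIndex_right, mul_comm, Subgroup.relIndex,
        ← Nat.card_congr (Subgroup.subgroupOfEquivOfLe (inf_le_right : Z ⊓ SH ≤ _)).toEquiv]
      exact Subgroup.card_mul_index _
    have e5 : Nat.card ↥(Z ⊓ SH) ≤ Nat.card Z := Subgroup.card_le_of_le inf_le_left
    calc 200 * Nat.card SH ≤ 200 * (3 * Nat.card Z) := by
          rw [← e4]; exact Nat.mul_le_mul le_rfl (Nat.mul_le_mul hrel3 e5)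
      _ = Nat.card Z * 600 := by ring
      _ ≤ Nat.card Z * Z.index := Nat.mul_le_mul le_rfl h600
      _ = _ := e3
  have hpos1 : 0 < Nat.card ↥(SG ⊓ G0) := Nat.card_pos
  have hpos2 : 0 < Nat.card SH := Nat.card_pos
  have hlow : 8400 * (Nat.card ↥(SG ⊓ G0) * Nat.card SH) ≤ Nat.card J := by
    refine le_trans ?_ hcardfull
    calc 8400 * (Nat.card ↥(SG ⊓ G0) * Nat.card SH) = (42 * Nat.card ↥(SG ⊓ G0)) * (200 * Nat.card SH) := by ring
      _ ≤ _ := Nat.mul_le_mul hG0 hSHbound
  have hup : Nat.card J ≤ 8330 * (Nat.card ↥(SG ⊓ G0) * Nat.card SH) :=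
    hcardJ.trans (Nat.mul_le_mul le_rfl hcardS)
  have := Nat.mul_pos hpos1 hpos2
  omega

/-- The identification for a simple group. -/
theorem identify_top (h : L.Ok P K co x y m l) {RS : List RelSpec} (hRS : RS.all (L.check P D) = true)
    {C : Data} (hC : C.LogValid) (hn : C.n = 8330) {SS : List SubSpec} (hF : Fits C RS (SS.map SubSpec.word))
    {M : Mark} (hM : M.same L = true) (hSS : SS.all (M.check L P D) = true)
    (hcount : Nat.ble (countB (M.stabC L P D) 21504) 512 = true)
    (hi : H.checkImg = true) (hrels : H.checkRels RS = true) (honto : H.checkOnto = true)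
    (hU : H.checkU (SS.map SubSpec.word) = true) (hconj : H.checkConj = true)
    (hpre : allFrom (H.checkPre L D) 0 21504 = true)
    (hcardC : Nat.card (Subgroup.centralizer ({t} : Set G)) = 21504) (htop : gen t m = ⊤) [IsSimpleGroup G] :
    Cfsg.Spor.IsoHe G :=
  identify_top_of_ker h hRS hC hn hF hM hSS hcount hi hrels honto hU hconj hpre hcardC htop fun q hq _ =>
    (inferInstance : q.ker.Normal).eq_bot_or_eq_top.resolve_right fun e => by
      have := HeFacts.finite_he
      obtain ⟨hsimp, -⟩ := HeOrder.order_and_simple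
      obtain ⟨a, b, hab⟩ := exists_pair_ne Cfsg.Spor.He
      obtain ⟨a', rfl⟩ := hq a
      obtain ⟨b', rfl⟩ := hq b
      apply hab
      rw [show q a' = 1 from MonoidHom.mem_ker.1 (e ▸ Subgroup.mem_top a'),
        show q b' = 1 from MonoidHom.mem_ker.1 (e ▸ Subgroup.mem_top b')]

end HeData

end Cfsg.Agent.HeRecog
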