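import Cfsg.Agent.HeRecog.Trichotomy
import Cfsg.Agent.HeRecog.M8a.HeKernel

/-! The configurations of the centraliser of a transvection, without simplicity. -/

set_option autoImplicit false
set_option linter.all false
set_option maxRecDepth 100000

namespace Cfsg.Agent.HeRecog.M8a

open Cfsg.Agent.CosetCert

/-- The configuration with a normal block. -/
def IsBlock {G : Type*} [Group G] [Finite G] (t : G) : Prop :=
  ∃ (co : Coord D t) (r : Nat), FusedSet P K co r ∧ (r = 1 ∨ r = 2)

/-- The configurations of a group with a conjugate of the involution commuting with it. -/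
theorem configs_gen {G : Type*} [Group G] [Finite G] {t : G} (co : Coord D t) (ht : orderOf t = 2)
    (hC : Nat.card (Subgroup.centralizer ({t} : Set G)) = 21504)
    (hw : ∃ g : G, Commute (g * t * g⁻¹) t ∧ g * t * g⁻¹ ≠ t) :
    IsBlock t ∨ IsSS t ∨ IsBS t ∨ Cfsg.Spor.IsoHe G := by
  obtain ⟨r, hr⟩ := exists_fusedSet (P := P) classes co ht (by decide +kernel) (by decide +kernel)
  have h := Tables.all_lt options_list (hr.bound : r < 32)
  simp only [Bool.or_eq_true, not_varies classes pair_valid ht hC hr (Or.inl rfl : EA = P.X ∨ EA = P.Y),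
    not_varies classes pair_valid ht hC hr (Or.inr rfl : EB = P.X ∨ EB = P.Y), Bool.false_eq_true, or_false,
    List.contains_iff_mem] at h
  simp only [List.mem_cons, List.not_mem_nil, or_false] at h
  have hBS : ∀ co' : Coord D t, FusedSet P K co' 15 → IsBS t := fun co' hr' => by
    obtain ⟨x, y, m, l, h'⟩ := live_BS (fused_of_mask classes pair_valid ht hC hr' (Or.inl rfl) mask15.1)
      (fused_of_mask classes pair_valid ht hC hr' (Or.inr rfl) mask15.2)
    exact ⟨co', x, y, m, l, h', top15 ht hC hr' h'⟩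
  rcases h with rfl | rfl | rfl | rfl | rfl | rfl | rfl
  · exfalso
    obtain ⟨g, hg, hne⟩ := hw
    obtain ⟨c, hc, hce⟩ := co.surj _ hg
    have hct : c ≠ 1 := fun e => hne (by rw [← hce, e, co.one])
    obtain ⟨k, e, -, hk, hconj⟩ := Classes.fused_class co classes ht hc hct
      (hce ▸ isConj_iff.2 ⟨g, rfl⟩)
    have h0 : ∀ j ∈ K.allowed, inF K.allowed 0 j = false := by decide +kernel
    have hall : ∀ k ∈ K.allowed, k < K.reps.length := by decide +kernel
    exact Bool.false_ne_true ((h0 k hk).symm.trans ((hr.iff k (hall k hk)).2 hconj))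
  · exact Or.inl ⟨co, 1, hr, Or.inl rfl⟩
  · exact Or.inl ⟨co, 2, hr, Or.inr rfl⟩
  · obtain ⟨x, y, m, l, h'⟩ := live_SS (fused_of_mask classes pair_valid ht hC hr (Or.inl rfl) mask7.1)
      (fused_of_mask classes pair_valid ht hC hr (Or.inr rfl) mask7.2)
    exact Or.inr (Or.inl ⟨co, x, y, m, l, h', top7 ht hC hr h'⟩)
  · exact Or.inr (Or.inr (Or.inl (hBS co hr)))
  · exact Or.inr (Or.inr (Or.inl (hBS _ (Swap.fusedSet hr (by norm_num) Swap.class23))))
  · obtain ⟨x, y, m, l, h'⟩ := live_BB (fused_of_mask classes pair_valid ht hC hr (Or.inl rfl) mask31.1)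
      (fused_of_mask classes pair_valid ht hC hr (Or.inr rfl) mask31.2)
    have hfus : IsConj t (co.ψ 14) := (hr.iff 2 (by decide)).1 (by decide)
    exact Or.inr (Or.inr (Or.inr (HeData.identify_top_of_ker h' BB47.RS_ok BB47Idx.log_valid rfl BB47Idx.fits
      BB47.same_ok BB47.SS_ok BB47.count_ok BB47.img_ok BB47.rels_ok BB47.onto_ok BB47.U_ok BB47.conj_ok BB47.pre_ok
      hC (top31 ht hC hr h') fun q _ hq => ker_eq_bot ht h' hfus q hq)))

end Cfsg.Agent.HeRecog.M8a
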