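import Mathlib

/-!
A subgroup containing the centraliser of an involution `t` and controlling its conjugates: the
dihedral dichotomy and the final closure argument.
-/

set_option autoImplicit false
set_option linter.all false

namespace Cfsg.Agent.HeRecog

open Subgroup

variable {G : Type*} [Group G]

/-- What two involutions give. -/
theorem dihedral [Finite G] (t s : G) (ht : t * t = 1) (hs : s * s = 1) :
    ∃ h : G, (∀ u, Commute u t → Commute u s → Commute u h) ∧
      (h * t * h⁻¹ = s ∨ ∃ w, w * w = 1 ∧ w ≠ 1 ∧ Commute w t ∧ Commute w s ∧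
        (∀ u, Commute u t → Commute u s → Commute u w) ∧
          ((h * t * h⁻¹ = t * w ∧ h * s * h⁻¹ = s * w) ∨ h * (t * w) * h⁻¹ = s)) := by
  have hti : t⁻¹ = t := inv_eq_of_mul_eq_one_right ht
  have hsi : s⁻¹ = s := inv_eq_of_mul_eq_one_right hs
  set x := t * s with hx
  have hcom : ∀ (n : ℕ) u, Commute u t → Commute u s → Commute u (x ^ n) :=
    fun n u a b => (a.mul_right b).pow_right n
  have hinv : ∀ n : ℕ, t * x ^ n = (x ^ n)⁻¹ * t := by
    intro n
    have h1 : t * x * t⁻¹ = x⁻¹ := by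
      rw [hx, ← mul_assoc, ht, one_mul, mul_inv_rev, hsi, hti]
    have h2 : t * x ^ n * t⁻¹ = (x ^ n)⁻¹ := by rw [← inv_pow, ← h1, conj_pow]
    rw [← h2, inv_mul_cancel_right]
  have hconj : ∀ n : ℕ, x ^ n * t * (x ^ n)⁻¹ = x ^ (2 * n) * t := by
    intro n
    have e : t * (x ^ n)⁻¹ = x ^ n * t := by
      calc t * (x ^ n)⁻¹ = (x ^ n) * ((x ^ n)⁻¹ * t) * (x ^ n)⁻¹ := by group
        _ = x ^ n * t := by rw [← hinv n]; group
    rw [mul_assoc, e, ← mul_assoc, two_mul, pow_add]
  have hsx : s = t * x := by rw [hx, ← mul_assoc, ht, one_mul]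
  have hsinv : s = x⁻¹ * t := by rw [hsx, ← pow_one x, hinv 1, pow_one]
  have hN : x ^ orderOf x = 1 := pow_orderOf_eq_one x
  rcases Nat.even_or_odd (orderOf x) with ⟨k, hk⟩ | ⟨j, hj⟩
  · have hk0 : 0 < k := by have := orderOf_pos x; omega
    set w := x ^ k with hw
    have hww : w * w = 1 := by rw [hw, ← pow_add, ← hk, hN]
    have hwi : w⁻¹ = w := inv_eq_of_mul_eq_one_right hww
    have hw1 : w ≠ 1 := fun e => by
      have := orderOf_le_of_pow_eq_one hk0 e
      omega
    have hwt : Commute w t := by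
      show w * t = t * w
      rw [hw, hinv k, ← hw, hwi]
    have hwx : Commute w x := (Commute.refl x).pow_left k
    have hws : Commute w s := by rw [hsx]; exact hwt.mul_right hwx
    refine ⟨x ^ (k / 2), fun u a b => hcom _ u a b, Or.inr ⟨w, hww, hw1, hwt, hws, fun u a b => hcom k u a b, ?_⟩⟩
    have hc := hconj (k / 2)
    rcases Nat.even_or_odd k with ⟨a, ha⟩ | ⟨a, ha⟩
    · left
      have he : 2 * (k / 2) = k := by omega
      rw [he] at hc
      have hc' : x ^ (k / 2) * t * (x ^ (k / 2))⁻¹ = t * w := by rw [hc]; exact hwt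
      refine ⟨hc', ?_⟩
      have hxx : x ^ (k / 2) * x * (x ^ (k / 2))⁻¹ = x := by
        rw [((Commute.refl x).pow_left _).eq, mul_inv_cancel_right]
      calc x ^ (k / 2) * s * (x ^ (k / 2))⁻¹
          = (x ^ (k / 2) * t * (x ^ (k / 2))⁻¹) * (x ^ (k / 2) * x * (x ^ (k / 2))⁻¹) := by rw [hsx]; group
        _ = t * w * x := by rw [hc', hxx]
        _ = s * w := by rw [hsx, mul_assoc, hwx.eq, ← mul_assoc]
    · right
      have he : 2 * (k / 2) + 1 = k := by omega
      have hwh : x ^ (k / 2) * w * (x ^ (k / 2))⁻¹ = w := by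
        rw [((hwx.pow_right (k / 2)).eq).symm, mul_inv_cancel_right]
      calc x ^ (k / 2) * (t * w) * (x ^ (k / 2))⁻¹
          = (x ^ (k / 2) * t * (x ^ (k / 2))⁻¹) * (x ^ (k / 2) * w * (x ^ (k / 2))⁻¹) := by group
        _ = x ^ (2 * (k / 2)) * t * w := by rw [hc, hwh]
        _ = x ^ (2 * (k / 2)) * w * t := by rw [mul_assoc, ← hwt.eq, ← mul_assoc]
        _ = x⁻¹ * (x ^ k * w) * t := by
          rw [← he, pow_succ' x (2 * (k / 2))]; simp [hw, he, mul_assoc]
        _ = x⁻¹ * t := by rw [← hw, hww, mul_one]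
        _ = s := hsinv.symm
  · refine ⟨x ^ j, fun u a b => hcom _ u a b, Or.inl ?_⟩
    rw [hconj j, hsinv]
    congr 1
    refine eq_inv_of_mul_eq_one_left ?_
    rw [← pow_succ, ← hj, hN]

/-- The subgroup contains the centraliser and controls the conjugates. -/
structure Ctrl (M : Subgroup G) (t : G) : Prop where
  cent : centralizer ({t} : Set G) ≤ M
  conj : ∀ g, g * t * g⁻¹ ∈ M → g ∈ M

variable {M : Subgroup G} {t : G}

theorem Ctrl.of_comm (hM : Ctrl M t) {g : G} (h : Commute g t) : g ∈ M :=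
  hM.cent (mem_centralizer_singleton_iff.2 h.eq)

theorem Ctrl.self_mem (hM : Ctrl M t) : t ∈ M := hM.of_comm (Commute.refl t)

theorem Ctrl.of_conj (hM : Ctrl M t) {k u : G} (hk : k ∈ M) (hu : Commute u (k * t * k⁻¹)) : u ∈ M := by
  have h := hM.of_comm (g := k⁻¹ * u * k) (by
    have := (Commute.conj_iff k⁻¹).2 hu
    simpa [mul_assoc] using this)
  simpa [mul_assoc] using M.mul_mem (M.mul_mem hk h) (M.inv_mem hk)

/-- A conjugate of `t` lying in `M` has its centraliser there. -/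
theorem Ctrl.cent_fused (hM : Ctrl M t) {w u : G} (hw : IsConj t w) (hwM : w ∈ M) (hu : Commute u w) : u ∈ M := by
  obtain ⟨k, rfl⟩ := isConj_iff.1 hw
  exact hM.of_conj (hM.conj k hwM) hu

/-- The closure argument. -/
theorem Ctrl.eq_top [Finite G] (hM : Ctrl M t) (ht : t * t = 1) (ht1 : t ≠ 1) {u c : G} (hu : u * u = 1)
    (hut : ¬ IsConj t u) (hprod : IsConj t (u * (c * u * c⁻¹)))
    (hgood : ∀ w, w * w = 1 → w ≠ 1 → Commute w t → ∀ g, Commute g w → g ∈ M) : M = ⊤ := by
  have hx : ∀ g : G, g * u * g⁻¹ ∈ M := by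
    intro g
    have hxx : (g * u * g⁻¹) * (g * u * g⁻¹) = 1 := by
      calc (g * u * g⁻¹) * (g * u * g⁻¹) = g * (u * u) * g⁻¹ := by group
        _ = 1 := by rw [hu]; group
    obtain ⟨h, -, hh | ⟨w, hw, hw1, hwt, hws, -, -⟩⟩ := dihedral t (g * u * g⁻¹) ht hxx
    · exact absurd ((isConj_iff.2 ⟨h, hh⟩ : IsConj t _).trans (isConj_iff.2 ⟨g, rfl⟩ : IsConj u _).symm) hut
    · exact hgood w hw hw1 hwt _ hws.symm
  let N := normalClosure ({u} : Set G)
  have hNM : N ≤ M := by
    rw [show N = closure (Group.conjugatesOfSet {u}) from rfl, closure_le]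
    intro a ha
    obtain ⟨b, hb, hab⟩ := Group.mem_conjugatesOfSet_iff.1 ha
    rw [Set.mem_singleton_iff] at hb
    subst hb
    obtain ⟨g, rfl⟩ := isConj_iff.1 hab
    exact hx g
  have hu' : u ∈ N := subset_normalClosure rfl
  obtain ⟨k, hk⟩ := isConj_iff.1 hprod
  have hkN : k * t * k⁻¹ ∈ N := hk ▸ N.mul_mem hu' (normalClosure_normal.conj_mem u hu' c)
  refine eq_top_iff.2 fun g _ => hM.conj g (hNM ?_)
  have := normalClosure_normal.conj_mem _ hkN (g * k⁻¹)
  simpa [mul_assoc] using this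

end Cfsg.Agent.HeRecog
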