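import Cfsg.Agent.HeRecog.Control

/-!
An elementary counting of the conjugates of `t` in the centraliser of a group `D`: outside the controlling
subgroup some coset holds as many of them as lie inside, and these give an abelian subgroup acting
regularly on those inside.  A local configuration of four conjugates then gives a contradiction.
-/

set_option autoImplicit false
set_option linter.all false

namespace Cfsg.Agent.HeRecog

open Subgroup

variable {G : Type*} [Group G] [Finite G] {M : Subgroup G} {t : G}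

/-- Some coset outside contains many conjugates. -/
theorem exists_heavy {X : Type*} [Group X] [Finite X] (Y : Subgroup X) (t : X)
    (hCY : centralizer ({t} : Set X) ≤ Y) (hctl : ∀ g, g * t * g⁻¹ ∈ Y → g ∈ Y) (hne : Y ≠ ⊤) :
    ∃ s, (∃ g, g * t * g⁻¹ = s) ∧ s ∉ Y ∧
      Nat.card {a : X // a ∈ Y ∧ ∃ g, g * t * g⁻¹ = a} ≤ Nat.card {y : X // y ∈ Y ∧ ∃ g, g * t * g⁻¹ = s * y} := by
  classical
  have := Fintype.ofFinite X
  set C := centralizer ({t} : Set X) with hC
  let O : Finset X := Finset.univ.filter fun a => ∃ g, g * t * g⁻¹ = a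
  let f : X → X ⧸ Y := fun a => (a : X ⧸ Y)
  have hidx : O.card = Y.index * (O.filter fun a => a ∈ Y).card := by
    have h1 : O.card = C.index := by
      rw [Subgroup.index, ← Nat.card_eq_finsetCard]
      refine (Nat.card_congr (Equiv.ofBijective (Quotient.lift (fun g : X => (⟨g * t * g⁻¹,
        Finset.mem_filter.2 ⟨Finset.mem_univ _, g, rfl⟩⟩ : O)) fun a b hab => ?_) ⟨?_, ?_⟩)).symm
      · have hab := QuotientGroup.leftRel_apply.1 hab
        rw [hC, mem_centralizer_singleton_iff] at hab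
        refine Subtype.ext ?_
        calc a * t * a⁻¹ = a * (t * (a⁻¹ * b)) * b⁻¹ := by group
          _ = a * (a⁻¹ * b * t) * b⁻¹ := by rw [hab]
          _ = b * t * b⁻¹ := by group
      · intro p q hpq
        induction p using Quotient.inductionOn with
        | _ a => induction q using Quotient.inductionOn with
          | _ b =>
            refine Quotient.sound (QuotientGroup.leftRel_apply.2 ?_)
            rw [hC, mem_centralizer_singleton_iff]
            have e : a * t * a⁻¹ = b * t * b⁻¹ := congrArg Subtype.val hpq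
            calc a⁻¹ * b * t = a⁻¹ * (b * t * b⁻¹) * b := by group
              _ = t * (a⁻¹ * b) := by rw [← e]; group
      · rintro ⟨a, ha⟩
        obtain ⟨g, rfl⟩ := (Finset.mem_filter.1 ha).2
        exact ⟨Quotient.mk _ g, rfl⟩
    have h2 : (O.filter fun a => a ∈ Y).card = C.relIndex Y := by
      rw [Subgroup.relIndex, Subgroup.index, ← Nat.card_eq_finsetCard]
      refine (Nat.card_congr (Equiv.ofBijective (Quotient.lift (fun g : Y => (⟨(g : X) * t * (g : X)⁻¹,
        Finset.mem_filter.2 ⟨Finset.mem_filter.2 ⟨Finset.mem_univ _, (g : X), rfl⟩,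
          Y.mul_mem (Y.mul_mem g.2 (hCY (mem_centralizer_singleton_iff.2 rfl))) (Y.inv_mem g.2)⟩⟩ :
            O.filter fun a => a ∈ Y)) fun a b hab => ?_) ⟨?_, ?_⟩)).symm
      · have hab := QuotientGroup.leftRel_apply.1 hab
        rw [mem_subgroupOf, hC, mem_centralizer_singleton_iff] at hab
        simp only [Subgroup.coe_mul, Subgroup.coe_inv] at hab
        refine Subtype.ext ?_
        show (a : X) * t * (a : X)⁻¹ = b * t * (b : X)⁻¹
        calc (a : X) * t * (a : X)⁻¹ = a * (t * ((a : X)⁻¹ * b)) * (b : X)⁻¹ := by group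
          _ = a * ((a : X)⁻¹ * b * t) * (b : X)⁻¹ := by rw [hab]
          _ = b * t * (b : X)⁻¹ := by group
      · intro p q hpq
        induction p using Quotient.inductionOn with
        | _ a => induction q using Quotient.inductionOn with
          | _ b =>
            refine Quotient.sound (QuotientGroup.leftRel_apply.2 ?_)
            rw [mem_subgroupOf, hC, mem_centralizer_singleton_iff]
            simp only [Subgroup.coe_mul, Subgroup.coe_inv]
            have e : (a : X) * t * (a : X)⁻¹ = b * t * (b : X)⁻¹ := congrArg Subtype.val hpq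
            calc (a : X)⁻¹ * b * t = (a : X)⁻¹ * (b * t * (b : X)⁻¹) * b := by group
              _ = t * ((a : X)⁻¹ * b) := by rw [← e]; group
      · rintro ⟨a, ha⟩
        obtain ⟨ha, haY⟩ := Finset.mem_filter.1 ha
        obtain ⟨g, rfl⟩ := (Finset.mem_filter.1 ha).2
        exact ⟨Quotient.mk _ ⟨g, hctl g haY⟩, rfl⟩
    rw [h1, h2, mul_comm]
    exact (Subgroup.relIndex_mul_index hCY).symm
  -- split into cosets
  have hsum : O.card = ∑ q : X ⧸ Y, (O.filter fun a => f a = q).card :=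
    Finset.card_eq_sum_card_fiberwise fun a _ => Finset.mem_univ _
  set q0 : X ⧸ Y := ((1 : X) : X ⧸ Y) with hq0
  have h0 : (O.filter fun a => f a = q0) = O.filter fun a => a ∈ Y := by
    refine Finset.filter_congr fun a _ => ?_
    show ((a : X) : X ⧸ Y) = ((1 : X) : X ⧸ Y) ↔ a ∈ Y
    rw [QuotientGroup.eq, mul_one, inv_mem_iff]
  set m := (O.filter fun a => a ∈ Y).card with hm
  have hmpos : 0 < m :=
    Finset.card_pos.2 ⟨t, Finset.mem_filter.2 ⟨Finset.mem_filter.2 ⟨Finset.mem_univ _, 1, by simp⟩,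
      hCY (mem_centralizer_singleton_iff.2 rfl)⟩⟩
  have hcard : Fintype.card (X ⧸ Y) = Y.index := by rw [Subgroup.index, Nat.card_eq_fintype_card]
  rw [← Finset.add_sum_erase _ _ (Finset.mem_univ q0), h0, hidx, ← hcard] at hsum
  have herase : (Finset.univ.erase q0).card + 1 = Fintype.card (X ⧸ Y) := by
    rw [Finset.card_erase_of_mem (Finset.mem_univ _), Finset.card_univ]
    have := Fintype.card_pos (α := X ⧸ Y)
    omega
  have hone : 1 < Fintype.card (X ⧸ Y) := by
    rw [hcard]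
    have h0 := Subgroup.index_ne_zero_of_finite (H := Y)
    have h1 : Y.index ≠ 1 := fun e => hne (Subgroup.index_eq_one.1 e)
    omega
  obtain ⟨q, hq, hle⟩ : ∃ q ∈ Finset.univ.erase q0, m ≤ (O.filter fun a => f a = q).card := by
    by_contra hno
    push_neg at hno
    have := Finset.sum_lt_sum_of_nonempty (s := Finset.univ.erase q0) (Finset.card_pos.1 (by omega)) hno
    rw [Finset.sum_const, smul_eq_mul] at this
    nlinarith
  obtain ⟨s, hs⟩ := Finset.card_pos.1 (lt_of_lt_of_le hmpos hle)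
  obtain ⟨hsO, hsq⟩ := Finset.mem_filter.1 hs
  obtain ⟨gs, hgs⟩ := (Finset.mem_filter.1 hsO).2
  refine ⟨s, ⟨gs, hgs⟩, fun hsY => (Finset.mem_erase.1 hq).1 ?_, ?_⟩
  · rw [← hsq]
    show ((s : X) : X ⧸ Y) = ((1 : X) : X ⧸ Y)
    rw [QuotientGroup.eq, mul_one, inv_mem_iff]
    exact hsY
  have e1 : Nat.card {a : X // a ∈ Y ∧ ∃ g, g * t * g⁻¹ = a} = m := by
    rw [Nat.card_eq_fintype_card, Fintype.card_subtype, hm]
    congr 1
    ext a
    simp [O, and_comm]
  rw [e1]
  refine hle.trans ?_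
  rw [Nat.card_eq_fintype_card, Fintype.card_subtype]
  refine Finset.card_le_card_of_injOn (fun a => s⁻¹ * a) (fun a ha => ?_) fun a _ b _ hab => mul_left_cancel hab
  obtain ⟨haO, haq⟩ := Finset.mem_filter.1 ha
  refine Finset.mem_filter.2 ⟨Finset.mem_univ _, ?_, ?_⟩
  · have : ((s : X) : X ⧸ Y) = (a : X ⧸ Y) := hsq.trans haq.symm
    exact QuotientGroup.eq.1 this
  · obtain ⟨g, hg⟩ := (Finset.mem_filter.1 haO).2
    exact ⟨g, by rw [hg, mul_inv_cancel_left]⟩

/-- The centraliser of `D` lies in the controlling subgroup. -/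
theorem Ctrl.cent_le_of_count (hM : Ctrl M t) (ht : t * t = 1) (D : Subgroup G)
    (hD2 : ∀ d ∈ D, d * d = 1) (hDt : ∀ d ∈ D, Commute d t) (hDD : ∀ a ∈ D, ∀ b ∈ D, Commute a b)
    (hinv : ∀ v ∈ M, v * v = 1 → (∀ d ∈ D, Commute v d) → v ∉ D → ∃ d ∈ D, IsConj t (v * d))
    (hone : ∀ x, (∀ d ∈ D, Commute x d) → x * t * x⁻¹ ∈ (fun d => t * d) '' (D : Set G) → x * t * x⁻¹ = t)
    (hpow : ∀ y, Commute y t → (∀ d ∈ D, Commute y d) → y ∉ D → ∃ n : ℕ, (y ^ n) * (y ^ n) = 1 ∧ y ^ n ∉ D)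
    (p : G) (q : Fin 4 → G) (R : Fin 3 → G)
    (hp : ∃ y, (∀ d ∈ D, Commute y d) ∧ y * t * y⁻¹ = p) (hpt : Commute p t)
    (hq : ∀ i, ∃ y, (∀ d ∈ D, Commute y d) ∧ y * t * y⁻¹ = q i) (hqt : ∀ i, Commute (q i) t)
    (hpM : p ∈ M) (hqM : ∀ i, q i ∈ M)
    (hR : ∀ i x, (∀ d ∈ D, Commute x d) → x * t * x⁻¹ ∈ M → Commute (x * t * x⁻¹) p → Commute (x * t * x⁻¹) (q i) →
      ∃ j, ∃ d ∈ D, x * t * x⁻¹ = R j * d)
    (hdist : ∀ i i', ∀ d ∈ D, q i = q i' * d → i = i') :
    ∀ g, (∀ d ∈ D, Commute g d) → g ∈ M := by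
  by_contra hno
  push_neg at hno
  obtain ⟨g₀, hg₀, hg₀M⟩ := hno
  set X := centralizer (D : Set G) with hX
  have hmemX : ∀ x, x ∈ X ↔ ∀ d ∈ D, Commute x d := fun x =>
    ⟨fun h d hd => (mem_centralizer_iff.1 h d hd).symm, fun h => mem_centralizer_iff.2 fun d hd => (h d hd).eq.symm⟩
  set tX : X := ⟨t, (hmemX t).2 fun d hd => (hDt d hd).symm⟩ with htX
  set Y := M.subgroupOf X with hY
  have hYtop : Y ≠ ⊤ := fun e => hg₀M (by
    have : (⟨g₀, (hmemX g₀).2 hg₀⟩ : X) ∈ Y := e ▸ mem_top _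
    exact this)
  have hCY : centralizer ({tX} : Set X) ≤ Y := fun x hx => hM.cent (mem_centralizer_singleton_iff.2
    (congrArg Subtype.val (mem_centralizer_singleton_iff.1 hx)))
  obtain ⟨s, ⟨gs, hgs⟩, hsY, hcard⟩ := exists_heavy Y tX hCY (fun g hg => hM.conj _ hg) hYtop
  have hsY : (s : G) ∉ M := hsY
  have hsX := (hmemX _).1 s.2
  have hgs' : (gs : G) * t * (gs : G)⁻¹ = s := congrArg Subtype.val hgs
  have hss : (s : G) * s = 1 := by
    rw [← hgs']
    calc (gs : G) * t * (gs : G)⁻¹ * (gs * t * (gs : G)⁻¹) = gs * (t * t) * (gs : G)⁻¹ := by group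
      _ = 1 := by rw [ht]; group
  let L := {y : X // y ∈ Y ∧ ∃ g, g * tX * g⁻¹ = s * y}
  let Om := {a : X // a ∈ Y ∧ ∃ g, g * tX * g⁻¹ = a}
  have hinvd : ∀ y : L, (s : G) * (y.1 : G) * s = (y.1 : G)⁻¹ := fun y => by
    obtain ⟨g, hg⟩ := y.2.2
    have hg' : (g : G) * t * (g : G)⁻¹ = s * y.1 := congrArg Subtype.val hg
    refine eq_inv_of_mul_eq_one_left ?_
    calc (s : G) * y.1 * s * y.1 = (s * y.1 : G) * (s * y.1) := by group
      _ = (g : G) * (t * t) * (g : G)⁻¹ := by rw [← hg']; group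
      _ = 1 := by rw [ht]; group
  -- the group generated
  set K := closure (Set.range fun y : L => (y.1 : G)) with hK
  have hKM : K ≤ M := (closure_le M).2 (by rintro _ ⟨y, rfl⟩; exact y.2.1)
  have hKX : K ≤ X := (closure_le X).2 (by rintro _ ⟨y, rfl⟩; exact y.1.2)
  have hKs : ∀ k ∈ K, (s : G) * k * s ∈ K := by
    intro k hk
    induction hk using closure_induction with
    | mem a ha => obtain ⟨y, rfl⟩ := ha; rw [hinvd y]; exact K.inv_mem (subset_closure ⟨y, rfl⟩)
    | one => rw [mul_one, hss]; exact K.one_mem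
    | mul a b _ _ ha hb =>
      have : (s : G) * (a * b) * s = s * a * s * (s * b * s) := by
        calc (s : G) * (a * b) * s = s * a * (s * s) * b * s := by rw [hss]; group
          _ = _ := by group
      rw [this]; exact K.mul_mem ha hb
    | inv a _ ha =>
      have : (s : G) * a⁻¹ * s = (s * a * s)⁻¹ := by
        simp [mul_inv_rev, mul_assoc, inv_eq_of_mul_eq_one_right hss]
      rw [this]; exact K.inv_mem ha
  have hKinv : ∀ v ∈ K, v * v = 1 → v ∈ D := by
    intro v hv hvv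
    by_contra hvD
    obtain ⟨d, hd, hc⟩ := hinv v (hKM hv) hvv ((hmemX v).1 (hKX hv)) hvD
    obtain ⟨k, hk⟩ := isConj_iff.1 hc
    have hkM : k ∈ M := hM.conj k (hk ▸ M.mul_mem (hKM hv) (hM.of_comm (hDt d hd)))
    have hsM : (s : G) * (k * t * k⁻¹) * s ∈ M := by
      have h := M.mul_mem (hKM (hKs v hv)) (hM.of_comm (hDt d hd))
      have e : (s : G) * v * s * d = s * (k * t * k⁻¹) * s := by
        rw [hk, mul_assoc ((s : G) * v) s d, (hsX d hd).eq]; group
      rwa [e] at h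
    have : (s : G) * k ∈ M := hM.conj _ (by
      simpa [mul_assoc, inv_eq_of_mul_eq_one_right hss] using hsM)
    exact hsY (by simpa [mul_assoc] using M.mul_mem this (M.inv_mem hkM))
  have hKfix : ∀ y ∈ K, Commute y t → y ∈ D := by
    intro y hy hyt
    by_contra hyD
    obtain ⟨n, hn, hnD⟩ := hpow y hyt ((hmemX y).1 (hKX hy)) hyD
    exact hnD (hKinv _ (K.pow_mem hy n) hn)
  -- the map to the conjugates inside
  let φ : L → Om := fun y => ⟨y.1 * tX * y.1⁻¹,
    Y.mul_mem (Y.mul_mem y.2.1 (hCY (mem_centralizer_singleton_iff.2 rfl))) (Y.inv_mem y.2.1), y.1, rfl⟩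
  have hfix : ∀ a b : G, a ∈ K → b ∈ K → a * t * a⁻¹ = b * t * b⁻¹ → a⁻¹ * b ∈ D := fun a b ha hb e =>
    hKfix _ (K.mul_mem (K.inv_mem ha) hb) (by
      show a⁻¹ * b * t = t * (a⁻¹ * b)
      calc a⁻¹ * b * t = a⁻¹ * (b * t * b⁻¹) * b := by group
        _ = t * (a⁻¹ * b) := by rw [← e]; group)
  have hφinj : Function.Injective φ := by
    intro a b hab
    have hd := hfix _ _ (subset_closure ⟨a, rfl⟩) (subset_closure ⟨b, rfl⟩)
      (congrArg (fun z : Om => ((z.1 : X) : G)) hab)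
    obtain ⟨ga, hga⟩ := a.2.2
    obtain ⟨gb, hgb⟩ := b.2.2
    have hga' : (ga : G) * t * (ga : G)⁻¹ = s * a.1 := congrArg Subtype.val hga
    have hgb' : (gb : G) * t * (gb : G)⁻¹ = s * b.1 := congrArg Subtype.val hgb
    have e := hone ((ga : G)⁻¹ * gb) ((hmemX _).1 (ga⁻¹ * gb).2) ⟨(a.1 : G)⁻¹ * b.1, hd, ?_⟩
    · have h1 : (gb : G) * t * (gb : G)⁻¹ = ga * t * (ga : G)⁻¹ := by
        calc (gb : G) * t * (gb : G)⁻¹ = ga * ((ga : G)⁻¹ * gb * t * ((ga : G)⁻¹ * gb)⁻¹) * (ga : G)⁻¹ := by group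
          _ = _ := by rw [e]
      rw [hga', hgb'] at h1
      exact Subtype.ext (Subtype.ext (mul_left_cancel h1).symm)
    · show t * ((a.1 : G)⁻¹ * b.1) = _
      have hcom : Commute ((a.1 : G)⁻¹ * b.1) (ga : G)⁻¹ := (((hmemX _).1 ga.2 _ hd).symm).inv_right
      calc t * ((a.1 : G)⁻¹ * b.1) = (ga : G)⁻¹ * ((ga : G) * t * (ga : G)⁻¹) * ((ga : G) * ((a.1 : G)⁻¹ * b.1)) := by
            group
        _ = (ga : G)⁻¹ * (s * a.1) * ((a.1 : G)⁻¹ * b.1 * ga) := by
            rw [hga', ((hmemX _).1 ga.2 _ hd).eq]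
        _ = (ga : G)⁻¹ * (s * b.1) * ga := by group
        _ = (ga : G)⁻¹ * gb * t * ((ga : G)⁻¹ * gb)⁻¹ := by rw [← hgb']; group
  have hφsurj : Function.Surjective φ :=
    ((Nat.bijective_iff_injective_and_card φ).2
      ⟨hφinj, le_antisymm (Nat.card_le_card_of_injective φ hφinj) hcard⟩).2
  have hlift : ∀ x, (∀ d ∈ D, Commute x d) → x * t * x⁻¹ ∈ M → ∃ y : L, (y.1 : G) * t * (y.1 : G)⁻¹ = x * t * x⁻¹ := by
    intro x hx hxM
    obtain ⟨y, hy⟩ := hφsurj ⟨(⟨x, (hmemX x).2 hx⟩ : X) * tX * (⟨x, (hmemX x).2 hx⟩ : X)⁻¹, hxM, _, rfl⟩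
    exact ⟨y, congrArg (fun z : Om => ((z.1 : X) : G)) hy⟩
  -- every element is inverted
  have hallinv : ∀ k ∈ K, (s : G) * k * s = k⁻¹ := by
    intro k hk
    have hkX := (hmemX k).1 (hKX hk)
    obtain ⟨y, hy⟩ := hlift k hkX (M.mul_mem (M.mul_mem (hKM hk) hM.self_mem) (M.inv_mem (hKM hk)))
    have hd := hfix _ _ (subset_closure ⟨y, rfl⟩) hk hy
    set d := (y.1 : G)⁻¹ * k with hd'
    have hk' : k = y.1 * d := by rw [hd', mul_inv_cancel_left]
    have hdi : d⁻¹ = d := inv_eq_of_mul_eq_one_right (hD2 d hd)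
    rw [hk', mul_inv_rev, hdi]
    calc (s : G) * (y.1 * d) * s = s * y.1 * (d * s) := by group
      _ = s * y.1 * s * d := by rw [← (hsX d hd).eq]; group
      _ = (y.1 : G)⁻¹ * d := by rw [hinvd]
      _ = d * (y.1 : G)⁻¹ := by rw [(((hmemX _).1 y.1.2 d hd).inv_left).eq]
  have hab : ∀ a ∈ K, ∀ b ∈ K, Commute a b := by
    intro a ha b hb
    show a * b = b * a
    have h := hallinv _ (K.mul_mem ha hb)
    have : (s : G) * (a * b) * s = a⁻¹ * b⁻¹ := by
      calc (s : G) * (a * b) * s = s * a * (s * s) * b * s := by rw [hss]; group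
        _ = s * a * s * (s * b * s) := by group
        _ = _ := by rw [hallinv a ha, hallinv b hb]
    rw [this, ← mul_inv_rev] at h
    exact (inv_injective h).symm
  -- the configuration
  obtain ⟨yp, hypX, hyp⟩ := hp
  obtain ⟨y, hy⟩ := hlift yp hypX (hyp ▸ hpM)
  rw [hyp] at hy
  have hyK : (y.1 : G) ∈ K := subset_closure ⟨y, rfl⟩
  have hr : ∀ i, ∃ j, ∃ d ∈ D, (y.1 : G) * q i * (y.1 : G)⁻¹ = R j * d := by
    intro i
    obtain ⟨yq, hyqX, hyq⟩ := hq i
    obtain ⟨z, hz⟩ := hlift yq hyqX (hyq ▸ hqM i)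
    rw [hyq] at hz
    have hzK : (z.1 : G) ∈ K := subset_closure ⟨z, rfl⟩
    have e : (y.1 : G) * z.1 * t * ((y.1 : G) * z.1)⁻¹ = y.1 * q i * (y.1 : G)⁻¹ := by rw [← hz]; group
    obtain ⟨j, d, hd, hj⟩ := hR i ((y.1 : G) * z.1) ((hmemX _).1 (X.mul_mem y.1.2 z.1.2))
      (by rw [e]; exact M.mul_mem (M.mul_mem y.2.1 (hqM i)) (M.inv_mem y.2.1))
      (by rw [e, ← hy]; exact (Commute.conj_iff _).2 (hqt i))
      (by
        rw [(hab _ hyK _ hzK).eq]
        have e' : (z.1 : G) * y.1 * t * ((z.1 : G) * y.1)⁻¹ = z.1 * p * (z.1 : G)⁻¹ := by rw [← hy]; group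
        rw [e', ← hz]
        exact (Commute.conj_iff _).2 hpt)
    exact ⟨j, d, hd, e ▸ hj⟩
  choose j d hd hj using hr
  obtain ⟨i, i', hne, he⟩ := Fintype.exists_ne_map_eq_of_card_lt j (by simp)
  refine hne (hdist i i' ((d i') * (d i)) (D.mul_mem (hd i') (hd i)) ?_)
  have hyd : Commute (y.1 : G) (d i' * d i) := (hmemX _).1 y.1.2 _ (D.mul_mem (hd i') (hd i))
  refine mul_left_cancel (a := (y.1 : G)) (mul_right_cancel (b := (y.1 : G)⁻¹) ?_)
  calc (y.1 : G) * q i * (y.1 : G)⁻¹ = R (j i') * (d i' * d i' * d i) := by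
        rw [hj i, he, hD2 _ (hd i'), one_mul]
    _ = R (j i') * d i' * (d i' * d i) := by group
    _ = y.1 * q i' * (y.1 : G)⁻¹ * (d i' * d i) := by rw [← hj i']
    _ = y.1 * (q i' * (d i' * d i)) * (y.1 : G)⁻¹ := by
        rw [mul_assoc ((y.1 : G) * q i'), (hyd.inv_left).eq]; group

end Cfsg.Agent.HeRecog
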