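import Cfsg.Agent.HeRecog.EngineCert
import Cfsg.Agent.HeRecog.CountCent

/-! The counting argument on codes. -/

set_option autoImplicit false
set_option linter.all false

namespace Cfsg.Agent.HeRecog

open Cfsg.Agent.CosetCert

namespace Engine

/-- An involution, a combination whose product with it is fused, and the list seen from there. -/
structure InvItem where
  e : Nat
  d : Nat
  Z : List Nat
  ch : Chain

/-- The data of the counting argument. -/
structure Count where
  R : List Nat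
  A : Cfg
  invs : List InvItem
  p : Nat × Chain
  qs : List (Nat × Chain)
  d0 : List Nat
  rr : List Nat

namespace Count

variable (E : Env) (N : Count)

noncomputable def n : Nat := 2 ^ N.R.length

noncomputable def span (Z : List Nat) (c : Nat) : Bool :=
  !allFrom (fun j => !Nat.beq (comb E.D Z j) c) 0 (2 ^ Z.length)

noncomputable def checkMul (i : Nat) : Bool :=
  allFrom (fun j => Nat.beq (E.D.mul (comb E.D N.R i) (comb E.D N.R j)) (comb E.D N.R (Nat.xor i j))) 0 N.n

noncomputable def checkInvEntry (e : Nat × Nat × Nat) : Bool :=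
  !(N.R.all fun z => cm E.D e.1 z) || (span E N.R e.1 || N.invs.any fun x => Nat.beq x.e e.1)

noncomputable def checkSeen (Z : List Nat) (e : Nat × Nat × Nat) : Bool :=
  !(Z.all fun z => cm E.D e.1 z) || (span E Z e.1 ||
    !allFrom (fun j => !E.fz (E.D.mul e.1 (comb E.D Z j))) 0 N.n)

noncomputable def checkItem (x : InvItem) : Bool :=
  Nat.blt x.e 21504 && (Nat.blt x.d N.n && (E.fz (E.D.mul x.e (comb E.D N.R x.d)) &&
    (E.chainOk (1 :: x.Z) x.ch (E.D.mul x.e (comb E.D N.R x.d) :: N.R) && E.K.tab.all (N.checkSeen E x.Z))))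

noncomputable def sqTo : Nat → Nat → Bool
  | 0, _ => false
  | k + 1, c => (Nat.beq (E.D.mul c c) 0 && !span E N.R c) || sqTo k (E.D.mul c c)

noncomputable def checkPow (c : Nat) : Bool :=
  !(N.R.all fun z => cm E.D c z) || (span E N.R c || N.sqTo E 5 c)

noncomputable def checkPt (x : Nat × Chain) : Bool :=
  Nat.blt x.1 21504 && E.chainOk (1 :: N.R) x.2 (x.1 :: N.R)

noncomputable def q (i : Nat) : Nat := (N.qs.getD i (0, [])).1

noncomputable def checkQ (i : Nat) : Bool :=
  N.checkPt E (N.qs.getD i (0, [])) &&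
    (Nat.beq (E.D.mul (E.D.mul N.p.1 (N.q i)) (E.D.mul N.p.1 (N.q i))) (E.D.mul 1 (comb E.D N.R (N.d0.getD i 0))) &&
      (E.K.tab.all (fun e => !(N.R.all fun z => cm E.D e.1 z) || (!cm E.D e.1 N.p.1 || (!cm E.D e.1 (N.q i) ||
          (!E.fz e.1 || !allFrom (fun j => allFrom (fun d =>
            !Nat.beq e.1 (E.D.mul (N.rr.getD j 0) (comb E.D N.R d))) 0 N.n) 0 3)))) &&
        allFrom (fun i' => Nat.beq i i' || allFrom (fun d =>
          !Nat.beq (N.q i) (E.D.mul (N.q i') (comb E.D N.R d))) 0 N.n) 0 4))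

noncomputable def check : Bool :=
  N.A.check E [] N.R && (N.A.noSelf E && (all2 Nat.beq N.A.T N.R &&
    ((N.R.all fun a => Nat.blt a 21504) && (allFrom (N.checkMul E) 0 N.n &&
      (E.K.tab.all (N.checkInvEntry E) && (N.invs.all (N.checkItem E) &&
        (allFrom (N.checkPow E) 0 21504 && (N.checkPt E N.p && (allFrom (fun j => Nat.blt (N.rr.getD j 0) 21504) 0 3 &&
          allFrom (N.checkQ E) 0 4)))))))))

end Count

variable {E : Env} {G : Type*} [Group G] [Finite G] {t : G} {co : Coord E.D t} {M : Subgroup G}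

theorem comb_zero (D : Tables) : ∀ Z : List Nat, comb D Z 0 = 0
  | [] => rfl
  | z :: Z => by rw [comb, Nat.zero_div, comb_zero D Z]; rfl

theorem span_iff {Z : List Nat} {c : Nat} :
    Count.span E Z c = true ↔ ∃ j, j < 2 ^ Z.length ∧ comb E.D Z j = c := by
  simp only [Count.span, Bool.not_eq_true', ← Bool.not_eq_true, allFrom_iff, not_forall, Bool.not_eq_false,
    exists_prop]
  constructor
  · rintro ⟨j, -, hj, hjc⟩
    exact ⟨j, by omega, Nat.eq_of_beq_eq_true (by simpa using hjc)⟩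
  · rintro ⟨j, hj, rfl⟩
    exact ⟨j, Nat.zero_le _, by omega, by simp⟩

theorem cm_of_comm {c z : Nat} (hc : c < 21504) (hz : z < 21504) (h : Commute (co.ψ c) (co.ψ z)) :
    cm E.D c z = true := by
  show Nat.beq (E.D.mul c z) (E.D.mul z c) = true
  rw [co.inj _ _ (co.lt c z hc hz) (co.lt z c hz hc) (by rw [co.mul c z hc hz, co.mul z c hz hc]; exact h.eq)]
  exact Nat.beq_refl _

theorem entry_of (h : Ctx E co M) {c : Nat} (hc : c < 21504) (hsq : co.ψ c * co.ψ c = 1) (h1 : co.ψ c ≠ 1) :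
    ∃ e ∈ E.K.tab, e.1 = c := by
  obtain ⟨k, e, hm, -⟩ := Classes.class_of co h.cls hc (fun e => h1 (by rw [e, co.zero]))
    (co.inj _ _ (co.lt c c hc hc) (by norm_num) (by rw [co.mul c c hc hc, hsq, co.zero]))
  exact ⟨_, hm, rfl⟩

theorem not_false_allFrom {p : Nat → Bool} {n : Nat} (h : (!allFrom p 0 n) = true) :
    ∃ j, j < n ∧ p j = false := by
  by_contra hne
  simp only [Bool.not_eq_true', ← Bool.not_eq_true] at h
  refine h ((allFrom_iff _ _ _).2 fun j _ hj => ?_)
  by_contra hp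
  exact hne ⟨j, by omega, by simpa using hp⟩

/-- The centraliser of the root lies in the controlling subgroup. -/
theorem Count.cent (h : Ctx E co M) (hM : Ctrl M t) {N : Count} (hN : N.check E = true) :
    ∀ g, (∀ z ∈ N.R, Commute g (co.ψ z)) → g ∈ M := by
  simp only [Count.check, Bool.and_eq_true] at hN
  obtain ⟨hA, hS, hAT, hR, hmul, hinvE, hitems, hpow, hp, hrr, hq⟩ := hN
  have hAT : N.A.T = N.R := all2_eq hAT
  have hR : ∀ a ∈ N.R, a < 21504 := fun a ha => Nat.ble_eq.mp (List.all_eq_true.1 hR a ha)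
  let d : Nat → G := fun j => co.ψ (comb E.D N.R j)
  have hdl : ∀ j, comb E.D N.R j < 21504 := fun j => (comb_spec h j hR).1
  have hdm : ∀ i j, i < N.n → j < N.n → d i * d j = d (i ^^^ j) ∧ i ^^^ j < N.n := fun i j hi hj => by
    refine ⟨?_, Nat.xor_lt_two_pow hi hj⟩
    show co.ψ _ * co.ψ _ = co.ψ _
    rw [← co.mul _ _ (hdl i) (hdl j), Nat.eq_of_beq_eq_true (Tables.all_lt (Tables.all_lt hmul hi) hj)]
    rfl
  have hd0 : d 0 = 1 := by show co.ψ _ = _; rw [comb_zero, co.zero]
  have hn0 : 0 < N.n := Nat.two_pow_pos _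
  let Dg : Subgroup G :=
    { carrier := {g | ∃ j, j < N.n ∧ d j = g}
      one_mem' := ⟨0, hn0, hd0⟩
      mul_mem' := by
        rintro _ _ ⟨i, hi, rfl⟩ ⟨j, hj, rfl⟩
        exact ⟨i ^^^ j, (hdm i j hi hj).2, (hdm i j hi hj).1.symm⟩
      inv_mem' := by
        rintro _ ⟨i, hi, rfl⟩
        refine ⟨i, hi, eq_inv_of_mul_eq_one_left ?_⟩
        rw [(hdm i i hi hi).1, Nat.xor_self, hd0] }
  have hcomD : ∀ g, (∀ z ∈ N.R, Commute g (co.ψ z)) → ∀ x ∈ Dg, Commute g x := by
    rintro g hg _ ⟨j, -, rfl⟩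
    exact (comb_spec h j hR).2 g hg
  have hgenD : ∀ g, (∀ x ∈ Dg, Commute g x) → ∀ z ∈ N.R, Commute g (co.ψ z) := by
    intro g hg z hz
    obtain ⟨i, hi, rfl⟩ := List.getElem_of_mem hz
    suffices ∀ (Z : List Nat) (i : Nat) (hi : i < Z.length), (∀ a ∈ Z, a < 21504) →
        comb E.D Z (2 ^ i) = E.D.mul Z[i] 0 ∧ 2 ^ i < 2 ^ Z.length by
      obtain ⟨e, hl⟩ := this N.R i hi hR
      have hv := hg _ ⟨2 ^ i, hl, rfl⟩
      show Commute g (co.ψ N.R[i])
      simp only [d, e, co.mul _ 0 (hR _ hz) (by norm_num), co.zero, mul_one] at hv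
      exact hv
    intro Z
    induction Z with
    | nil => intro i hi; simp at hi
    | cons a Z ih =>
      intro i hi hZ
      cases i with
      | zero =>
        refine ⟨?_, Nat.one_lt_two_pow (by simp)⟩
        simp [comb, comb_zero]
      | succ i =>
        obtain ⟨e, -⟩ := ih i (by simpa using hi) fun b hb => hZ b (List.mem_cons_of_mem _ hb)
        refine ⟨?_, Nat.pow_lt_pow_right (by norm_num) hi⟩
        have h2 : 2 ^ (i + 1) % 2 = 0 := by rw [pow_succ]; simp
        have h3 : 2 ^ (i + 1) / 2 = 2 ^ i := by rw [pow_succ]; simp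
        rw [comb, h2, h3, e]; rfl
  -- the hypotheses
  intro g hg
  refine Ctrl.cent_le_of_count hM h.tsq Dg ?_ ?_ ?_ ?_ ?_ ?_ (co.ψ N.p.1) (fun i => co.ψ (N.q i))
    (fun j => co.ψ (N.rr.getD j 0)) ?_ ?_ ?_ ?_ ?_ ?_ ?_ ?_ g (hcomD g hg)
  · rintro _ ⟨i, hi, rfl⟩
    rw [(hdm i i hi hi).1, Nat.xor_self, hd0]
  · rintro _ ⟨i, -, rfl⟩
    exact co.mem _ (hdl i)
  · rintro _ ⟨i, hi, rfl⟩ _ ⟨j, hj, rfl⟩
    show d i * d j = d j * d i
    rw [(hdm i j hi hj).1, (hdm j i hj hi).1, Nat.xor_comm]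
  · intro v hvM hvv hvD hvnot
    obtain ⟨k, hk, hkv⟩ := dihedral t v h.tsq hvv
    have hDt : ∀ x ∈ Dg, Commute x t := by rintro _ ⟨i, -, rfl⟩; exact co.mem _ (hdl i)
    rcases hkv with hkv | ⟨w, hww, hw1, hwt, hwv, hwu, hcase⟩
    · exact ⟨1, Dg.one_mem, isConj_iff.2 ⟨k, by rw [hkv, mul_one]⟩⟩
    have hwX : ∀ x ∈ Dg, Commute w x := fun x hx => (hwu x (hDt x hx) (hvD x hx).symm).symm
    have hkX : ∀ x ∈ Dg, Commute k x := fun x hx => (hk x (hDt x hx) (hvD x hx).symm).symm
    obtain ⟨c, hc, hcw⟩ := co.surj w hwt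
    by_cases hwD : w ∈ Dg
    · refine ⟨w, hwD, ?_⟩
      rcases hcase with ⟨e, -⟩ | e
      · obtain ⟨j, hj, hjw⟩ := hwD
        have hlt : comb E.D N.A.T j < 21504 := hAT ▸ hdl j
        have hA' := hA
        simp only [Cfg.check, Bool.and_eq_true] at hA'
        have hsp := Tables.all_lt hA'.2.2.2.2.2 (hAT ▸ hj : j < 2 ^ N.A.T.length)
        simp only [Cfg.checkSpan, Bool.and_eq_true, Bool.or_eq_true, List.any_eq_true] at hsp
        rcases hsp.2 with hj0 | hnf | ⟨tr, htr, htj⟩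
        · exact absurd (by rw [← hjw, Nat.eq_of_beq_eq_true hj0, hd0]) hw1
        · exfalso
          have hl := co.lt 1 _ (by norm_num) hlt
          have hval : co.ψ (E.D.mul 1 (comb E.D N.A.T j)) = t * w := by
            rw [co.mul 1 _ (by norm_num) hlt, co.one, ← hjw, hAT]
          have := (h.fz_iff hl (by rw [hval, ← e]; exact conj_sq h.tsq)).2 (hval ▸ isConj_iff.2 ⟨k, e⟩)
          rw [this] at hnf
          simp at hnf
        · obtain rfl : tr.j = j := Nat.eq_of_beq_eq_true htj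
          exact (Cfg.not_self h hA htr (List.all_eq_true.1 hS tr htr) (k := k)
            (fun z hz => hgenD k hkX z (hAT ▸ hz)) (by rw [hAT]; exact e.trans (by rw [← hjw])) hlt).elim
      · refine isConj_iff.2 ⟨k, ?_⟩
        have hkw : Commute k w := hkX w hwD
        calc k * t * k⁻¹ = k * (t * w) * k⁻¹ * w := by
              rw [show k * (t * w) * k⁻¹ = k * t * k⁻¹ * (k * w * k⁻¹) by group, hkw.eq, mul_inv_cancel_right,
                mul_assoc (k * t * k⁻¹), hww, mul_one]
          _ = v * w := by rw [e]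
    obtain ⟨ent, hent, rfl⟩ := entry_of h hc (by rw [hcw, hww]) (by rw [hcw]; exact hw1)
    have he := List.all_eq_true.1 hinvE _ hent
    simp only [Count.checkInvEntry, Bool.or_eq_true, Bool.not_eq_true', ← Bool.not_eq_true, List.any_eq_true,
      List.all_eq_true] at he
    rcases he with he | he | ⟨x, hx, hxe⟩
    · exact absurd (fun z hz => cm_of_comm hc (hR z hz) (by rw [hcw]; exact hgenD w hwX z hz)) he
    · obtain ⟨j, hj, hjc⟩ := span_iff.1 he
      exact absurd ⟨j, hj, by show co.ψ _ = w; rw [hjc, hcw]⟩ hwD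
    have hxe : x.e = ent.1 := Nat.eq_of_beq_eq_true hxe
    have hit := List.all_eq_true.1 hitems x hx
    simp only [Count.checkItem, Bool.and_eq_true] at hit
    obtain ⟨-, hxd, hxf, hch, hseen⟩ := hit
    have hxd := Nat.ble_eq.mp hxd
    rw [hxe] at hxf hch
    obtain ⟨n, hn, hf⟩ := h.chain hch
    rcases hf with _ | ⟨⟨-, -, hnb⟩, hf⟩
    rw [co.one, co.mul _ _ hc (hdl _), hcw] at hnb
    set v' := n⁻¹ * v * n with hv'
    have hv't : Commute v' t := by
      have h1 : Commute v (n * t * n⁻¹) := by rw [hnb]; exact hwv.symm.mul_right (hvD _ ⟨x.d, hxd, rfl⟩)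
      have := (Commute.conj_iff n⁻¹).2 h1
      simpa [hv', mul_assoc] using this
    obtain ⟨c', hc', hcv⟩ := co.surj v' hv't
    have hv'2 : v' * v' = 1 := by
      rw [hv']
      calc n⁻¹ * v * n * (n⁻¹ * v * n) = n⁻¹ * (v * v) * n := by group
        _ = 1 := by rw [hvv]; group
    have hv'1 : v' ≠ 1 := fun e => hvnot (by
      have : v = 1 := by
        calc v = n * v' * n⁻¹ := by rw [hv']; group
          _ = 1 := by rw [e]; group
      rw [this]; exact Dg.one_mem)
    obtain ⟨ent', hent', rfl⟩ := entry_of h hc' (by rw [hcv, hv'2]) (by rw [hcv]; exact hv'1)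
    have hs := List.all_eq_true.1 hseen _ hent'
    simp only [Count.checkSeen, Bool.or_eq_true, Bool.not_eq_true', ← Bool.not_eq_true, List.all_eq_true] at hs
    have hlen : x.Z.length = N.R.length := hf.length_eq
    rcases hs with hs | hs | hs
    · refine absurd (fun z hz => ?_) hs
      obtain ⟨b, hb, hz', -, e⟩ := forall₂_left hf hz
      refine cm_of_comm (co := co) hc' hz' ?_
      rw [hcv, hv']
      have := (Commute.conj_iff n⁻¹).2 (hgenD v hvD b hb)
      rw [← e] at this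
      simpa [mul_assoc] using this
    · obtain ⟨j, hj, hjc⟩ := span_iff.1 hs
      refine absurd ⟨j, (by show j < 2 ^ N.R.length; rw [← hlen]; exact hj), ?_⟩ hvnot
      obtain ⟨-, -, e⟩ := comb_conj h hf j
      show co.ψ _ = v
      rw [← e, hjc, hcv, hv']; group
    · obtain ⟨j, hj, hjf⟩ := not_false_allFrom (Bool.not_eq_true' _ ▸ (Bool.eq_false_iff.2 hs))
      simp only [Bool.not_eq_false'] at hjf
      obtain ⟨hl, -, e⟩ := comb_conj h hf j
      refine ⟨d j, ⟨j, hj, rfl⟩, ?_⟩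
      have hval : n * co.ψ (E.D.mul ent'.1 (comb E.D x.Z j)) * n⁻¹ = v * d j := by
        rw [co.mul _ _ hc' hl, hcv]
        show _ = v * co.ψ _
        rw [← e, hv']; group
      refine IsConj.trans ((h.fz_iff (co.lt _ _ hc' hl) ?_).1 hjf) (isConj_iff.2 ⟨n, hval⟩)
      have h1 : Commute v (d j) := hvD _ ⟨j, hj, rfl⟩
      have h2 : v * d j * (v * d j) = 1 := by
        rw [show v * d j * (v * d j) = v * (d j * v) * d j by group, ← h1.eq,
          show v * (v * d j) * d j = v * v * (d j * d j) by group, hvv, (hdm j j hj hj).1, Nat.xor_self, hd0, one_mul]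
      have h3 : co.ψ (E.D.mul ent'.1 (comb E.D x.Z j)) = n⁻¹ * (v * d j) * n := by rw [← hval]; group
      rw [h3]
      calc n⁻¹ * (v * d j) * n * (n⁻¹ * (v * d j) * n) = n⁻¹ * (v * d j * (v * d j)) * n := by group
        _ = 1 := by rw [h2]; group
  · intro x hx hxt
    obtain ⟨-, ⟨j, hj, rfl⟩, hxj⟩ := hxt
    by_contra hne
    have hlt : comb E.D N.A.T j < 21504 := hAT ▸ hdl j
    have hA' := hA
    simp only [Cfg.check, Bool.and_eq_true] at hA'
    have hsp := Tables.all_lt hA'.2.2.2.2.2 (hAT ▸ hj : j < 2 ^ N.A.T.length)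
    simp only [Cfg.checkSpan, Bool.and_eq_true, Bool.or_eq_true, List.any_eq_true] at hsp
    have hxj : t * d j = x * t * x⁻¹ := hxj
    rcases hsp.2 with hj0 | hnf | ⟨tr, htr, htj⟩
    · exact hne (by rw [← hxj, Nat.eq_of_beq_eq_true hj0, hd0, mul_one])
    · have hl := co.lt 1 _ (by norm_num) hlt
      have hval : co.ψ (E.D.mul 1 (comb E.D N.A.T j)) = x * t * x⁻¹ := by
        rw [co.mul 1 _ (by norm_num) hlt, co.one, hAT]; exact hxj
      have := (h.fz_iff hl (by rw [hval]; exact conj_sq h.tsq)).2 (hval ▸ isConj_iff.2 ⟨x, rfl⟩)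
      rw [this] at hnf
      simp at hnf
    · obtain rfl : tr.j = j := Nat.eq_of_beq_eq_true htj
      exact Cfg.not_self h hA htr (List.all_eq_true.1 hS tr htr) (k := x)
        (fun z hz => hgenD x hx z (hAT ▸ hz)) (by rw [hAT]; exact hxj.symm) hlt
  · intro y hyt hyD hynot
    obtain ⟨c, hc, hcy⟩ := co.surj y hyt
    have hpc := Tables.all_lt hpow hc
    simp only [Count.checkPow, Bool.or_eq_true, Bool.not_eq_true', ← Bool.not_eq_true, List.all_eq_true] at hpc
    rcases hpc with hpc | hpc | hpc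
    · exact absurd (fun z hz => cm_of_comm hc (hR z hz) (by rw [hcy]; exact hgenD y hyD z hz)) hpc
    · obtain ⟨j, hj, hjc⟩ := span_iff.1 hpc
      exact absurd ⟨j, hj, by show co.ψ _ = y; rw [hjc, hcy]⟩ hynot
    have key : ∀ k c, c < 21504 → N.sqTo E k c = true → ∀ a : Nat, co.ψ c = y ^ a →
        ∃ a' : Nat, (y ^ a') * (y ^ a') = 1 ∧ y ^ a' ∉ Dg := by
      intro k
      induction k with
      | zero => intro c _ hs; simp [Count.sqTo] at hs
      | succ k ih =>
        intro c hc hs a ha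
        simp only [Count.sqTo, Bool.or_eq_true, Bool.and_eq_true, Bool.not_eq_true'] at hs
        rcases hs with ⟨h1, h2⟩ | hs
        · refine ⟨a, by rw [← ha, ← co.mul c c hc hc, Nat.eq_of_beq_eq_true h1, co.zero], ?_⟩
          rintro ⟨j, hj, e⟩
          have := span_iff.2 ⟨j, hj, co.inj _ _ (hdl j) hc (e.trans ha.symm)⟩
          rw [h2] at this
          exact Bool.false_ne_true this
        · exact ih _ (co.lt c c hc hc) hs (a + a) (by rw [co.mul c c hc hc, ha, ← pow_add])
    exact key 5 c hc hpc 1 (by rw [hcy, pow_one])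
  · simp only [Count.checkPt, Bool.and_eq_true] at hp
    obtain ⟨n, -, hf⟩ := h.chain hp.2
    rcases hf with _ | ⟨⟨-, -, he⟩, hf⟩
    rw [co.one] at he
    exact ⟨n, hcomD n fun z hz => mul_inv_eq_iff_eq_mul.1 (List.forall₂_same.1 hf z hz).2.2, he⟩
  · simp only [Count.checkPt, Bool.and_eq_true] at hp
    exact co.mem _ (Nat.ble_eq.mp hp.1)
  · intro i
    have hqi := Tables.all_lt hq i.2
    simp only [Count.checkQ, Count.checkPt, Bool.and_eq_true] at hqi
    obtain ⟨n, -, hf⟩ := h.chain hqi.1.2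
    rcases hf with _ | ⟨⟨-, -, he⟩, hf⟩
    rw [co.one] at he
    exact ⟨n, hcomD n fun z hz => mul_inv_eq_iff_eq_mul.1 (List.forall₂_same.1 hf z hz).2.2, he⟩
  · intro i
    have hqi := Tables.all_lt hq i.2
    simp only [Count.checkQ, Count.checkPt, Bool.and_eq_true] at hqi
    exact co.mem _ (Nat.ble_eq.mp hqi.1.1)
  · simp only [Count.checkPt, Bool.and_eq_true] at hp
    exact hM.of_comm (co.mem _ (Nat.ble_eq.mp hp.1))
  · intro i
    have hqi := Tables.all_lt hq i.2
    simp only [Count.checkQ, Count.checkPt, Bool.and_eq_true] at hqi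
    exact hM.of_comm (co.mem _ (Nat.ble_eq.mp hqi.1.1))
  · intro i x hx hxM hxp hxq
    have hqi := Tables.all_lt hq i.2
    simp only [Count.checkQ, Count.checkPt, Bool.and_eq_true] at hqi
    obtain ⟨⟨hql, -⟩, hpq, hr, -⟩ := hqi
    simp only [Count.checkPt, Bool.and_eq_true] at hp
    have hql : N.q i < 21504 := Nat.ble_eq.mp hql
    have hpl := Nat.ble_eq.mp hp.1
    set r := x * t * x⁻¹ with hr'
    have hrD : ∀ e ∈ Dg, Commute r e := by
      intro e he
      have : Commute t e := by obtain ⟨a, -, rfl⟩ := he; exact (co.mem _ (hdl a)).symm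
      exact ((hx e he).mul_left this).mul_left (hx e he).inv_left
    have hrt : Commute r t := by
      have h1 : Commute r (co.ψ (E.D.mul (E.D.mul N.p.1 (N.q i)) (E.D.mul N.p.1 (N.q i)))) := by
        rw [co.mul _ _ (co.lt _ _ hpl hql) (co.lt _ _ hpl hql), co.mul _ _ hpl hql]
        exact (hxp.mul_right hxq).mul_right (hxp.mul_right hxq)
      rw [Nat.eq_of_beq_eq_true hpq, co.mul 1 _ (by norm_num) (hdl _), co.one] at h1
      have h2 : Commute r (co.ψ (comb E.D N.R (N.d0.getD i 0))) :=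
        (comb_spec h _ hR).2 r fun z hz => hgenD r hrD z hz
      have := h1.mul_right h2.inv_right
      rwa [mul_inv_cancel_right] at this
    obtain ⟨c, hc, hcr⟩ := co.surj r hrt
    have hrr2 : r * r = 1 := conj_sq h.tsq
    obtain ⟨ent, hent, rfl⟩ := entry_of h hc (by rw [hcr, hrr2]) (by
      rw [hcr, hr']; exact fun e => h.tne (conj_eq_one_iff.1 e))
    have hchk := List.all_eq_true.1 hr _ hent
    simp only [Bool.or_eq_true, Bool.not_eq_true', ← Bool.not_eq_true, List.all_eq_true] at hchk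
    rcases hchk with h1 | h1 | h1 | h1 | h1
    · exact absurd (fun z hz => cm_of_comm hc (hR z hz) (by rw [hcr]; exact hgenD r hrD z hz)) h1
    · exact absurd (cm_of_comm hc hpl (by rw [hcr]; exact hxp)) h1
    · exact absurd (cm_of_comm hc hql (by rw [hcr]; exact hxq)) h1
    · refine absurd ((h.fz_iff hc (by rw [hcr, hrr2])).2 ?_) h1
      rw [hcr]; exact isConj_iff.2 ⟨x, rfl⟩
    · obtain ⟨j, hj, hj'⟩ := not_false_allFrom (Bool.not_eq_true' _ ▸ (Bool.eq_false_iff.2 h1))
      obtain ⟨e, he, he'⟩ := not_false_allFrom (p := fun e => !Nat.beq ent.1 (E.D.mul (N.rr.getD j 0) (comb E.D N.R e)))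
        (by rw [hj']; rfl)
      refine ⟨⟨j, hj⟩, d e, ⟨e, he, rfl⟩, ?_⟩
      have hee : ent.1 = E.D.mul (N.rr.getD j 0) (comb E.D N.R e) := Nat.eq_of_beq_eq_true (by simpa using he')
      rw [← hcr, hee]
      exact co.mul _ _ (Nat.ble_eq.mp (Tables.all_lt hrr hj)) (hdl e)
  · rintro i i' _ ⟨e, he, rfl⟩ heq
    by_contra hne
    have hqi := Tables.all_lt hq i.2
    have hqi' := Tables.all_lt hq i'.2
    simp only [Count.checkQ, Count.checkPt, Bool.and_eq_true, Bool.or_eq_true] at hqi hqi'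
    rcases Bool.or_eq_true _ _ ▸ Tables.all_lt hqi.2.2.2 i'.2 with h1 | h1
    · exact hne (Fin.ext (Nat.eq_of_beq_eq_true h1))
    · have h2 := Tables.all_lt h1 he
      have hl : N.q i' < 21504 := Nat.ble_eq.mp hqi'.1.1
      rw [co.inj (N.q i) (E.D.mul (N.q i') (comb E.D N.R e)) (Nat.ble_eq.mp hqi.1.1) (co.lt _ _ hl (hdl e))
        (by rw [co.mul _ _ hl (hdl e)]; exact heq)] at h2
      simp at h2

end Engine

end Cfsg.Agent.HeRecog
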