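import Cfsg.Agent.HeRecog.Options

/-! An element of one local group moving the other subgroup. -/

set_option autoImplicit false
set_option linter.all false

namespace Cfsg.Agent.HeRecog

open Cfsg.Agent.CosetCert

namespace Side

variable {A B : Side} {P : PairData} {D : Tables} {K : Classes} {G : Type*} [Group G] [Finite G] {t : G}
  {co : Coord D t} {x y m : G}

/-- The expansions carry a basis of the second subgroup into it. -/
noncomputable def checkCross (A : Side) (Y : EData) (P : PairData) (D : Tables) (es : List Expn) (α : Nat → Nat) :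
    Bool :=
  allFrom (fun i => match es.drop i with
    | [] => false
    | e :: _ => checkExpn A P D e && (Nat.beq e.c (Y.el (2 ^ i)) && Nat.beq e.r (Y.el (α (2 ^ i))))) 0 6 &&
    allFrom (fun v => Nat.blt (α v) 64 && allFrom (fun w => Nat.beq (α (Nat.xor v w)) (Nat.xor (α v) (α w))) 0 64) 0 64

theorem cross_spec (hA : A.Valid P D K) (hP : P.Valid D K) (hX : A.X.Valid D K) (hU : A.U.Valid A.X P D)
    (hF : Frame A co x) (hm : A.X.Induces co m (A.mat 2) ∧ InL x m) {Y : EData} (hY : Y.Valid D K)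
    {es : List Expn} {α : Nat → Nat} (h : checkCross A Y P D es α = true) : Y.Induces co m α := by
  simp only [checkCross, Bool.and_eq_true] at h
  obtain ⟨hes, hα⟩ := h
  have hlt : ∀ v, v < 64 → α v < 64 := fun v hv => by
    have := Tables.all_lt hα hv
    simp only [Bool.and_eq_true] at this
    exact Nat.ble_eq.mp this.1
  have hadd : ∀ v w, v < 64 → w < 64 → α (v ^^^ w) = α v ^^^ α w := fun v w hv hw => by
    have := Tables.all_lt hα hv
    simp only [Bool.and_eq_true] at this
    exact Nat.eq_of_beq_eq_true (Tables.all_lt this.2 hw)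
  have hbase : ∀ i, i < 6 → m * Y.E co (2 ^ i) * m⁻¹ = Y.E co (α (2 ^ i)) := fun i hi => by
    have h := Tables.all_lt hes hi
    generalize es.drop i = l at h
    match l with
    | [] => exact Bool.noConfusion h
    | e :: _ =>
      simp only [Bool.and_eq_true] at h
      obtain ⟨-, -, he⟩ := expn_spec hA hP hX hU hF hm h.1
      rw [Nat.eq_of_beq_eq_true h.2.1, Nat.eq_of_beq_eq_true h.2.2] at he
      exact he
  have key : ∀ k, k ≤ 6 → ∀ v, v < 2 ^ k → m * Y.E co v * m⁻¹ = Y.E co (α v) := by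
    intro k
    induction k with
    | zero =>
      intro _ v hv
      obtain rfl : v = 0 := by simp at hv; omega
      have h0 : α 0 = 0 := by
        have := hadd 0 0 (by norm_num) (by norm_num)
        rwa [Nat.xor_self, Nat.xor_self] at this
      rw [h0, EData.E_zero co hY, mul_one, mul_inv_cancel]
    | succ k ih =>
      intro hk v hv
      rcases lt_or_ge v (2 ^ k) with h' | h'
      · exact ih (by omega) v h'
      have hv64 : v < 64 := lt_of_lt_of_le hv (Nat.pow_le_pow_right (by norm_num) hk : 2 ^ (k + 1) ≤ 2 ^ 6)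
      have hk64 : (2 : ℕ) ^ k < 64 := Nat.pow_lt_pow_right (by norm_num) (by omega : k < 6)
      have hx : ∀ k : Fin 6, ∀ v : Fin 64, (v : Nat) < 2 ^ ((k : Nat) + 1) → 2 ^ (k : Nat) ≤ (v : Nat) →
          (v : Nat) ^^^ 2 ^ (k : Nat) < 2 ^ (k : Nat) := by decide +kernel
      have hs := hx ⟨k, by omega⟩ ⟨v, hv64⟩ hv h'
      have hs64 : v ^^^ 2 ^ k < 64 := lt_trans hs hk64
      have e1 : v = (v ^^^ 2 ^ k) ^^^ 2 ^ k := by rw [Nat.xor_assoc, Nat.xor_self, Nat.xor_zero]
      rw [e1, hadd _ _ hs64 hk64, ← EData.E_mul co hY hs64 hk64, ← EData.E_mul co hY (hlt _ hs64) (hlt _ hk64),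
        ← ih (by omega) _ hs, ← hbase k (by omega)]
      group
  exact fun v hv => ⟨hlt v hv, key 6 le_rfl v hv⟩

/-- The map spoils the marked set. -/
noncomputable def spoils (O : Nat) (α : Nat → Nat) : Bool :=
  !allFrom (fun v => Nat.testBit O (α v) == Nat.testBit O v) 0 64

theorem exists_m (hA : A.Valid P D K) (hP : P.Valid D K) (hX : A.X.Valid D K) (hU : A.U.Valid A.X P D)
    (hFA : Fused A.U A.X co) (ht1 : A.U.O.testBit 1 = true) (hF : Frame A co x) :
    ∃ m, A.X.Induces co m (A.mat 2) ∧ InL x m := by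
  have h := Tables.all_lt hA.norm (show 2 < 3 by norm_num)
  rw [Bool.or_eq_true] at h
  refine Fused.L_exists hFA hX hP hU ht1 hF.x_ind hF.x3 (pres hA (show 2 < 6 by norm_num)) ?_
  rcases h with h | h
  · exact Or.inl fun v hv => Nat.eq_of_beq_eq_true (Tables.all_lt h hv)
  · exact Or.inr fun v hv => Nat.eq_of_beq_eq_true (Tables.all_lt h hv)

theorem kill (hA : A.Valid P D K) (hP : P.Valid D K) (hX : A.X.Valid D K) (hU : A.U.Valid A.X P D)
    (hFA : Fused A.U A.X co) (ht1 : A.U.O.testBit 1 = true) (hF : Frame A co x)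
    {Y : EData} (hY : Y.Valid D K) {V : AutData} (hFB : Fused V Y co)
    {es : List Expn} {α : Nat → Nat} (h : checkCross A Y P D es α = true) (hs : spoils V.O α = true) : False := by
  obtain ⟨m, hm⟩ := exists_m hA hP hX hU hFA ht1 hF
  have hind := cross_spec hA hP hX hU hF hm hY h
  have hp := Fused.pres hFB hY hind
  simp only [spoils, Bool.not_eq_true', ← Bool.not_eq_true] at hs
  exact hs ((allFrom_iff _ _ _).2 fun v _ hv => by rw [hp.O v (by omega)]; exact beq_self_eq_true _)

/-- Two expansions of the same code. -/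
noncomputable def checkPairs (A B : Side) (P : PairData) (D : Tables) (ps : List (Expn × Expn)) : Bool :=
  ps.all fun p => checkExpn A P D p.1 && (checkExpn B P D p.2 && Nat.beq p.1.c p.2.c)

/-- The translation survives the tests. -/
noncomputable def survives (A B : Side) (P : PairData) (D : Tables) (ps : List (Expn × Expn)) (e : Nat) : Bool :=
  Nat.beq (Nat.xor (Nat.xor e (B.mat 2 e)) (B.mat 2 (B.mat 2 e))) 0 &&
    ps.all fun p => Nat.beq (P.cj D (B.X.el e) p.2.r) p.1.r

theorem live (hA : A.Valid P D K) (hB : B.Valid P D K) (hP : P.Valid D K) (hX : A.X.Valid D K)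
    (hY : B.X.Valid D K) (hU : A.U.Valid A.X P D) (hV : B.U.Valid B.X P D)
    (hFA : Fused A.U A.X co) (hFB : Fused B.U B.X co) (ht1 : A.U.O.testBit 1 = true)
    (ht1' : B.U.O.testBit 1 = true) (hF : Frame A co x) (hF' : Frame B co y)
    (hcube : allFrom (fun v => Nat.beq (mev A.mat [2, 2, 2] v) v) 0 64 = true)
    (hcube' : allFrom (fun v => Nat.beq (mev B.mat [2, 2, 2] v) v) 0 64 = true)
    {es : List Expn} (h : checkCross A B.X P D es (B.mat 2) = true) {ps : List (Expn × Expn)}
    (hps : checkPairs A B P D ps = true) :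
    ∃ m l e, (A.X.Induces co m (A.mat 2) ∧ InL x m) ∧ (B.X.Induces co l (B.mat 2) ∧ InL y l) ∧
      e < 64 ∧ m = B.X.E co e * l ∧ survives A B P D ps e = true := by
  obtain ⟨m, hm⟩ := exists_m hA hP hX hU hFA ht1 hF
  obtain ⟨l, hl⟩ := exists_m hB hP hY hV hFB ht1' hF'
  have hind := cross_spec hA hP hX hU hF hm hY h
  obtain ⟨v, hv, hmv⟩ := hl.1.eq_mul hY hind
  obtain ⟨he, hev⟩ := hl.1 v hv
  set e := B.mat 2 v
  have hme : m = B.X.E co e * l := by rw [hmv, ← hev]; group
  refine ⟨m, l, e, hm, hl, he, hme, ?_⟩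
  simp only [survives, Bool.and_eq_true, List.all_eq_true]
  constructor
  · have h3 := rel_one hA hP hX hU hF hm (w := [2, 2, 2]) (by decide) hcube
    have h3' := rel_one hB hP hY hV hF' hl (w := [2, 2, 2]) (by decide) hcube'
    simp only [wev, List.map_cons, List.map_nil, List.prod_cons, List.prod_nil, mul_one, val,
      if_neg (show (2 : ℕ) ≠ 0 by norm_num), if_neg (show (2 : ℕ) ≠ 1 by norm_num), if_true] at h3 h3'
    obtain ⟨he1, hle1⟩ := hl.1 e he
    obtain ⟨he2, hle2⟩ := hl.1 _ he1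
    have key : B.X.E co ((e ^^^ B.mat 2 e) ^^^ B.mat 2 (B.mat 2 e)) = 1 := by
      rw [← EData.E_mul co hY (Nat.xor_lt_two_pow (n := 6) he he1) he2, ← EData.E_mul co hY he he1, ← hle2, ← hle1]
      calc _ = (B.X.E co e * l) * ((B.X.E co e * l) * (B.X.E co e * l)) * (l * (l * l))⁻¹ := by group
        _ = 1 := by rw [← hme, h3, h3']; simp
    have hlt : (e ^^^ B.mat 2 e) ^^^ B.mat 2 (B.mat 2 e) < 64 :=
      Nat.xor_lt_two_pow (n := 6) (Nat.xor_lt_two_pow (n := 6) he he1) he2
    show Nat.beq ((e ^^^ B.mat 2 e) ^^^ B.mat 2 (B.mat 2 e)) 0 = true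
    rw [EData.E_inj co hY hlt (by norm_num : 0 < 64) (key.trans (EData.E_zero co hY).symm)]
    rfl
  · intro p hp
    have hc := List.all_eq_true.1 hps p hp
    simp only [Bool.and_eq_true] at hc
    obtain ⟨c1, r1, e1⟩ := expn_spec hA hP hX hU hF hm hc.1
    obtain ⟨c2, r2, e2⟩ := expn_spec hB hP hY hV hF' hl hc.2.1
    obtain ⟨h1, h2⟩ := PairData.cj_spec hP co (EData.el_lt hY he) r2
    rw [co.inj _ _ h1 r1 ?_]
    · exact Nat.beq_refl _
    rw [h2, ← e2, ← e1, Nat.eq_of_beq_eq_true hc.2.2, hme, EData.E]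
    group

/-- The second frame moved by the central involution. -/
theorem flip (hB : B.Valid P D K) (hY : B.X.Valid D K) {l : G} (hF' : Frame B co y)
    (hl : B.X.Induces co l (B.mat 2) ∧ InL y l) {e : Nat} (he : e < 64) :
    ∃ y' l', Frame B co y' ∧ (B.X.Induces co l' (B.mat 2) ∧ InL y' l') ∧
      B.X.E co e * l = B.X.E co (e ^^^ (1 ^^^ B.mat 2 1)) * l' := by
  have ht : B.X.Induces co t id := fun v hv => ⟨hv, by
    have hc := (EData.E_comm co hY (show 1 < 64 by norm_num) hv).eq
    rw [EData.E_one co hY] at hc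
    rw [hc, mul_inv_cancel_right]; rfl⟩
  have htt : t * t = 1 := by
    have := EData.E_sq co hY (show 1 < 64 by norm_num)
    rwa [EData.E_one co hY] at this
  have hti : t⁻¹ = t := inv_eq_of_mul_eq_one_right htt
  have hconj : ∀ g, InL y g → InL (t * y * t⁻¹) (t * g * t⁻¹) := by
    intro g hL
    rcases hL with h | h
    · left; conv_rhs => rw [← h]
      group
    · right
      rw [show (t * y * t⁻¹)⁻¹ = t * y⁻¹ * t⁻¹ by group, ← h]
      group
  have hfix : ∀ g, g < 21504 → t * co.ψ g * t⁻¹ = co.ψ g := fun g hg => by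
    rw [(co.mem g hg).symm.eq, mul_inv_cancel_right]
  have hconj' : ∀ {g : G} {f : Nat → Nat}, B.X.Induces co g f → B.X.Induces co (t * g * t⁻¹) f := by
    intro g f hg
    have ht' : B.X.Induces co t⁻¹ id := by rw [hti]; exact ht
    exact ((ht.mul hg).mul ht').congr fun v hv => rfl
  refine ⟨t * y * t⁻¹, t * l * t⁻¹, ⟨hconj' hF'.x_ind, ?_, ?_, ?_⟩, ⟨hconj' hl.1, hconj _ hl.2⟩, ?_⟩
  · rw [conj_pow, hF'.x3, mul_one, mul_inv_cancel]
  · rw [← hfix _ hB.lt.1]; exact hconj _ hF'.a_L
  · rw [← hfix _ hB.lt.2]; exact hconj _ hF'.b_L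
  · obtain ⟨h1, hle⟩ := hl.1 1 (by norm_num)
    have hd : 1 ^^^ B.mat 2 1 < 64 := Nat.xor_lt_two_pow (n := 6) (by norm_num) h1
    rw [← EData.E_mul co hY he hd, ← EData.E_mul co hY (by norm_num) h1, ← hle, EData.E_one co hY, hti]
    have key : t * (l * t * l⁻¹) * (t * l * t) = l := by
      calc t * (l * t * l⁻¹) * (t * l * t) = t * ((l * t * l⁻¹) * t) * l * t := by group
        _ = t * (t * (l * t * l⁻¹)) * l * t := by
          have hc := (EData.E_comm co hY h1 (show 1 < 64 by norm_num)).eq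
          rw [← hle, EData.E_one co hY] at hc
          rw [hc]
        _ = (t * t) * l * (t * t) := by group
        _ = l := by rw [htt, one_mul, mul_one]
    calc B.X.E co e * l = B.X.E co e * (t * (l * t * l⁻¹) * (t * l * t)) := by rw [key]
      _ = _ := by group

end Side

end Cfsg.Agent.HeRecog
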