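import Cfsg.Agent.HeRecog.CountCert

/-! The final step: the controlling subgroup is the whole group. -/

set_option autoImplicit false
set_option linter.all false

namespace Cfsg.Agent.HeRecog

open Cfsg.Agent.CosetCert

namespace Engine

/-- Chains from one list to each of the given ones. -/
noncomputable def all2Chain (E : Env) (R : List Nat) : List (List Nat) → List Chain → Bool
  | [], [] => true
  | Y :: Ys, ch :: chs => E.chainOk R ch Y && all2Chain E R Ys chs
  | _, _ => false

/-- Each class is trivial, fused, or linked from a safe root. -/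
noncomputable def checkSingles (E : Env) (roots : List (List Nat)) (S : List (Nat × Nat × Chain)) : Bool :=
  allFrom (fun k => Nat.beq k 0 || (inF E.K.allowed E.r k || S.any fun x => Nat.beq x.1 k &&
    (Nat.blt x.2.1 roots.length && E.chainOk (roots.getD x.2.1 []) x.2.2 [E.K.rep k]))) 0 E.K.reps.length

/-- An involution that is not fused, the product with a conjugate of it fused. -/
noncomputable def checkPick (E : Env) (u : Nat × Nat) : Bool :=
  Nat.blt u.1 21504 && (Nat.blt u.2 21504 && (Nat.beq (E.D.mul u.1 u.1) 0 && (!E.fz u.1 &&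
    (E.fz (E.D.mul u.1 (E.P.cj E.D u.2 u.1)) &&
      Nat.beq (E.D.mul (E.D.mul u.1 (E.P.cj E.D u.2 u.1)) (E.D.mul u.1 (E.P.cj E.D u.2 u.1))) 0))))

/-- The fused classes meet the subgroups. -/
noncomputable def checkCover (E : Env) (reach : List (Nat × Bool × Nat × Nat)) : Bool :=
  allFrom (fun k => Nat.beq k 0 || (!inF E.K.allowed E.r k || reach.any fun e => Nat.beq e.1 k)) 0 E.K.reps.length

variable {E : Env} {G : Type*} [Group G] [Finite G] {t : G} {co : Coord E.D t} {M : Subgroup G}

theorem all2Chain_spec (h : Ctx E co M) {R : List Nat} : ∀ {Ys : List (List Nat)} {chs : List Chain},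
    all2Chain E R Ys chs = true → ∀ Y ∈ Ys, Link co M R Y
  | [], _, _ => by simp
  | Y :: Ys, [], hc => by simp [all2Chain] at hc
  | Y :: Ys, ch :: chs, hc => by
    simp only [all2Chain, Bool.and_eq_true] at hc
    intro Z hZ
    rcases List.mem_cons.1 hZ with rfl | hZ
    · exact h.chain hc.1
    · exact all2Chain_spec h hc.2 Z hZ

/-- The controlling subgroup is everything. -/
theorem top (h : Ctx E co M) (hM : Ctrl M t) {roots : List (List Nat)} (hroots : ∀ Z ∈ roots, Safe co M Z)
    {S : List (Nat × Nat × Chain)} (hS : checkSingles E roots S = true) {u : Nat × Nat}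
    (hu : checkPick E u = true) : M = ⊤ := by
  simp only [checkPick, Bool.and_eq_true, Bool.not_eq_true'] at hu
  obtain ⟨hu1, hu2, husq, hunf, hprod, hpsq⟩ := hu
  have hu1 := Nat.ble_eq.mp hu1
  have hu2 := Nat.ble_eq.mp hu2
  have hsq : co.ψ u.1 * co.ψ u.1 = 1 := by
    rw [← co.mul _ _ hu1 hu1, Nat.eq_of_beq_eq_true husq, co.zero]
  obtain ⟨hcl, hce⟩ := PairData.cj_spec h.pair co hu2 hu1
  have hpl := co.lt _ _ hu1 hcl
  refine hM.eq_top h.tsq h.tne (u := co.ψ u.1) (c := co.ψ u.2) hsq (fun hc => ?_) ?_ ?_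
  · rw [(h.fz_iff hu1 hsq).2 hc] at hunf
    exact Bool.noConfusion hunf
  · rw [← hce, ← co.mul _ _ hu1 hcl]
    exact (h.fz_iff hpl (by rw [← co.mul _ _ hpl hpl, Nat.eq_of_beq_eq_true hpsq, co.zero])).1 hprod
  · intro w hww hw1 hwt g hgw
    obtain ⟨c, hc, rfl⟩ := co.surj w hwt
    have hcM : co.ψ c ∈ M := hM.of_comm hwt
    by_cases hf : IsConj t (co.ψ c)
    · exact hM.cent_fused hf hcM hgw
    obtain ⟨k, e, hm, hk, hr, he, hek⟩ := Classes.class_of co h.cls hc (fun e => hw1 (by rw [e, co.zero]))
      (co.inj _ _ (co.lt c c hc hc) (by norm_num) (by rw [co.mul c c hc hc, hww, co.zero]))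
    have hnot : inF E.K.allowed E.r k = false := eq_false_of_ne_true fun hin => hf
      (((h.fs.iff k hk).1 hin).trans (isConj_iff.2 ⟨_, hek⟩))
    have hs := Tables.all_lt hS hk
    simp only [hnot, Bool.false_or, Bool.or_eq_true, List.any_eq_true, Bool.and_eq_true] at hs
    rcases hs with hk0 | ⟨x, -, -, hi, hch⟩
    · refine absurd ?_ hf
      rw [← hek, Nat.eq_of_beq_eq_true hk0, h.cls.rep0, co.one]
      exact isConj_iff.2 ⟨_, rfl⟩
    · have hi := Nat.ble_eq.mp hi
      have hsafe : Safe co M [E.K.rep k] :=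
        (hroots (roots.getD x.2.1 []) (by rw [List.getD_eq_getElem _ _ hi]; exact List.getElem_mem hi)).of_link (h.chain hch)
      have hψ : co.ψ e ∈ M := hM.of_comm (co.mem e he)
      have hin := cent_of_safe hr hsafe (g := (co.ψ e)⁻¹ * g * co.ψ e) (by
        have := (Commute.conj_iff (co.ψ e)⁻¹).2 hgw
        rw [← hek] at this
        simpa [mul_assoc] using this)
      simpa [mul_assoc] using M.mul_mem (M.mul_mem hψ hin) (M.inv_mem hψ)

end Engine

end Cfsg.Agent.HeRecog
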