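import Cfsg.Agent.HeRecog.Fusion

/-! An elementary subgroup of order 64 of the model, in coordinates. -/

set_option autoImplicit false
set_option linter.all false

namespace Cfsg.Agent.HeRecog

open Cfsg.Agent.CosetCert

/-- The data of one subgroup. -/
structure EData where
  el : Nat → Nat
  vc : Nat → Nat
  we : Nat → Nat
  basis : List Nat := [1, 2, 4, 8, 16, 32]

namespace EData

variable (X : EData) (D : Tables) (K : Classes)

/-- The code is one of the 64. -/
noncomputable def inE (c : Nat) : Bool := !allFrom (fun v => !Nat.beq (X.el v) c) 0 64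

noncomputable def checkMul (a : Nat) : Bool :=
  Nat.blt (X.el a) 21504 &&
    allFrom (fun b => Nat.beq (D.mul (X.el a) (X.el b)) (X.el (Nat.xor a b))) 0 64

noncomputable def checkClass (v : Nat) : Bool :=
  Nat.beq v 0 || (Nat.blt (X.vc v) K.reps.length && (Nat.blt (X.we v) 21504 &&
    (!Nat.beq (X.el v) 0 && Nat.beq (D.mul (X.we v) (K.rep (X.vc v))) (D.mul (X.el v) (X.we v)))))

noncomputable def checkCent (c : Nat) : Bool :=
  !(X.basis.all fun b => Nat.beq (D.mul c (X.el b)) (D.mul (X.el b) c)) || X.inE c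

/-- The checked data. -/
structure Valid : Prop where
  mul : allFrom (X.checkMul D) 0 64 = true
  one : X.el 0 = 0 ∧ X.el 1 = 1 ∧ X.vc 1 = 0
  cls : allFrom (X.checkClass D K) 0 64 = true
  cent : allFrom (X.checkCent D) 0 21504 = true
  basis : X.basis = [1, 2, 4, 8, 16, 32]

variable {X D K}

theorem inE_iff {c : Nat} : X.inE c = true ↔ ∃ v, v < 64 ∧ X.el v = c := by
  unfold inE
  rw [Bool.not_eq_true', ← Bool.not_eq_true, allFrom_iff]
  simp only [Bool.not_eq_true', not_forall, Bool.not_eq_false]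
  constructor
  · rintro ⟨v, _, hv, h⟩; exact ⟨v, by omega, Nat.eq_of_beq_eq_true h⟩
  · rintro ⟨v, hv, rfl⟩; exact ⟨v, Nat.zero_le _, by omega, Nat.beq_refl _⟩

theorem el_lt (hX : X.Valid D K) {v : Nat} (hv : v < 64) : X.el v < 21504 := by
  have h := Tables.all_lt hX.mul hv
  simp only [checkMul, Bool.and_eq_true] at h
  exact Nat.ble_eq.mp h.1

theorem el_mul (hX : X.Valid D K) {a b : Nat} (ha : a < 64) (hb : b < 64) :
    D.mul (X.el a) (X.el b) = X.el (a ^^^ b) := by
  have h := Tables.all_lt hX.mul ha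
  simp only [checkMul, Bool.and_eq_true] at h
  exact Nat.eq_of_beq_eq_true (Tables.all_lt h.2 hb)

theorem el_ne_zero (hX : X.Valid D K) {v : Nat} (hv : v < 64) (h0 : v ≠ 0) : X.el v ≠ 0 := by
  have h := Tables.all_lt hX.cls hv
  simp only [checkClass, Bool.or_eq_true, Bool.and_eq_true, Bool.not_eq_true', ← Bool.not_eq_true] at h
  rcases h with h | ⟨-, -, h, -⟩
  · exact absurd (Nat.eq_of_beq_eq_true h) h0
  · exact fun e => h (by rw [e]; exact Nat.beq_refl _)

variable {G : Type*} [Group G] {t : G}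

/-- The element of a vector. -/
def E (X : EData) (co : Coord D t) (v : Nat) : G := co.ψ (X.el v)

theorem E_zero (co : Coord D t) (hX : X.Valid D K) : X.E co 0 = 1 := by rw [E, hX.one.1, co.zero]

theorem E_one (co : Coord D t) (hX : X.Valid D K) : X.E co 1 = t := by rw [E, hX.one.2.1, co.one]

theorem E_mul (co : Coord D t) (hX : X.Valid D K) {a b : Nat} (ha : a < 64) (hb : b < 64) :
    X.E co a * X.E co b = X.E co (a ^^^ b) := by
  rw [E, E, E, ← co.mul _ _ (el_lt hX ha) (el_lt hX hb), el_mul hX ha hb]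

theorem E_sq (co : Coord D t) (hX : X.Valid D K) {a : Nat} (ha : a < 64) : X.E co a * X.E co a = 1 := by
  rw [E_mul co hX ha ha, Nat.xor_self, E_zero co hX]

theorem E_comm (co : Coord D t) (hX : X.Valid D K) {a b : Nat} (ha : a < 64) (hb : b < 64) :
    Commute (X.E co a) (X.E co b) := by
  show _ = _
  rw [E_mul co hX ha hb, E_mul co hX hb ha, Nat.xor_comm]

theorem E_inj (co : Coord D t) (hX : X.Valid D K) {a b : Nat} (ha : a < 64) (hb : b < 64)
    (h : X.E co a = X.E co b) : a = b := by
  have hab : a ^^^ b < 64 := Nat.xor_lt_two_pow (n := 6) ha hb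
  have h1 : X.E co (a ^^^ b) = 1 := by rw [← E_mul co hX ha hb, h, E_sq co hX hb]
  by_contra hne
  refine el_ne_zero hX hab (fun e => hne ?_) (co.inj _ _ (el_lt hX hab) (by norm_num) (by rw [co.zero]; exact h1))
  calc a = a ^^^ (b ^^^ b) := by simp
    _ = b := by rw [← Nat.xor_assoc, e, Nat.zero_xor]

/-- The central involution is fused to a vector exactly when it is fused to its class. -/
theorem conj_iff (co : Coord D t) (hX : X.Valid D K) (hK : K.Valid D) {v : Nat} (hv : v < 64) (h0 : v ≠ 0) :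
    X.vc v < K.reps.length ∧ (IsConj t (X.E co v) ↔ IsConj t (co.ψ (K.rep (X.vc v)))) := by
  have h := Tables.all_lt hX.cls hv
  simp only [checkClass, Bool.or_eq_true, Bool.and_eq_true] at h
  rcases h with h | ⟨hk, hw, -, he⟩
  · exact absurd (Nat.eq_of_beq_eq_true h) h0
  have hk := Nat.ble_eq.mp hk
  have hr := Tables.all_lt hK.count hk
  simp only [Classes.checkCount, Bool.and_eq_true] at hr
  have hc : IsConj (co.ψ (K.rep (X.vc v))) (X.E co v) := isConj_iff.2 ⟨co.ψ (X.we v), by
    rw [mul_inv_eq_iff_eq_mul, E, ← co.mul _ _ (Nat.ble_eq.mp hw) (Nat.ble_eq.mp hr.1),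
      ← co.mul _ _ (el_lt hX hv) (Nat.ble_eq.mp hw), Nat.eq_of_beq_eq_true he]⟩
  exact ⟨hk, fun h => h.trans hc.symm, fun h => h.trans hc⟩

/-- An element centralising the subgroup is in it. -/
theorem mem_of_comm (co : Coord D t) (hX : X.Valid D K) {g : G} (h : ∀ v, v < 64 → Commute g (X.E co v)) :
    ∃ v, v < 64 ∧ g = X.E co v := by
  have ht := h 1 (by norm_num)
  rw [E_one co hX] at ht
  obtain ⟨c, hc, rfl⟩ := co.surj g ht
  have hcheck := Tables.all_lt hX.cent hc
  simp only [checkCent, Bool.or_eq_true, Bool.not_eq_true'] at hcheck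
  rcases hcheck with hf | he
  · exfalso
    have hall : (X.basis.all fun b => Nat.beq (D.mul c (X.el b)) (D.mul (X.el b) c)) = true := by
      refine List.all_eq_true.2 fun b hb => ?_
      have hb64 : b < 64 := by
        rw [hX.basis] at hb
        simp only [List.mem_cons, List.mem_nil_iff, or_false] at hb
        omega
      rw [co.inj (D.mul c (X.el b)) (D.mul (X.el b) c) (co.lt _ _ hc (el_lt hX hb64))
        (co.lt _ _ (el_lt hX hb64) hc) ?_]
      · exact Nat.beq_refl _
      rw [co.mul _ _ hc (el_lt hX hb64), co.mul _ _ (el_lt hX hb64) hc]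
      exact h b hb64
    rw [hall] at hf
    exact Bool.noConfusion hf
  · obtain ⟨v, hv, e⟩ := inE_iff.1 he
    exact ⟨v, hv, by rw [E, e]⟩

/-- `n` induces `f` on the subgroup. -/
def Induces (X : EData) (co : Coord D t) (n : G) (f : Nat → Nat) : Prop :=
  ∀ v, v < 64 → f v < 64 ∧ n * X.E co v * n⁻¹ = X.E co (f v)

namespace Induces

variable {co : Coord D t} {n m : G} {f g : Nat → Nat}

theorem one : X.Induces co 1 id := fun v hv => ⟨hv, by simp⟩

theorem mul (hn : X.Induces co n f) (hm : X.Induces co m g) : X.Induces co (n * m) (f ∘ g) := by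
  intro v hv
  obtain ⟨h1, h2⟩ := hm v hv
  obtain ⟨h3, h4⟩ := hn _ h1
  refine ⟨h3, ?_⟩
  calc n * m * X.E co v * (n * m)⁻¹ = n * (m * X.E co v * m⁻¹) * n⁻¹ := by group
    _ = _ := by rw [h2, h4]; rfl

theorem congr (hn : X.Induces co n f) (hfg : ∀ v, v < 64 → f v = g v) : X.Induces co n g :=
  fun v hv => hfg v hv ▸ hn v hv

theorem unique (hX : X.Valid D K) (hn : X.Induces co n f) (hn' : X.Induces co n g) :
    ∀ v, v < 64 → f v = g v := fun v hv =>
  E_inj co hX (hn v hv).1 (hn' v hv).1 ((hn v hv).2.symm.trans (hn' v hv).2)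

theorem injOn (hX : X.Valid D K) (hn : X.Induces co n f) {a b : Nat} (ha : a < 64) (hb : b < 64)
    (h : f a = f b) : a = b := E_inj co hX ha hb (by
  have := (hn a ha).2
  rw [h, ← (hn b hb).2] at this
  exact mul_left_cancel (mul_right_cancel this))

theorem add (hX : X.Valid D K) (hn : X.Induces co n f) {a b : Nat} (ha : a < 64) (hb : b < 64) :
    f (a ^^^ b) = f a ^^^ f b := by
  have hab : a ^^^ b < 64 := Nat.xor_lt_two_pow (n := 6) ha hb
  refine E_inj co hX (hn _ hab).1 (Nat.xor_lt_two_pow (n := 6) (hn a ha).1 (hn b hb).1) ?_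
  rw [← (hn _ hab).2, ← E_mul co hX (hn a ha).1 (hn b hb).1, ← E_mul co hX ha hb, ← (hn a ha).2, ← (hn b hb).2]
  group

/-- Two elements with the same action differ by the subgroup. -/
theorem eq_mul (hX : X.Valid D K) (hn : X.Induces co n f) (hm : X.Induces co m f) :
    ∃ v, v < 64 ∧ m = n * X.E co v := by
  obtain ⟨v, hv, h⟩ := mem_of_comm co hX (g := n⁻¹ * m) fun v hv => by
    have h1 := (hn v hv).2
    have h2 := (hm v hv).2
    show n⁻¹ * m * X.E co v = X.E co v * (n⁻¹ * m)
    calc n⁻¹ * m * X.E co v = n⁻¹ * (m * X.E co v * m⁻¹) * m := by group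
      _ = _ := by rw [h2, ← h1]; group
  exact ⟨v, hv, by rw [← h]; group⟩

theorem conjT (hX : X.Valid D K) (hn : X.Induces co n f) {v : Nat} (hv : v < 64) :
    IsConj t (X.E co v) ↔ IsConj t (X.E co (f v)) := by
  have h : IsConj (X.E co v) (X.E co (f v)) := isConj_iff.2 ⟨n, (hn v hv).2⟩
  exact ⟨fun a => a.trans h, fun a => a.trans h.symm⟩

end Induces

/-- An element mapping the subgroup into itself induces something. -/
theorem exists_induces (co : Coord D t) (hX : X.Valid D K) {n : G}
    (h : ∀ v, v < 64 → ∃ w, w < 64 ∧ n * X.E co v * n⁻¹ = X.E co w) : ∃ f, X.Induces co n f := by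
  classical
  refine ⟨fun v => if hv : v < 64 then Classical.choose (h v hv) else 0, fun v hv => ?_⟩
  simp only [dif_pos hv]
  exact Classical.choose_spec (h v hv)

end EData

end Cfsg.Agent.HeRecog
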