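import Cfsg.Agent.HeRecog.Options
import Cfsg.Agent.HeRecog.Control

/-!
Which small elementary subgroups of the centraliser commute only with those conjugates of the central
involution that lie in the controlling subgroup: the coded vocabulary and the basic lemmas.
-/

set_option autoImplicit false
set_option linter.all false

namespace Cfsg.Agent.HeRecog

open Cfsg.Agent.CosetCert

namespace Engine

/-- The product of the entries selected by the bits of `j`. -/
noncomputable def comb (D : Tables) : List Nat → Nat → Nat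
  | [], _ => 0
  | z :: Z, j => cond (Nat.beq (j % 2) 1) (D.mul z (comb D Z (j / 2))) (comb D Z (j / 2))

noncomputable def cm (D : Tables) (c d : Nat) : Bool := Nat.beq (D.mul c d) (D.mul d c)

/-- All pairs of two lists of equal length. -/
def all2 (p : Nat → Nat → Bool) : List Nat → List Nat → Bool
  | [], [] => true
  | a :: A, b :: B => p a b && all2 p A B
  | _, _ => false

theorem all2_forall {p : Nat → Nat → Bool} : ∀ {A B : List Nat}, all2 p A B = true →
    List.Forall₂ (fun a b => p a b = true) A B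
  | [], [], _ => .nil
  | a :: A, b :: B, h => by
    simp only [all2, Bool.and_eq_true] at h
    exact .cons h.1 (all2_forall h.2)
  | [], _ :: _, h => by simp [all2] at h
  | _ :: _, [], h => by simp [all2] at h

theorem all2_eq {A B : List Nat} (h : all2 Nat.beq A B = true) : A = B :=
  List.forall₂_eq_eq_eq ▸ ((all2_forall h).imp fun _ _ e => Nat.eq_of_beq_eq_true e)

/-- A move: conjugation in the centraliser, or a map of one of the two subgroups. -/
inductive Mv where
  | cj (c : Nat)
  | mp (second : Bool) (i : Nat) (vs : List Nat)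

/-- The data shared by the checks of one case. -/
structure Env where
  P : PairData
  D : Tables
  K : Classes
  r : Nat
  fm : Nat
  UX : AutData
  UY : AutData
  mapX : List Nat
  mapY : List Nat

namespace Env

variable (E : Env)

noncomputable def fz (c : Nat) : Bool := Nat.testBit E.fm c

noncomputable def side (b : Bool) : EData := cond b E.P.Y E.P.X
noncomputable def aut (b : Bool) : AutData := cond b E.UY E.UX
noncomputable def mapOf (b : Bool) (i v : Nat) : Nat := Cfsg.Agent.Compute.getField 8 ((cond b E.mapY E.mapX).getD i 0) v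

noncomputable def checkFm (e : Nat × Nat × Nat) : Bool := E.fz e.1 == inF E.K.allowed E.r e.2.1

/-- A listed map preserves the marks. -/
noncomputable def checkMap (b : Bool) (i : Nat) : Bool :=
  allFrom (fun v => Nat.blt (E.mapOf b i v) 64 &&
    ((Nat.testBit (E.aut b).O (E.mapOf b i v) == Nat.testBit (E.aut b).O v) &&
      allFrom (fun w => Nat.beq (E.mapOf b i (Nat.xor v w)) (Nat.xor (E.mapOf b i v) (E.mapOf b i w))) 0 64)) 0 64

/-- One step of a chain. -/
noncomputable def stepOk (m : Mv) (Z Z' : List Nat) : Bool :=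
  match m with
  | .cj c => Nat.blt c 21504 && all2 (fun a a' => Nat.blt a 21504 && Nat.beq (E.P.cj E.D c a) a') Z Z'
  | .mp b i vs => Nat.blt i (cond b E.mapY E.mapX).length &&
      (all2 (fun v a => Nat.blt v 64 && Nat.beq ((E.side b).el v) a) vs Z &&
        all2 (fun v a' => Nat.beq ((E.side b).el (E.mapOf b i v)) a') vs Z')

/-- A chain leads from one list to another. -/
noncomputable def chainOk : List Nat → List (Mv × List Nat) → List Nat → Bool
  | Z, [], T => all2 Nat.beq Z T && Z.all fun a => Nat.blt a 21504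
  | Z, (m, Z') :: rest, T => E.stepOk m Z Z' && chainOk Z' rest T

/-- A fused class meets one of the subgroups. -/
noncomputable def checkReach (e : Nat × Bool × Nat × Nat) : Bool :=
  Nat.blt e.2.2.1 21504 && (Nat.blt e.2.2.2 64 &&
    Nat.beq (E.P.cj E.D e.2.2.1 ((E.side e.2.1).el e.2.2.2)) (E.K.rep e.1))

/-- No element of the centraliser carries one list onto the other. -/
noncomputable def apart (Z Z' : List Nat) : Bool :=
  allFrom (fun c => !all2 (fun a b => Nat.beq (E.D.mul c a) (E.D.mul b c)) Z Z') 0 21504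

end Env

/-- The facts about the group. -/
structure Ctx (E : Env) {G : Type*} [Group G] {t : G} (co : Coord E.D t) (M : Subgroup G) : Prop where
  pair : E.P.Valid E.D E.K
  cls : E.K.Valid E.D
  ord : orderOf t = 2
  card : Nat.card (Subgroup.centralizer ({t} : Set G)) = 21504
  fs : FusedSet E.P E.K co E.r
  fm : E.K.tab.all E.checkFm = true ∧ E.fz 0 = false
  autX : E.UX.Valid E.P.X E.P E.D
  autY : E.UY.Valid E.P.Y E.P E.D
  one : E.UX.O.testBit 1 = true ∧ E.UY.O.testBit 1 = true
  fusX : Fused E.UX E.P.X co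
  fusY : Fused E.UY E.P.Y co
  mapX : allFrom (E.checkMap false) 0 E.mapX.length = true
  mapY : allFrom (E.checkMap true) 0 E.mapY.length = true
  cent : Subgroup.centralizer ({t} : Set G) ≤ M
  normX : ∀ n f, E.P.X.Induces co n f → n ∈ M
  normY : ∀ n f, E.P.Y.Induces co n f → n ∈ M

variable {E : Env} {G : Type*} [Group G] [Finite G] {t : G} {co : Coord E.D t} {M : Subgroup G}

/-- Codes related by an element of `M`. -/
def Link (co : Coord E.D t) (M : Subgroup G) (Z Z' : List Nat) : Prop :=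
  ∃ m ∈ M, List.Forall₂ (fun a b => a < 21504 ∧ b < 21504 ∧ m * co.ψ a * m⁻¹ = co.ψ b) Z Z'

/-- Only conjugates of `t` inside `M` commute with the list. -/
def Safe (co : Coord E.D t) (M : Subgroup G) (Z : List Nat) : Prop :=
  ∀ g, (∀ z ∈ Z, Commute (g * t * g⁻¹) (co.ψ z)) → g ∈ M

theorem Ctx.side_valid (h : Ctx E co M) (b : Bool) : (E.side b).Valid E.D E.K := by
  cases b
  · exact h.pair.X
  · exact h.pair.Y

theorem Ctx.induce (h : Ctx E co M) (b : Bool) {i : Nat} (hi : i < (cond b E.mapY E.mapX).length) :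
    ∃ n ∈ M, (E.side b).Induces co n (E.mapOf b i) := by
  have hmap : allFrom (E.checkMap b) 0 (cond b E.mapY E.mapX).length = true := by
    cases b
    · exact h.mapX
    · exact h.mapY
  have hp : (E.aut b).Pres (E.mapOf b i) := by
    have hm := Tables.all_lt hmap hi
    refine ⟨fun v hv => ?_, fun a c ha hc => ?_, fun v hv => ?_⟩ <;>
      [have h1 := Tables.all_lt hm hv; have h1 := Tables.all_lt hm ha; have h1 := Tables.all_lt hm hv] <;>
      simp only [Env.checkMap, Bool.and_eq_true] at h1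
    · exact Nat.ble_eq.mp h1.1
    · exact Nat.eq_of_beq_eq_true (Tables.all_lt h1.2.2 hc)
    · exact eq_of_beq h1.2.1
  cases b
  · obtain ⟨n, hn⟩ := Fused.induce h.fusX h.pair.X h.pair h.autX hp h.one.1
    exact ⟨n, h.normX n _ hn, hn⟩
  · obtain ⟨n, hn⟩ := Fused.induce h.fusY h.pair.Y h.pair h.autY hp h.one.2
    exact ⟨n, h.normY n _ hn, hn⟩

theorem Link.refl (h : Ctx E co M) {Z : List Nat} (hZ : ∀ a ∈ Z, a < 21504) : Link co M Z Z := by
  refine ⟨1, M.one_mem, ?_⟩
  induction Z with
  | nil => exact .nil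
  | cons a Z ih => exact .cons ⟨hZ a (by simp), hZ a (by simp), by simp⟩ (ih fun b hb => hZ b (by simp [hb]))

theorem forall₂_trans {α : Type*} {R S T : α → α → Prop} (hRS : ∀ a b c, R a b → S b c → T a c) :
    ∀ {A B C : List α}, List.Forall₂ R A B → List.Forall₂ S B C → List.Forall₂ T A C := by
  intro A B C h1
  induction h1 generalizing C with
  | nil => intro h2; cases h2; exact .nil
  | cons h _ ih =>
    intro h2
    cases h2 with
    | cons h' h2 => exact .cons (hRS _ _ _ h h') (ih h2)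

theorem Link.trans {A B C : List Nat} (h1 : Link co M A B) (h2 : Link co M B C) : Link co M A C := by
  obtain ⟨m, hm, f1⟩ := h1
  obtain ⟨n, hn, f2⟩ := h2
  refine ⟨n * m, M.mul_mem hn hm, forall₂_trans ?_ f1 f2⟩
  rintro a b c ⟨ha, -, e⟩ ⟨-, hc, e'⟩
  exact ⟨ha, hc, by rw [← e', ← e]; group⟩

theorem Ctx.step (h : Ctx E co M) {m : Mv} {Z Z' : List Nat} (hs : E.stepOk m Z Z' = true) : Link co M Z Z' := by
  cases m with
  | cj c =>
    simp only [Env.stepOk, Bool.and_eq_true] at hs
    have hc := Nat.ble_eq.mp hs.1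
    refine ⟨co.ψ c, h.cent (Subgroup.mem_centralizer_singleton_iff.2 (co.mem c hc).eq), (all2_forall hs.2).imp ?_⟩
    intro a b hab
    simp only [Bool.and_eq_true] at hab
    have ha := Nat.ble_eq.mp hab.1
    obtain ⟨hl, e⟩ := PairData.cj_spec h.pair co hc ha
    rw [← Nat.eq_of_beq_eq_true hab.2]
    exact ⟨ha, hl, e.symm⟩
  | mp b i vs =>
    simp only [Env.stepOk, Bool.and_eq_true] at hs
    obtain ⟨hi, h1, h2⟩ := hs
    obtain ⟨n, hn, hind⟩ := h.induce b (Nat.ble_eq.mp hi)
    have hX := h.side_valid b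
    have f1 := all2_forall h1
    have f2 := all2_forall h2
    refine ⟨n, hn, forall₂_trans ?_ f1.flip f2⟩
    intro a v a' hva hva'
    simp only [Bool.and_eq_true] at hva
    have hv := Nat.ble_eq.mp hva.1
    obtain ⟨hlt, e⟩ := hind v hv
    rw [← Nat.eq_of_beq_eq_true hva.2, ← Nat.eq_of_beq_eq_true hva']
    exact ⟨EData.el_lt hX hv, EData.el_lt hX hlt, e⟩

theorem Ctx.chain (h : Ctx E co M) : ∀ {ch : List (Mv × List Nat)} {Z T : List Nat}, E.chainOk Z ch T = true →
    Link co M Z T
  | [], Z, T, hc => by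
    simp only [Env.chainOk, Bool.and_eq_true, List.all_eq_true] at hc
    rw [← all2_eq hc.1]
    exact Link.refl h fun a ha => Nat.ble_eq.mp (hc.2 a ha)
  | (m, Z') :: rest, Z, T, hc => by
    simp only [Env.chainOk, Bool.and_eq_true] at hc
    exact (h.step hc.1).trans (h.chain hc.2)

theorem Ctx.tsq (h : Ctx E co M) : t * t = 1 := by rw [← pow_two, ← h.ord, pow_orderOf_eq_one]

theorem Ctx.tne (h : Ctx E co M) : t ≠ 1 := fun e => by
  have := h.ord
  rw [e, orderOf_one] at this
  omega

theorem conj_sq {g t : G} (ht : t * t = 1) : g * t * g⁻¹ * (g * t * g⁻¹) = 1 := by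
  calc g * t * g⁻¹ * (g * t * g⁻¹) = g * (t * t) * g⁻¹ := by group
    _ = 1 := by rw [ht]; group

/-- The mask of the fused elements. -/
theorem Ctx.fz_iff (h : Ctx E co M) {c : Nat} (hc : c < 21504) (hsq : co.ψ c * co.ψ c = 1) :
    E.fz c = true ↔ IsConj t (co.ψ c) := by
  by_cases h0 : c = 0
  · subst h0
    rw [h.fm.2, co.zero]
    refine iff_of_false Bool.false_ne_true fun e => h.tne ?_
    exact isConj_one_left.1 e
  have hs : E.D.mul c c = 0 :=
    co.inj _ _ (co.lt c c hc hc) (by norm_num) (by rw [co.mul c c hc hc, hsq, co.zero])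
  obtain ⟨k, e, hm, hk, -, -, he⟩ := Classes.class_of co h.cls hc h0 hs
  have hf : E.fz c = inF E.K.allowed E.r k := eq_of_beq (List.all_eq_true.1 h.fm.1 _ hm)
  rw [hf, h.fs.iff k hk]
  exact ⟨fun hh => hh.trans (isConj_iff.2 ⟨_, he⟩), fun hh => hh.trans (isConj_iff.2 ⟨_, he⟩ : IsConj _ (co.ψ c)).symm⟩

/-- The subgroup controls the conjugates of `t`. -/
theorem Ctx.ctrl (h : Ctx E co M) {reach : List (Nat × Bool × Nat × Nat)} (hreach : reach.all E.checkReach = true)
    (hcover : allFrom (fun k => Nat.beq k 0 || (!inF E.K.allowed E.r k || reach.any fun e => Nat.beq e.1 k)) 0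
      E.K.reps.length = true) : Ctrl M t := by
  refine ⟨h.cent, fun g hg => ?_⟩
  obtain ⟨-, S, hS⟩ := PairData.sylow h.pair co h.ord h.card
  have hSC : (S : Subgroup G) ≤ Subgroup.centralizer ({t} : Set G) := by
    rw [hS]; exact fun u hu => hu.1.1
  have hSM : (S : Subgroup G) ≤ M := hSC.trans h.cent
  set s := g * t * g⁻¹ with hs
  have hpg : IsPGroup 2 (Subgroup.zpowers (⟨s, hg⟩ : M)) := by
    refine IsPGroup.of_card (n := 1) ?_
    rw [Nat.card_zpowers, Subgroup.orderOf_mk, pow_one]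
    exact orderOf_eq_prime (by rw [pow_two]; exact conj_sq h.tsq)
      (fun e => h.tne (conj_eq_one_iff.1 e))
  obtain ⟨Q, hQ⟩ := hpg.exists_le_sylow
  obtain ⟨m, hm⟩ := MulAction.exists_smul_eq M Q (S.subtype hSM)
  have hms : (m : G) * s * (m : G)⁻¹ ∈ (S : Subgroup G) := by
    have h1 : m * ⟨s, hg⟩ * m⁻¹ ∈ ((S.subtype hSM : Sylow 2 M) : Subgroup M) := by
      rw [← hm, Sylow.coe_subgroup_smul, Subgroup.pointwise_smul_def]
      exact ⟨_, hQ (Subgroup.mem_zpowers _), rfl⟩
    exact h1
  have hgm : ∃ m' ∈ M, (m' * g) * t * (m' * g)⁻¹ = t := by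
    obtain ⟨c, hc, hce⟩ := co.surj _ (Subgroup.mem_centralizer_singleton_iff.1 (hSC hms))
    have hconj : IsConj t (co.ψ c) := isConj_iff.2 ⟨(m : G) * g, by rw [hce, hs]; group⟩
    by_cases hc1 : c = 1
    · refine ⟨m, m.2, ?_⟩
      rw [hc1, co.one] at hce
      conv_rhs => rw [hce, hs]
      group
    obtain ⟨k, e, hmem, hk, hkc⟩ := Classes.fused_class co h.cls h.ord hc hc1 hconj
    have he := List.all_eq_true.1 h.cls.entries _ hmem
    simp only [Classes.checkEntry, Bool.and_eq_true] at he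
    obtain ⟨-, he2, hk', heq⟩ := he
    have hkl := Nat.ble_eq.mp hk'
    have hin := (h.fs.iff k hkl).2 hkc
    have hr := Tables.all_lt h.cls.count hkl
    simp only [Classes.checkCount, Bool.and_eq_true] at hr
    have hrl := Nat.ble_eq.mp hr.1
    have hek : co.ψ e * co.ψ (E.K.rep k) * (co.ψ e)⁻¹ = co.ψ c := by
      rw [mul_inv_eq_iff_eq_mul, ← co.mul _ _ (Nat.ble_eq.mp he2) hrl, ← co.mul _ _ hc (Nat.ble_eq.mp he2),
        Nat.eq_of_beq_eq_true heq]
    by_cases hk0 : k = 0
    · subst hk0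
      refine absurd (co.inj c 1 hc (by norm_num) ?_) hc1
      rw [← hek, h.cls.rep0, co.one, (co.mem e (Nat.ble_eq.mp he2)).eq, mul_inv_cancel_right]
    have hcv := Tables.all_lt hcover hkl
    simp only [hin, Bool.not_true, Bool.false_or, Bool.or_eq_true, List.any_eq_true] at hcv
    rcases hcv with hcv | ⟨⟨k', b, a, v⟩, hrm, hkk⟩
    · exact absurd (Nat.eq_of_beq_eq_true hcv) hk0
    obtain rfl : k' = k := Nat.eq_of_beq_eq_true hkk
    have hchk := List.all_eq_true.1 hreach _ hrm
    simp only [Env.checkReach, Bool.and_eq_true] at hchk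
    obtain ⟨ha, hv, heq'⟩ := hchk
    have ha := Nat.ble_eq.mp ha
    have hv := Nat.ble_eq.mp hv
    have hX := h.side_valid b
    obtain ⟨-, e1⟩ := PairData.cj_spec h.pair co ha (EData.el_lt hX hv)
    rw [Nat.eq_of_beq_eq_true heq'] at e1
    have hvt : IsConj t ((E.side b).E co v) := hkc.trans (by
      rw [e1]; exact (isConj_iff.2 ⟨co.ψ a, rfl⟩ : IsConj ((E.side b).E co v) _).symm)
    obtain ⟨n, hn, hnv⟩ : ∃ n ∈ M, n * t * n⁻¹ = (E.side b).E co v := by
      have key : ∀ {X : EData} {U : AutData}, X.Valid E.D E.K → Fused U X co →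
          (∀ n f, X.Induces co n f → n ∈ M) → IsConj t (X.E co v) → ∃ n ∈ M, n * t * n⁻¹ = X.E co v := by
        intro X U hXV hF hN hcv
        obtain ⟨n, f, hn, hf⟩ := hF.move v hv ((hF.O v hv).2 hcv)
        refine ⟨n, hN n f hn, ?_⟩
        have h1 := (hn 1 (by norm_num)).2
        rwa [hf, EData.E_one co hXV] at h1
      cases b
      · exact key hX h.fusX h.normX hvt
      · exact key hX h.fusY h.normY hvt
    have hψ : ∀ a, a < 21504 → co.ψ a ∈ M := fun a ha => h.cent (Subgroup.mem_centralizer_singleton_iff.2 (co.mem a ha).eq)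
    refine ⟨(co.ψ e * co.ψ a * n)⁻¹ * m,
      M.mul_mem (M.inv_mem (M.mul_mem (M.mul_mem (hψ e (Nat.ble_eq.mp he2)) (hψ a ha)) hn)) m.2, ?_⟩
    have e2 : co.ψ e * co.ψ a * n * t * (co.ψ e * co.ψ a * n)⁻¹ = (m : G) * s * (m : G)⁻¹ := by
      rw [← hce, ← hek, e1]
      show _ = co.ψ e * (co.ψ a * (E.side b).E co v * (co.ψ a)⁻¹) * (co.ψ e)⁻¹
      rw [← hnv]; group
    calc (co.ψ e * co.ψ a * n)⁻¹ * m * g * t * ((co.ψ e * co.ψ a * n)⁻¹ * m * g)⁻¹
        = (co.ψ e * co.ψ a * n)⁻¹ * ((m : G) * s * (m : G)⁻¹) * (co.ψ e * co.ψ a * n) := by rw [hs]; group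
      _ = t := by rw [← e2]; group
  obtain ⟨m', hm', he'⟩ := hgm
  have hcomm : m' * g ∈ M := h.cent (Subgroup.mem_centralizer_singleton_iff.2 (mul_inv_eq_iff_eq_mul.1 he'))
  simpa [mul_assoc] using M.mul_mem (M.inv_mem hm') hcomm

theorem comb_spec (h : Ctx E co M) : ∀ {Z : List Nat} (j : Nat), (∀ a ∈ Z, a < 21504) →
    comb E.D Z j < 21504 ∧
      (∀ u, (∀ a ∈ Z, Commute u (co.ψ a)) → Commute u (co.ψ (comb E.D Z j))) := by
  intro Z
  induction Z with
  | nil => exact fun j _ => ⟨by simp [comb], fun u _ => by simp [comb, co.zero]⟩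
  | cons z Z ih =>
    intro j hZ
    obtain ⟨h1, h2⟩ := ih (j / 2) fun a ha => hZ a (List.mem_cons_of_mem _ ha)
    have hz := hZ z (List.mem_cons_self ..)
    simp only [comb]
    cases Nat.beq (j % 2) 1
    · exact ⟨h1, fun u hu => h2 u fun a ha => hu a (List.mem_cons_of_mem _ ha)⟩
    · refine ⟨co.lt _ _ hz h1, fun u hu => ?_⟩
      simp only [cond_true, co.mul _ _ hz h1]
      exact (hu z (List.mem_cons_self ..)).mul_right (h2 u fun a ha => hu a (List.mem_cons_of_mem _ ha))

/-- Conjugation respects combinations. -/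
theorem comb_conj (h : Ctx E co M) {m : G} : ∀ {Z Z' : List Nat},
    List.Forall₂ (fun a b => a < 21504 ∧ b < 21504 ∧ m * co.ψ a * m⁻¹ = co.ψ b) Z Z' → ∀ j,
      comb E.D Z j < 21504 ∧ comb E.D Z' j < 21504 ∧ m * co.ψ (comb E.D Z j) * m⁻¹ = co.ψ (comb E.D Z' j) := by
  intro Z Z' hf
  induction hf with
  | nil => exact fun j => ⟨by simp [comb], by simp [comb], by simp [comb, co.zero]⟩
  | cons hab _ ih =>
    rename_i a b A B _
    intro j
    obtain ⟨ha, hb, e⟩ := hab
    obtain ⟨h1, h2, h3⟩ := ih (j / 2)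
    simp only [comb]
    cases Nat.beq (j % 2) 1
    · exact ⟨h1, h2, h3⟩
    · refine ⟨co.lt _ _ ha h1, co.lt _ _ hb h2, ?_⟩
      simp only [cond_true, co.mul _ _ ha h1, co.mul _ _ hb h2, ← e, ← h3]
      group

/-- A safe list stays safe along a link. -/
theorem Safe.of_link {Z Z' : List Nat} (hS : Safe co M Z) (hl : Link co M Z Z') : Safe co M Z' := by
  obtain ⟨m, hm, hf⟩ := hl
  intro g hg
  have : m⁻¹ * g ∈ M := hS _ fun z hz => by
    obtain ⟨i, hi, rfl⟩ := List.getElem_of_mem hz
    have h1 := (List.forall₂_iff_get.1 hf).2 i hi ((List.forall₂_iff_get.1 hf).1 ▸ hi)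
    simp only [List.get_eq_getElem] at h1
    have h2 := (Commute.conj_iff m⁻¹).2 (hg _ (List.getElem_mem ((List.forall₂_iff_get.1 hf).1 ▸ hi)))
    rw [← h1.2.2] at h2
    simpa [mul_assoc] using h2
  simpa using M.mul_mem hm this

/-- A list with a conjugate of `t` among its combinations is safe. -/
theorem safe_of_fused (h : Ctx E co M) (hM : Ctrl M t) {Z : List Nat} (hZ : ∀ a ∈ Z, a < 21504) {j : Nat}
    (hsq : E.D.mul (comb E.D Z j) (comb E.D Z j) = 0) (hf : E.fz (comb E.D Z j) = true) : Safe co M Z := by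
  obtain ⟨hl, hcom⟩ := comb_spec h j hZ
  intro g hg
  have hsq' : co.ψ (comb E.D Z j) * co.ψ (comb E.D Z j) = 1 := by rw [← co.mul _ _ hl hl, hsq, co.zero]
  exact hM.conj g (hM.cent_fused ((h.fz_iff hl hsq').1 hf)
    (h.cent (Subgroup.mem_centralizer_singleton_iff.2 (co.mem _ hl).eq)) (hcom _ hg))

/-- A safe single involution has its centraliser in `M`. -/
theorem cent_of_safe {z : Nat} (hz : z < 21504) (hS : Safe co M [z]) {g : G}
    (hg : Commute g (co.ψ z)) : g ∈ M :=
  hS g fun a ha => by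
    rw [List.mem_singleton] at ha
    subst ha
    exact ((hg.mul_left (co.mem a hz).symm).mul_left hg.inv_left)

end Engine

end Cfsg.Agent.HeRecog
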