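import Cfsg.Agent.HeRecog.Engine

/-!
Certificates for safe lists: a conjugate of `t` outside the controlling subgroup would, in each
configuration, belong to one of a few classes, and the configurations have no class in common.
-/

set_option autoImplicit false
set_option linter.all false

namespace Cfsg.Agent.HeRecog

open Cfsg.Agent.CosetCert

namespace Engine

abbrev Chain := List (Mv × List Nat)

/-- Why an extension is safe: a fused combination, or a link from an earlier safe list. -/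
inductive Why where
  | fused (j : Nat)
  | node (i : Nat) (ch : Chain) (masks : List Nat)

/-- A combination whose translate is fused, and the list seen from there. -/
structure Tr where
  j : Nat
  W : List Nat
  ch : Chain

/-- A configuration. -/
structure Cfg where
  T : List Nat
  ch : Chain
  exts : List (Nat × Why)
  trs : List Tr

namespace Cfg

variable (E : Env) (A : Cfg)

noncomputable def outcomes : List (List Nat) := A.T :: A.trs.map Tr.W

noncomputable def inSpan (c : Nat) : Bool :=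
  !allFrom (fun j => !Nat.beq (comb E.D A.T j) c) 0 (2 ^ A.T.length)

noncomputable def checkEntry (e : Nat × Nat × Nat) : Bool :=
  !(A.T.all fun z => cm E.D e.1 z) || (A.inSpan E e.1 || (E.fz e.1 || (!E.fz (E.D.mul 1 e.1) ||
    A.exts.any fun x => Nat.beq x.1 e.1)))

noncomputable def checkWhy (done : List (List Nat)) (x : Nat × Why) : Bool :=
  Nat.blt x.1 21504 && match x.2 with
    | .fused j => Nat.beq (E.D.mul (comb E.D (x.1 :: A.T) j) (comb E.D (x.1 :: A.T) j)) 0 &&
        E.fz (comb E.D (x.1 :: A.T) j)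
    | .node i ch masks => Nat.blt i done.length && E.chainOk (done.getD i []) ch (masks.map (comb E.D (x.1 :: A.T)))

noncomputable def checkTr (tr : Tr) : Bool :=
  E.chainOk (1 :: tr.W) tr.ch (E.D.mul 1 (comb E.D A.T tr.j) :: A.T)

noncomputable def checkSpan (j : Nat) : Bool :=
  Nat.beq (E.D.mul (comb E.D A.T j) (comb E.D A.T j)) 0 &&
    (Nat.beq j 0 || (!E.fz (E.D.mul 1 (comb E.D A.T j)) || A.trs.any fun tr => Nat.beq tr.j j))

noncomputable def check (done : List (List Nat)) (R : List Nat) : Bool :=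
  E.chainOk R A.ch A.T && ((A.T.all fun a => Nat.blt a 21504) && (E.K.tab.all (A.checkEntry E) &&
    (A.exts.all (A.checkWhy E done) && (A.trs.all (A.checkTr E) && allFrom (A.checkSpan E) 0 (2 ^ A.T.length)))))

/-- No element centralising the list carries `t` to a translate. -/
noncomputable def noSelf : Bool := A.trs.all fun tr => E.apart tr.W A.T

/-- The configuration excludes a class. -/
noncomputable def kills (Y : List Nat) : Bool :=
  (A.outcomes.all fun W => E.apart Y W) &&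
    A.trs.all fun tr => E.apart tr.W A.T || !E.fz (E.D.mul 1 (comb E.D Y tr.j))

end Cfg

variable {E : Env} {G : Type*} [Group G] [Finite G] {t : G} {co : Coord E.D t} {M : Subgroup G}

/-- The class of a conjugate relative to a list. -/
def Cl (co : Coord E.D t) (g : G) (T Y : List Nat) : Prop :=
  List.Forall₂ (fun a b => a < 21504 ∧ b < 21504 ∧ g * co.ψ b * g⁻¹ = co.ψ a) T Y

theorem Cl.of_comm {g : G} {T : List Nat} (hT : ∀ a ∈ T, a < 21504) (hg : ∀ a ∈ T, Commute g (co.ψ a)) :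
    Cl co g T T := by
  induction T with
  | nil => exact .nil
  | cons a T ih =>
    exact .cons ⟨hT a (List.mem_cons_self ..), hT a (List.mem_cons_self ..), by
      rw [(hg a (List.mem_cons_self ..)).eq, mul_inv_cancel_right]⟩
      (ih (fun b hb => hT b (List.mem_cons_of_mem _ hb)) fun b hb => hg b (List.mem_cons_of_mem _ hb))

theorem Env.apart_spec (h : Ctx E co M) {Z Z' : List Nat} (ha : E.apart Z Z' = true) {c : G}
    (hc : Commute c t) (hf : List.Forall₂ (fun a b => a < 21504 ∧ b < 21504 ∧ c * co.ψ a * c⁻¹ = co.ψ b) Z Z') :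
    False := by
  obtain ⟨k, hk, rfl⟩ := co.surj c hc
  have h1 := Tables.all_lt ha hk
  have h2 : all2 (fun a b => Nat.beq (E.D.mul k a) (E.D.mul b k)) Z Z' = true := by
    clear h1 ha
    induction hf with
    | nil => rfl
    | cons hab _ ih =>
      obtain ⟨hA, hB, e⟩ := hab
      simp only [all2, Bool.and_eq_true]
      refine ⟨?_, ih⟩
      rw [co.inj _ _ (co.lt _ _ hk hA) (co.lt _ _ hB hk) (by
        rw [co.mul _ _ hk hA, co.mul _ _ hB hk, ← e, inv_mul_cancel_right])]
      exact Nat.beq_refl _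
  simp [h2] at h1

theorem forall₂_left {A B : List Nat} {R : Nat → Nat → Prop} (h : List.Forall₂ R A B) {a : Nat} (ha : a ∈ A) :
    ∃ b ∈ B, R a b := by
  induction h with
  | nil => simp at ha
  | cons hab _ ih =>
    rename_i x y X Y _
    rcases List.mem_cons.1 ha with rfl | ha
    · exact ⟨y, List.mem_cons_self .., hab⟩
    · obtain ⟨b, hb, h'⟩ := ih ha
      exact ⟨b, List.mem_cons_of_mem _ hb, h'⟩

theorem comm_move {m a b g : G} (e : m * a * m⁻¹ = b) (hc : Commute (g * t * g⁻¹) a) :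
    Commute (m * g * t * (m * g)⁻¹) b := by
  rw [← e, show m * g * t * (m * g)⁻¹ = m * (g * t * g⁻¹) * m⁻¹ by group]
  exact (Commute.conj_iff m).2 hc

theorem moved {R T : List Nat} (hl : Link co M R T) {g : G} (hg : g ∉ M) (hgR : ∀ z ∈ R, Commute (g * t * g⁻¹) (co.ψ z)) :
    ∃ m ∈ M, List.Forall₂ (fun a b => a < 21504 ∧ b < 21504 ∧ m * co.ψ a * m⁻¹ = co.ψ b) R T ∧ m * g ∉ M ∧
      ∀ z ∈ T, Commute (m * g * t * (m * g)⁻¹) (co.ψ z) := by
  obtain ⟨m, hm, hf⟩ := hl
  refine ⟨m, hm, hf, fun h => hg (by simpa using M.mul_mem (M.inv_mem hm) h), fun z hz => ?_⟩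
  obtain ⟨a, ha, -, -, e⟩ := forall₂_left hf.flip hz
  exact comm_move e (hgR a ha)

/-- What a configuration says about a conjugate outside. -/
theorem Cfg.outcome (h : Ctx E co M) (hM : Ctrl M t) {A : Cfg} {done : List (List Nat)} {R : List Nat}
    (hA : A.check E done R = true) (hd : ∀ Z ∈ done, Safe co M Z) {g : G} (hg : g ∉ M)
    (hgT : ∀ z ∈ A.T, Commute (g * t * g⁻¹) (co.ψ z)) :
    (∃ g' Y, Y ∈ A.outcomes ∧ g' * t * g'⁻¹ = g * t * g⁻¹ ∧ Cl co g' A.T Y) ∨
      ∃ tr ∈ A.trs, comb E.D A.T tr.j < 21504 ∧ ∃ k, (∀ z ∈ A.T, Commute k (co.ψ z)) ∧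
        k * t * k⁻¹ = t * co.ψ (comb E.D A.T tr.j) ∧
        k * (g * t * g⁻¹) * k⁻¹ = g * t * g⁻¹ * co.ψ (comb E.D A.T tr.j) := by
  simp only [Cfg.check, Bool.and_eq_true, List.all_eq_true] at hA
  obtain ⟨-, hlt, hentry, hwhy, htr, hspan⟩ := hA
  have hlt : ∀ a ∈ A.T, a < 21504 := fun a ha => Nat.ble_eq.mp (hlt a ha)
  set s := g * t * g⁻¹ with hs
  have hs1 : s * s = 1 := conj_sq h.tsq
  have hTt : ∀ z ∈ A.T, Commute (co.ψ z) t := fun z hz => co.mem z (hlt z hz)
  obtain ⟨k, hk, hks⟩ := dihedral t s h.tsq hs1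
  have hkT : ∀ z ∈ A.T, Commute k (co.ψ z) := fun z hz => (hk _ (hTt z hz) (hgT z hz).symm).symm
  rcases hks with hks | ⟨w, hww, hw1, hwt, hws, hwu, hcase⟩
  · exact Or.inl ⟨k, A.T, List.mem_cons_self .., hks, Cl.of_comm hlt hkT⟩
  obtain ⟨c, hc, hcw⟩ := co.surj w hwt
  have hwT : ∀ z ∈ A.T, Commute w (co.ψ z) := fun z hz => (hwu _ (hTt z hz) (hgT z hz).symm).symm
  have htw : IsConj t (t * w) := by
    rcases hcase with ⟨e, -⟩ | e
    · exact isConj_iff.2 ⟨k, e⟩
    · exact (isConj_iff.2 ⟨g, rfl⟩ : IsConj t s).trans (isConj_iff.2 ⟨k, e⟩ : IsConj (t * w) s).symm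
  have hwM : w ∈ M := hM.of_comm hwt
  have hnotfused : ¬ IsConj t w := fun hf => hg (hM.conj g (hM.cent_fused hf hwM hws.symm))
  by_cases hin : A.inSpan E c = true
  · simp only [Cfg.inSpan, Bool.not_eq_true', ← Bool.not_eq_true, allFrom_iff, not_forall,
      Bool.not_eq_false, exists_prop] at hin
    obtain ⟨j, -, hj, hjc⟩ := hin
    have hj' : j < 2 ^ A.T.length := by omega
    have hjc : comb E.D A.T j = c := Nat.eq_of_beq_eq_true (by simpa using hjc)
    have h0 : j ≠ 0 := fun e => by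
      apply hw1
      have hz : ∀ Z : List Nat, comb E.D Z 0 = 0 := by
        intro Z
        induction Z with
        | nil => rfl
        | cons z Z ih => rw [comb, Nat.zero_div, ih]; rfl
      rw [← hcw, ← hjc, e, hz, co.zero]
    have hsp := Tables.all_lt hspan hj'
    simp only [Cfg.checkSpan, Bool.and_eq_true, Bool.or_eq_true, List.any_eq_true, hjc] at hsp
    have hfz : E.fz (E.D.mul 1 c) = true := by
      have h1 := co.lt 1 c (by norm_num) hc
      rw [h.fz_iff h1 (by
        rw [co.mul 1 c (by norm_num) hc, co.one, hcw]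
        calc t * w * (t * w) = t * (w * t) * w := by group
          _ = t * (t * w) * w := by rw [hwt.eq]
          _ = (t * t) * (w * w) := by group
          _ = 1 := by rw [h.tsq, hww, one_mul]), co.mul 1 c (by norm_num) hc, co.one, hcw]
      exact htw
    rcases hsp.2 with hj0 | hj0 | ⟨tr, htrm, htrj⟩
    · exact absurd (Nat.eq_of_beq_eq_true hj0) h0
    · rw [hfz] at hj0; simp at hj0
    obtain rfl : tr.j = j := Nat.eq_of_beq_eq_true htrj
    rcases hcase with ⟨e1, e2⟩ | e
    · exact Or.inr ⟨tr, htrm, hjc ▸ hc, k, hkT, by rw [hjc, hcw]; exact e1, by rw [hjc, hcw]; exact e2⟩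
    · obtain ⟨n, hn, hf⟩ := h.chain (htr tr htrm)
      rcases hf with _ | ⟨⟨-, -, he⟩, hf⟩
      refine Or.inl ⟨k * n, tr.W, List.mem_cons_of_mem _ (List.mem_map.2 ⟨tr, htrm, rfl⟩), ?_,
        forall₂_trans (R := fun a b => a < 21504 ∧ b < 21504 ∧ k * co.ψ b * k⁻¹ = co.ψ a) ?_ (Cl.of_comm hlt hkT) hf.flip⟩
      · rw [co.one, co.mul 1 _ (by norm_num) (hjc ▸ hc), co.one, hjc, hcw] at he
        calc k * n * t * (k * n)⁻¹ = k * (n * t * n⁻¹) * k⁻¹ := by group
          _ = s := by rw [he, e]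
      · rintro a b a' ⟨ha, -, e1⟩ ⟨ha', -, e2⟩
        exact ⟨ha, ha', by rw [← e1, ← e2]; group⟩
  · exfalso
    have hsq : E.D.mul c c = 0 :=
      co.inj _ _ (co.lt c c hc hc) (by norm_num) (by rw [co.mul c c hc hc, hcw, hww, co.zero])
    obtain ⟨k', e', hm, -⟩ := Classes.class_of co h.cls hc (fun e => hw1 (by rw [← hcw, e, co.zero])) hsq
    have he := hentry _ hm
    simp only [Cfg.checkEntry, Bool.or_eq_true, Bool.not_eq_true', ← Bool.not_eq_true, List.any_eq_true,
      List.all_eq_true] at he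
    rcases he with he | he | he | he | ⟨x, hxm, hxc⟩
    · refine he fun z hz => ?_
      show Nat.beq (E.D.mul c z) (E.D.mul z c) = true
      rw [co.inj _ _ (co.lt c z hc (hlt z hz)) (co.lt z c (hlt z hz) hc) (by
        rw [co.mul c z hc (hlt z hz), co.mul z c (hlt z hz) hc, hcw]; exact (hwT z hz).eq)]
      exact Nat.beq_refl _
    · exact hin he
    · exact hnotfused (hcw ▸ (h.fz_iff hc (by rw [hcw, hww])).1 he)
    · refine he ((h.fz_iff (co.lt 1 c (by norm_num) hc) ?_).2 ?_)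
      · rw [co.mul 1 c (by norm_num) hc, co.one, hcw]
        calc t * w * (t * w) = t * (w * t) * w := by group
          _ = t * (t * w) * w := by rw [hwt.eq]
          _ = (t * t) * (w * w) := by group
          _ = 1 := by rw [h.tsq, hww, one_mul]
      · rw [co.mul 1 c (by norm_num) hc, co.one, hcw]; exact htw
    · obtain rfl : x.1 = c := Nat.eq_of_beq_eq_true hxc
      have hx := hwhy x hxm
      simp only [Cfg.checkWhy, Bool.and_eq_true] at hx
      have hcom : ∀ z ∈ x.1 :: A.T, Commute s (co.ψ z) := by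
        intro z hz
        rcases List.mem_cons.1 hz with rfl | hz
        · rw [hcw]; exact hws.symm
        · exact hgT z hz
      have hall : ∀ a ∈ x.1 :: A.T, a < 21504 := by
        intro a ha
        rcases List.mem_cons.1 ha with rfl | ha
        · exact hc
        · exact hlt a ha
      refine hg ?_
      rcases hw : x.2 with j | ⟨i, ch, masks⟩ <;> rw [hw] at hx <;> simp only [Bool.and_eq_true] at hx
      · exact safe_of_fused h hM hall (Nat.eq_of_beq_eq_true hx.2.1) hx.2.2 g hcom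
      · have hi := Nat.ble_eq.mp hx.2.1
        refine ((hd (done.getD i []) ?_).of_link (h.chain hx.2.2)) g fun z hz => ?_
        · rw [List.getD_eq_getElem _ _ hi]; exact List.getElem_mem hi
        · obtain ⟨j, -, rfl⟩ := List.mem_map.1 hz
          exact (comb_spec h j hall).2 s hcom

theorem Cfg.not_self (h : Ctx E co M) {A : Cfg} {done : List (List Nat)} {R : List Nat}
    (hA : A.check E done R = true) {tr : Tr} (htr : tr ∈ A.trs) (hap : E.apart tr.W A.T = true) {k : G}
    (hk : ∀ z ∈ A.T, Commute k (co.ψ z)) (hkt : k * t * k⁻¹ = t * co.ψ (comb E.D A.T tr.j))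
    (hlt : comb E.D A.T tr.j < 21504) : False := by
  simp only [Cfg.check, Bool.and_eq_true, List.all_eq_true] at hA
  obtain ⟨n, -, hf⟩ := h.chain (hA.2.2.2.2.1 tr htr)
  rcases hf with _ | ⟨⟨-, -, he⟩, hf⟩
  rw [co.one, co.mul 1 _ (by norm_num) hlt, co.one] at he
  refine Env.apart_spec h hap (c := k⁻¹ * n) ?_ ?_
  · show k⁻¹ * n * t = t * (k⁻¹ * n)
    calc k⁻¹ * n * t = k⁻¹ * (n * t * n⁻¹) * n := by group
      _ = t * (k⁻¹ * n) := by rw [he, ← hkt]; group
  · refine (forall₂_trans (R := fun a b => a < 21504 ∧ b < 21504 ∧ n * co.ψ a * n⁻¹ = co.ψ b)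
      (S := fun b b' => b = b' ∧ Commute k (co.ψ b)) ?_ hf ?_)
    · rintro a b _ ⟨ha, hb, e⟩ ⟨rfl, hc⟩
      refine ⟨ha, hb, ?_⟩
      calc k⁻¹ * n * co.ψ a * (k⁻¹ * n)⁻¹ = k⁻¹ * (n * co.ψ a * n⁻¹) * k := by group
        _ = co.ψ b := by rw [e, mul_assoc, ← hc.eq, inv_mul_cancel_left]
    · exact List.forall₂_same.2 fun z hz => ⟨rfl, hk z hz⟩

theorem Cfg.link (h : Ctx E co M) {A : Cfg} {done : List (List Nat)} {R : List Nat}
    (hA : A.check E done R = true) : Link co M R A.T := by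
  simp only [Cfg.check, Bool.and_eq_true] at hA
  exact h.chain hA.1

/-- The class pulled back to the root. -/
theorem classified (h : Ctx E co M) (hM : Ctrl M t) {A : Cfg} {done : List (List Nat)} {R : List Nat}
    (hA : A.check E done R = true) (hS : A.noSelf E = true) (hd : ∀ Z ∈ done, Safe co M Z) {g : G} (hg : g ∉ M)
    (hgR : ∀ z ∈ R, Commute (g * t * g⁻¹) (co.ψ z)) :
    ∃ g' Y, Y ∈ A.outcomes ∧ g' * t * g'⁻¹ = g * t * g⁻¹ ∧ Cl co g' R Y := by
  obtain ⟨m, hm, hf, hg', hgT⟩ := moved (Cfg.link h hA) hg hgR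
  rcases Cfg.outcome h hM hA hd hg' hgT with ⟨g', Y, hY, e, hcl⟩ | ⟨tr, htr, hlt, k, hk, hkt, -⟩
  · refine ⟨m⁻¹ * g', Y, hY, ?_, forall₂_trans ?_ hf hcl⟩
    · calc m⁻¹ * g' * t * (m⁻¹ * g')⁻¹ = m⁻¹ * (g' * t * g'⁻¹) * m := by group
        _ = g * t * g⁻¹ := by rw [e]; group
    · rintro a b c ⟨ha, -, e1⟩ ⟨-, hc, e2⟩
      refine ⟨ha, hc, ?_⟩
      calc m⁻¹ * g' * co.ψ c * (m⁻¹ * g')⁻¹ = m⁻¹ * (g' * co.ψ c * g'⁻¹) * m := by group
        _ = co.ψ a := by rw [e2, ← e1]; group
  · exact (Cfg.not_self h hA htr (List.all_eq_true.1 hS tr htr) hk hkt hlt).elim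

/-- A node: a root, a first configuration and others without a class in common. -/
structure Node where
  R : List Nat
  A : Cfg
  Bs : List Cfg

noncomputable def Node.check (E : Env) (N : Node) (done : List (List Nat)) : Bool :=
  N.A.check E done N.R && (N.A.noSelf E && ((N.Bs.all fun B => B.check E done N.R) &&
    N.A.outcomes.all fun Y => N.Bs.any fun B => B.kills E Y))

theorem Node.safe (h : Ctx E co M) (hM : Ctrl M t) {N : Node} {done : List (List Nat)}
    (hN : N.check E done = true) (hd : ∀ Z ∈ done, Safe co M Z) : Safe co M N.R := by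
  simp only [Node.check, Bool.and_eq_true, List.all_eq_true, List.any_eq_true] at hN
  obtain ⟨hA, hS, hB, hkill⟩ := hN
  intro g hgR
  by_contra hg
  obtain ⟨g', Y, hY, e, hcl⟩ := classified h hM hA hS hd hg hgR
  obtain ⟨B, hBm, hk⟩ := hkill Y hY
  simp only [Cfg.kills, Bool.and_eq_true, List.all_eq_true, Bool.or_eq_true] at hk
  obtain ⟨hk1, hk2⟩ := hk
  have hBc := hB B hBm
  obtain ⟨m, hm, hf, hg2, hgT⟩ := moved (Cfg.link h hBc) hg hgR
  -- the class seen from this configuration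
  have he : m * g' * t * (m * g')⁻¹ = m * g * t * (m * g)⁻¹ := by
    calc m * g' * t * (m * g')⁻¹ = m * (g' * t * g'⁻¹) * m⁻¹ := by group
      _ = _ := by rw [e]; group
  have hY' : List.Forall₂ (fun a b => a < 21504 ∧ b < 21504 ∧ (m * g') * co.ψ a * (m * g')⁻¹ = co.ψ b) Y B.T := by
    refine forall₂_trans ?_ hcl.flip hf
    rintro a b c ⟨-, ha, e1⟩ ⟨-, hc, e2⟩
    refine ⟨ha, hc, ?_⟩
    rw [← e2, ← e1]; group
  rcases Cfg.outcome h hM hBc hd hg2 hgT with ⟨g2, W, hW, e2, hcl2⟩ | ⟨tr, htr, hlt, k, hkk, hkt, hks⟩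
  · refine Env.apart_spec h (hk1 W hW) (c := g2⁻¹ * (m * g')) ?_ (forall₂_trans ?_ hY' hcl2)
    · show g2⁻¹ * (m * g') * t = t * (g2⁻¹ * (m * g'))
      calc g2⁻¹ * (m * g') * t = g2⁻¹ * ((m * g') * t * (m * g')⁻¹) * (m * g') := by group
        _ = t * (g2⁻¹ * (m * g')) := by rw [he, ← e2]; group
    · rintro a b c ⟨ha, -, e3⟩ ⟨-, hc, e4⟩
      refine ⟨ha, hc, ?_⟩
      calc g2⁻¹ * (m * g') * co.ψ a * (g2⁻¹ * (m * g'))⁻¹ = g2⁻¹ * ((m * g') * co.ψ a * (m * g')⁻¹) * g2 := by group
        _ = co.ψ c := by rw [e3, ← e4]; group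
  · rcases hk2 tr htr with hap | hnf
    · exact Cfg.not_self h hBc htr hap hkk hkt hlt
    obtain ⟨hl, -, hcj⟩ := comb_conj h hY' tr.j
    have h1 := co.lt 1 _ (by norm_num) hl
    have hval : m * g' * co.ψ (E.D.mul 1 (comb E.D Y tr.j)) * (m * g')⁻¹ = m * g * t * (m * g)⁻¹ * co.ψ (comb E.D B.T tr.j) := by
      rw [co.mul 1 _ (by norm_num) hl, co.one, ← hcj, ← he]; group
    have hconj : IsConj t (co.ψ (E.D.mul 1 (comb E.D Y tr.j))) := by
      refine IsConj.trans ((isConj_iff.2 ⟨k * (m * g), ?_⟩ : IsConj t (m * g * t * (m * g)⁻¹ * co.ψ (comb E.D B.T tr.j))))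
        (isConj_iff.2 ⟨m * g', hval⟩ : IsConj _ _).symm
      rw [← hks]; group
    have hsq : co.ψ (E.D.mul 1 (comb E.D Y tr.j)) * co.ψ (E.D.mul 1 (comb E.D Y tr.j)) = 1 := by
      obtain ⟨q, hq⟩ := isConj_iff.1 hconj
      rw [← hq]; exact conj_sq h.tsq
    rw [(h.fz_iff h1 hsq).2 hconj] at hnf
    simp at hnf

/-- A node all of whose classes come back to the root, whose centraliser is in `M`. -/
theorem safe_cover (h : Ctx E co M) (hM : Ctrl M t) {A : Cfg} {done : List (List Nat)} {R : List Nat}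
    (hA : A.check E done R = true) (hS : A.noSelf E = true) (hd : ∀ Z ∈ done, Safe co M Z)
    (hlink : ∀ Y ∈ A.outcomes, Link co M R Y) (hcent : ∀ g, (∀ z ∈ R, Commute g (co.ψ z)) → g ∈ M) :
    Safe co M R := by
  intro g hgR
  by_contra hg
  obtain ⟨g', Y, hY, e, hcl⟩ := classified h hM hA hS hd hg hgR
  obtain ⟨m, hm, hf⟩ := hlink Y hY
  have hg'm : g' * m ∈ M := hcent _ fun z hz => by
    have : ∀ p, List.Forall₂ (fun a b => a < 21504 ∧ b < 21504 ∧ (g' * m) * co.ψ a * (g' * m)⁻¹ = co.ψ b) R p →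
        p = R → (g' * m) * co.ψ z * (g' * m)⁻¹ = co.ψ z := by
      rintro p hp rfl
      exact (List.forall₂_same.1 hp z hz).2.2
    have := this R (forall₂_trans (fun a b c (h1 : a < 21504 ∧ b < 21504 ∧ m * co.ψ a * m⁻¹ = co.ψ b)
      (h2 : b < 21504 ∧ c < 21504 ∧ g' * co.ψ b * g'⁻¹ = co.ψ c) => ⟨h1.1, h2.2.1, by
        rw [← h2.2.2, ← h1.2.2]; group⟩) hf (hcl.flip.imp fun a b h => ⟨h.2.1, h.1, h.2.2⟩)) rfl
    exact mul_inv_eq_iff_eq_mul.1 this
  have hg'M : g' ∈ M := by simpa using M.mul_mem hg'm (M.inv_mem hm)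
  exact hg (hM.conj g (e ▸ M.mul_mem (M.mul_mem hg'M hM.self_mem) (M.inv_mem hg'M)))

/-- The roots of checked nodes are safe. -/
theorem safe_nodes (h : Ctx E co M) (hM : Ctrl M t) : ∀ {Ns : List Node} {done : List (List Nat)},
    (∀ Z ∈ done, Safe co M Z) →
    (∀ i (hi : i < Ns.length), (Ns[i]).check E (done ++ (Ns.take i).map Node.R) = true) →
    ∀ Z ∈ done ++ Ns.map Node.R, Safe co M Z
  | [], done, hd, _ => by simpa using hd
  | N :: Ns, done, hd, hc => by
    have h0 := Node.safe h hM (N := N) (done := done) (by have := hc 0 (by simp); simpa using this) hd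
    have := safe_nodes h hM (Ns := Ns) (done := done ++ [N.R]) (by
      intro Z hZ
      rcases List.mem_append.1 hZ with hZ | hZ
      · exact hd Z hZ
      · rw [List.mem_singleton.1 hZ]; exact h0) (fun i hi => by
        have := hc (i + 1) (by simp; omega)
        simpa using this)
    simpa using this

end Engine

end Cfsg.Agent.HeRecog
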