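import Cfsg.Agent.HeRecog.Model
import Cfsg.Agent.Invol.ZStar
import Cfsg.Prelude.Def_TwoFusion

/-! Which classes of involutions of the centraliser can be fused to the central one. -/

set_option autoImplicit false
set_option linter.all false

namespace Cfsg.Agent.HeRecog

open Cfsg.Agent.CosetCert

/-- The number of `c < n` with `p c`. -/
noncomputable def countB (p : Nat → Bool) (n : Nat) : Nat :=
  Nat.rec 0 (fun m ih => cond (p m) (Nat.succ ih) ih) n

theorem countB_eq (p : Nat → Bool) (n : Nat) : countB p n = ((Finset.range n).filter fun c => p c = true).card := by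
  induction n with
  | zero => simp [countB]
  | succ n ih =>
    show cond (p n) (Nat.succ (countB p n)) (countB p n) = _
    rw [Finset.range_add_one, Finset.filter_insert, ih]
    cases h : p n <;> simp [h]

/-- The classes of involutions with their counts of square roots. -/
structure Classes where
  reps : List Nat
  mask : Nat
  tab : List (Nat × Nat × Nat)
  A : List Nat
  B : List Nat
  allowed : List Nat

namespace Classes

variable (D : Tables) (K : Classes)

/-- A representative. -/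
def rep (k : Nat) : Nat := K.reps.getD k 0

/-- An involution is listed. -/
noncomputable def checkInv (c : Nat) : Bool :=
  Nat.beq c 0 || (!Nat.beq (D.mul c c) 0 || Nat.testBit K.mask c)

/-- A listed involution is conjugate to its representative. -/
noncomputable def checkEntry (t : Nat × Nat × Nat) : Bool :=
  Nat.blt t.1 21504 && (Nat.blt t.2.2 21504 && (Nat.blt t.2.1 K.reps.length &&
    Nat.beq (D.mul t.2.2 (K.rep t.2.1)) (D.mul t.1 t.2.2)))

/-- The counts of a class. -/
noncomputable def checkCount (k : Nat) : Bool :=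
  Nat.blt (K.rep k) 21504 && (Nat.beq (D.mul (K.rep k) (K.rep k)) 0 && (
    Nat.beq (countB (fun d => Nat.beq (D.mul d d) 1 && Nat.beq (D.mul d (K.rep k)) (D.mul (K.rep k) d)) 21504)
      (K.A.getD k 0) &&
    Nat.beq (countB (fun d => Nat.beq (D.mul d d) (K.rep k)) 21504) (K.B.getD k 0)))

/-- A class that is not allowed has no partner. -/
noncomputable def checkPartner (k : Nat) : Bool :=
  Nat.beq k 0 || (K.allowed.contains k || allFrom (fun j =>
    !(Nat.beq (K.A.getD k 0) (K.B.getD j 0) && Nat.beq (K.B.getD k 0) (K.A.getD j 0))) 0 K.reps.length)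

/-- The checked classes. -/
structure Valid : Prop where
  inv : allFrom (K.checkInv D) 0 21504 = true
  entries : K.tab.all (K.checkEntry D) = true
  mask : K.tab.foldl (fun m t => m ||| 2 ^ t.1) 0 = K.mask
  count : allFrom (K.checkCount D) 0 K.reps.length = true
  partner : allFrom K.checkPartner 0 K.reps.length = true
  rep0 : K.rep 0 = 1

theorem testBit_foldl : ∀ (l : List (Nat × Nat × Nat)) (m : Nat) (c : Nat),
    (l.foldl (fun m t => m ||| 2 ^ t.1) m).testBit c = true → m.testBit c = true ∨ ∃ t ∈ l, t.1 = c := by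
  intro l
  induction l with
  | nil => exact fun m c h => Or.inl h
  | cons a l ih =>
    intro m c h
    rcases ih _ c h with h | ⟨t, ht, e⟩
    · rw [Nat.testBit_or, Bool.or_eq_true, Nat.testBit_two_pow] at h
      rcases h with h | h
      · exact Or.inl h
      · exact Or.inr ⟨a, List.mem_cons_self .., by simpa using h⟩
    · exact Or.inr ⟨t, List.mem_cons_of_mem _ ht, e⟩

variable {G : Type*} [Group G] [Finite G] {t : G}

/-- Square roots of `a` commuting with `b`. -/
noncomputable def cntG (a b : G) : Nat := {d : G | d * d = a ∧ Commute d b}.ncard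

theorem cntG_conj (g a b : G) : cntG (g * a * g⁻¹) (g * b * g⁻¹) = cntG a b := by
  unfold cntG
  rw [show {d : G | d * d = g * a * g⁻¹ ∧ Commute d (g * b * g⁻¹)} =
    (fun d => g * d * g⁻¹) '' {d : G | d * d = a ∧ Commute d b} from ?_]
  · exact Set.ncard_image_of_injective _ fun a b h => mul_left_cancel (mul_right_cancel h)
  ext d
  constructor
  · rintro ⟨h1, h2⟩
    refine ⟨g⁻¹ * d * g, ⟨?_, ?_⟩, by group⟩
    · calc g⁻¹ * d * g * (g⁻¹ * d * g) = g⁻¹ * (d * d) * g := by group
        _ = a := by rw [h1]; group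
    · have := (Commute.conj_iff g⁻¹).2 h2
      simpa [mul_assoc] using this
  · rintro ⟨x, ⟨h1, h2⟩, rfl⟩
    exact ⟨by rw [← h1]; group, (Commute.conj_iff g).2 h2⟩

variable {D K}

theorem class_of (co : Coord D t) (hK : K.Valid D) {c : Nat} (hc : c < 21504) (h0 : c ≠ 0)
    (hsq : D.mul c c = 0) :
    ∃ k e, (c, k, e) ∈ K.tab ∧ k < K.reps.length ∧ K.rep k < 21504 ∧ e < 21504 ∧
      co.ψ e * co.ψ (K.rep k) * (co.ψ e)⁻¹ = co.ψ c := by
  have h := Tables.all_lt hK.inv hc
  simp only [checkInv, Bool.or_eq_true, Bool.not_eq_true', ← Bool.not_eq_true] at h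
  rcases h with h | h | h
  · exact absurd (Nat.eq_of_beq_eq_true h) h0
  · exact absurd (by rw [hsq]; exact Nat.beq_refl _) h
  rw [← hK.mask] at h
  rcases testBit_foldl _ _ _ h with h | ⟨⟨c', k, e⟩, hm, rfl⟩
  · simp at h
  have he := List.all_eq_true.1 hK.entries _ hm
  simp only [checkEntry, Bool.and_eq_true] at he
  obtain ⟨he1, he2, hk, heq⟩ := he
  have hk := Nat.ble_eq.mp hk
  have hr := Tables.all_lt hK.count hk
  simp only [checkCount, Bool.and_eq_true] at hr
  have hr := Nat.ble_eq.mp hr.1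
  refine ⟨k, e, hm, hk, hr, Nat.ble_eq.mp he2, ?_⟩
  rw [mul_inv_eq_iff_eq_mul, ← co.mul _ _ (Nat.ble_eq.mp he2) hr, ← co.mul _ _ hc (Nat.ble_eq.mp he2),
    Nat.eq_of_beq_eq_true heq]

theorem count_spec (co : Coord D t) (hK : K.Valid D) {k : Nat} (hk : k < K.reps.length) :
    cntG t (co.ψ (K.rep k)) = K.A.getD k 0 ∧ cntG (co.ψ (K.rep k)) t = K.B.getD k 0 := by
  have h := Tables.all_lt hK.count hk
  simp only [checkCount, Bool.and_eq_true] at h
  obtain ⟨hr, -, hA, hB⟩ := h
  have hr := Nat.ble_eq.mp hr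
  rw [← Nat.eq_of_beq_eq_true hA, ← Nat.eq_of_beq_eq_true hB, countB_eq, countB_eq]
  unfold cntG
  have key : ∀ (p : Nat → Bool) (S : Set G), (∀ c, c < 21504 → (p c = true ↔ co.ψ c ∈ S)) →
      (∀ g ∈ S, Commute g t) → S.ncard = ((Finset.range 21504).filter fun c => p c = true).card := by
    intro p S hp hS
    rw [← Set.ncard_coe_finset, show S = co.ψ '' ↑((Finset.range 21504).filter fun c => p c = true) from ?_]
    · refine Set.InjOn.ncard_image fun a ha b hb hab => ?_
      simp only [Finset.coe_filter, Finset.mem_range, Set.mem_setOf_eq] at ha hb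
      exact co.inj a b ha.1 hb.1 hab
    ext g
    constructor
    · intro hg
      obtain ⟨c, hc, rfl⟩ := co.surj g (hS g hg)
      exact ⟨c, by simp [hc, (hp c hc).2 hg], rfl⟩
    · rintro ⟨c, hc, rfl⟩
      simp only [Finset.coe_filter, Finset.mem_range, Set.mem_setOf_eq] at hc
      exact (hp c hc.1).1 hc.2
  constructor
  · refine key _ _ (fun c hc => ?_) fun g hg => ?_
    · simp only [Bool.and_eq_true, Set.mem_setOf_eq, Commute, SemiconjBy]
      rw [← co.mul c c hc hc, ← co.mul c _ hc hr, ← co.mul _ c hr hc]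
      constructor
      · rintro ⟨a, b⟩; rw [Nat.eq_of_beq_eq_true a, Nat.eq_of_beq_eq_true b, co.one]; exact ⟨rfl, rfl⟩
      · rintro ⟨a, b⟩
        have a := a.trans co.one.symm
        exact ⟨by rw [co.inj _ _ (co.lt c c hc hc) (by norm_num) a]; rfl,
          by rw [co.inj _ _ (co.lt _ _ hc hr) (co.lt _ _ hr hc) b]; exact Nat.beq_refl _⟩
    · rw [← hg.1]; exact (Commute.refl g).mul_right (Commute.refl g)
  · refine key _ _ (fun c hc => ?_) fun g hg => hg.2
    simp only [Set.mem_setOf_eq]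
    rw [← co.mul c c hc hc]
    constructor
    · intro a; rw [Nat.eq_of_beq_eq_true a]; exact ⟨rfl, co.mem c hc⟩
    · rintro ⟨a, -⟩; rw [co.inj _ _ (co.lt c c hc hc) hr a]; exact Nat.beq_refl _

theorem conj_class (co : Coord D t) (hK : K.Valid D) {c : Nat} (hc : c < 21504) (h0 : c ≠ 0)
    (hsq : D.mul c c = 0) :
    ∃ k e, (c, k, e) ∈ K.tab ∧ k < K.reps.length ∧ (IsConj t (co.ψ c) ↔ IsConj t (co.ψ (K.rep k))) := by
  obtain ⟨k, e, hm, hk, -, -, he⟩ := class_of co hK hc h0 hsq
  have h : IsConj (co.ψ (K.rep k)) (co.ψ c) := isConj_iff.2 ⟨_, he⟩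
  exact ⟨k, e, hm, hk, fun hc => hc.trans h.symm, fun hc => hc.trans h⟩

/-- A fused class has a partner. -/
theorem fuse (co : Coord D t) (hK : K.Valid D) (ht : orderOf t = 2) {k : Nat} (hk : k < K.reps.length)
    (hk0 : k ≠ 0) (hconj : IsConj t (co.ψ (K.rep k))) : k ∈ K.allowed := by
  have h := Tables.all_lt hK.partner hk
  simp only [checkPartner, Bool.or_eq_true, List.contains_iff_mem] at h
  rcases h with h | h | h
  · exact absurd (Nat.eq_of_beq_eq_true h) hk0
  · exact h
  exfalso
  obtain ⟨g, hg⟩ := isConj_iff.1 hconj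
  have hr : K.rep k < 21504 := by
    have := Tables.all_lt hK.count hk
    simp only [checkCount, Bool.and_eq_true] at this
    exact Nat.ble_eq.mp this.1
  have hcs : Commute (g * t * g⁻¹) t := hg ▸ co.mem _ hr
  have hs' : Commute (g⁻¹ * t * g) t := by
    have := (Commute.conj_iff g⁻¹).2 hcs.symm
    simpa [mul_assoc] using this
  obtain ⟨c, hc, hce⟩ := co.surj _ hs'
  have htt : t * t = 1 := by rw [← pow_two, ← ht, pow_orderOf_eq_one]
  have hsq : D.mul c c = 0 := co.inj _ _ (co.lt c c hc hc) (by norm_num) (by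
    rw [co.mul c c hc hc, co.zero, hce]
    calc g⁻¹ * t * g * (g⁻¹ * t * g) = g⁻¹ * (t * t) * g := by group
      _ = 1 := by rw [htt]; group)
  have hc0 : c ≠ 0 := fun e0 => by
    rw [e0, co.zero] at hce
    have : t = 1 := by
      calc t = g * (g⁻¹ * t * g) * g⁻¹ := by group
        _ = 1 := by rw [← hce]; group
    rw [this, orderOf_one] at ht; omega
  obtain ⟨j, e, -, hj, -, he, hje⟩ := class_of co hK hc hc0 hsq
  obtain ⟨a1, a2⟩ := count_spec co hK hk
  obtain ⟨b1, b2⟩ := count_spec co hK hj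
  have hte : co.ψ e * t * (co.ψ e)⁻¹ = t := by rw [(co.mem e he).eq, mul_inv_cancel_right]
  have c1 := cntG_conj (co.ψ e) t (co.ψ (K.rep j))
  have c2 := cntG_conj (co.ψ e) (co.ψ (K.rep j)) t
  rw [hte, hje, b1] at c1
  rw [hte, hje, b2] at c2
  have d1 := cntG_conj g⁻¹ t (co.ψ (K.rep k))
  have d2 := cntG_conj g⁻¹ (co.ψ (K.rep k)) t
  have e1 : g⁻¹ * t * g⁻¹⁻¹ = co.ψ c := by rw [hce, inv_inv]
  have e2 : g⁻¹ * co.ψ (K.rep k) * g⁻¹⁻¹ = t := by rw [← hg]; group
  rw [e1, e2, c2, a1] at d1
  rw [e1, e2, c1, a2] at d2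
  have := Tables.all_lt h hj
  simp only [Bool.not_eq_true', ← Bool.not_eq_true, Bool.and_eq_true] at this
  exact this ⟨by rw [d1]; exact Nat.beq_refl _, by rw [d2]; exact Nat.beq_refl _⟩

/-- A conjugate in the centraliser lies in an allowed class. -/
theorem fused_class (co : Coord D t) (hK : K.Valid D) (ht : orderOf t = 2) {c : Nat} (hc : c < 21504)
    (h1 : c ≠ 1) (hconj : IsConj t (co.ψ c)) :
    ∃ k e, (c, k, e) ∈ K.tab ∧ k ∈ K.allowed ∧ IsConj t (co.ψ (K.rep k)) := by
  obtain ⟨g, hg⟩ := isConj_iff.1 hconj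
  have h0 : c ≠ 0 := fun e => by
    rw [e, co.zero, conj_eq_one_iff] at hg
    rw [hg, orderOf_one] at ht; omega
  have hsq : D.mul c c = 0 := co.inj _ _ (co.lt c c hc hc) (by norm_num) (by
    rw [co.mul c c hc hc, co.zero, ← hg]
    calc g * t * g⁻¹ * (g * t * g⁻¹) = g * (t * t) * g⁻¹ := by group
      _ = 1 := by rw [← pow_two, ← ht, pow_orderOf_eq_one, mul_one, mul_inv_cancel])
  obtain ⟨k, e, hm, hk, -, he, hje⟩ := class_of co hK hc h0 hsq
  have hconj' : IsConj t (co.ψ (K.rep k)) := hconj.trans (isConj_iff.2 ⟨_, hje⟩ : IsConj _ (co.ψ c)).symm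
  refine ⟨k, e, hm, fuse co hK ht hk (fun hk0 => h1 ?_) hconj', hconj'⟩
  subst hk0
  rw [hK.rep0, co.one, (co.mem e he).eq, mul_inv_cancel_right] at hje
  exact co.inj c 1 hc (by norm_num) (by rw [co.one, ← hje])

end Classes

/-- In a simple group no involution is isolated unless it is central. -/
theorem isolated_central {G : Type*} [Group G] [Finite G] [IsSimpleGroup G] {t : G} (ht : orderOf t = 2)
    (h : ∀ s, IsConj t s → Commute s t → s = t) : t ∈ Subgroup.center G := by
  have hiso : Cfsg.IsIsolatedInvolution t :=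
    ⟨ht, fun g hc => h _ (isConj_iff.2 ⟨g, rfl⟩) hc.symm⟩
  have hO : Cfsg.oddCore G = ⊥ := by
    refine ((inferInstance : (Cfsg.oddCore G).Normal).eq_bot_or_eq_top).resolve_right fun e => ?_
    have hzO : t ∈ Cfsg.oddCore G := e ▸ Subgroup.mem_top t
    refine Core.not_dvd_card_pPrimeCore (p := 2) (G := G) ?_
    have h2 := orderOf_dvd_natCard (⟨t, hzO⟩ : Cfsg.oddCore G)
    rwa [Subgroup.orderOf_mk, ht] at h2
  refine Subgroup.mem_center_iff.2 fun u => ?_
  have := Invol.zstar hiso u
  rw [hO, Subgroup.mem_bot, mul_inv_eq_one, mul_inv_eq_iff_eq_mul] at this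
  exact this.symm

end Cfsg.Agent.HeRecog
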