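import Cfsg.Agent.HeRecog.Normal

/-! The four sign patterns of the relations, and coordinates. -/

set_option autoImplicit false
set_option linter.all false

namespace Cfsg.Agent.HeRecog

open Cfsg.Agent.CosetCert

namespace Tables

/-- The action of a letter on codes, with the inverse searched. -/
noncomputable def lact (D : Tables) (l a : Nat) : Nat :=
  cond (Nat.blt l 2) (D.actV l a)
    (Nat.rec 0 (fun b ih => cond (Nat.beq (D.actV (l - 2) b) a) b ih) 128)

noncomputable def wactL (D : Tables) (w : List Nat) (a : Nat) : Nat := List.rec a (fun l _ ih => D.lact l ih) w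

/-- The searched inverse is one. -/
noncomputable def checkInvAct (D : Tables) : Bool :=
  allFrom (fun g => allFrom (fun a => Nat.blt (D.lact (g + 2) a) 128 && Nat.beq (D.actV g (D.lact (g + 2) a)) a) 0 128) 0 2

/-- Only the two codes over a vector act as the word does. -/
noncomputable def checkVal (D : Tables) (w : List Nat) (v : Nat) : Bool :=
  allFrom (fun i => Nat.blt (D.wactL w (2 * 2 ^ i)) 128) 0 6 && allFrom (fun u =>
    !allFrom (fun i => Nat.beq (qmul (qmul u (2 * 2 ^ i)) (qinv u)) (D.wactL w (2 * 2 ^ i))) 0 6 ||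
      (Nat.beq u v || Nat.beq u (qmul v 1))) 0 128

end Tables

variable {G : Type*} [Group G] {e : Nat → G} {z : G}

theorem lprod_cons (x y : G) (l : Nat) (w : List Nat) :
    Tables.lprod x y (l :: w) = Tables.lt x y l * Tables.lprod x y w := by simp [Tables.lprod]

/-- Fix the signs of an action. -/
theorem fix_sign (h : Ext e z) {x : G} {M : Nat} {code : Nat → Nat} (hx : Acts e z x (O6.lin M))
    (hM : O6.isPres M = true) (hcode : ∀ i, i < 6 → code i < 128 ∧ code i / 2 = O6.lin M (2 ^ i)) :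
    ∃ c, c < 128 ∧ Acts e z (x * qel e z c) (O6.lin M) ∧
      ∀ i, i < 6 → x * qel e z c * e i * (x * qel e z c)⁻¹ = qel e z (code i) := by
  classical
  have hs : ∀ i, i < 6 → ∃ s, s < 2 ∧ x * e i * x⁻¹ = qel e z (qmul (code i) s) := fun i hi => by
    obtain ⟨b, hb, hv, he⟩ := hx.conj (2 * 2 ^ i) (by interval_cases i <;> norm_num)
    rw [h.qel_gen hi] at he
    rw [show 2 * 2 ^ i / 2 = 2 ^ i by omega, ← (hcode i hi).2] at hv
    have key : ∀ a b : Fin 128, (b : Nat) / 2 = (a : Nat) / 2 → ∃ s : Fin 2, (b : Nat) = qmul a s := by decide +kernel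
    obtain ⟨s, hs⟩ := key ⟨_, (hcode i hi).1⟩ ⟨b, hb⟩ hv
    simp only at hs
    exact ⟨s, s.2, by rw [he, hs]⟩
  choose! s hs2 hs using hs
  have sel : ∀ m : Fin 64, ∃ c : Fin 128, ∀ i : Fin 6,
      qmul (qmul c (2 * 2 ^ (i : Nat))) (qinv c) = qmul (2 * 2 ^ (i : Nat)) (cond (Nat.testBit m i) 1 0) := by
    decide +kernel
  have hm : ∀ b : Fin 6 → Bool, ∃ m : Fin 64, ∀ i : Fin 6, Nat.testBit m i = b i := by decide +kernel
  obtain ⟨m, hm⟩ := hm fun i => Nat.beq (s i) 1
  obtain ⟨c, hc⟩ := sel m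
  refine ⟨c, c.2, (hx.mul (h.acts_qel c.2)).congr fun v _ => rfl, fun i hi => ?_⟩
  have h6 : 2 * 2 ^ i < 128 := by interval_cases i <;> norm_num
  obtain ⟨hci, hci'⟩ := h.q.qel_qinv c.2
  have h1 : qel e z c * e i * (qel e z c)⁻¹ = e i * qel e z (s i) := by
    rw [← h.qel_gen hi, ← hci', h.q.qel_mul c.2 h6, h.q.qel_mul (Tables.qmul_lt c.2 h6) hci, hc ⟨i, hi⟩]
    have hsi : s i = 0 ∨ s i = 1 := by have := hs2 i hi; omega
    rw [show cond (Nat.testBit m i) 1 0 = s i by
      rw [hm ⟨i, hi⟩]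
      show cond (Nat.beq (s i) 1) 1 0 = s i
      rcases hsi with e1 | e1 <;> rw [e1] <;> rfl]
    rw [h.q.qel_mul h6 (show s i < 128 by omega)]
  have hsl : s i < 128 := by have := hs2 i hi; omega
  have hz : x * qel e z (s i) * x⁻¹ = qel e z (s i) := by
    have : s i = 0 ∨ s i = 1 := by have := hs2 i hi; omega
    rcases this with e1 | e1 <;> rw [e1]
    · rw [QGens.qel_zero]; group
    · rw [QGens.qel_one, hx.mem.eq, mul_inv_cancel_right]
  calc x * qel e z c * e i * (x * qel e z c)⁻¹ = x * (qel e z c * e i * (qel e z c)⁻¹) * x⁻¹ := by group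
    _ = x * e i * x⁻¹ * (x * qel e z (s i) * x⁻¹) := by rw [h1]; group
    _ = qel e z (code i) := by
      rw [hz, hs i hi, h.q.qel_mul (Tables.qmul_lt (hcode i hi).1 hsl) hsl]
      congr 1
      have key : ∀ a : Fin 128, ∀ s : Fin 2, qmul (qmul a s) s = a := by decide +kernel
      exact key ⟨_, (hcode i hi).1⟩ ⟨s i, hs2 i hi⟩

theorem lt_center (h : Ext e z) (x y : G) (hx : Commute x z) (hy : Commute y z) : ∀ l, Commute (Tables.lt x y l) z := by
  intro l
  unfold Tables.lt
  split_ifs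
  · exact hx
  · exact hy
  · exact hx.inv_left
  · exact hy.inv_left

/-- Multiplying by central signs. -/
theorem lprod_sign (h : Ext e z) {x y : G} (hx : Commute x z) (hy : Commute y z) (a b : Nat) :
    ∀ w : List Nat, (∀ l ∈ w, l < 4) → Tables.lprod (x * z ^ a) (y * z ^ b) w =
      Tables.lprod x y w * z ^ (w.countP (fun l => l % 2 == 0) * a + w.countP (fun l => l % 2 == 1) * b) := by
  have hzi : ∀ k : Nat, (z ^ k)⁻¹ = z ^ k := fun k => inv_eq_of_mul_eq_one_right (by
    rw [← pow_add, ← two_mul, pow_mul, pow_two, h.q.zsq, one_pow])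
  intro w
  induction w with
  | nil => intro _; simp [Tables.lprod]
  | cons l w ih =>
    intro hl
    have hlt := hl l (List.mem_cons_self ..)
    have e1 : Tables.lt (x * z ^ a) (y * z ^ b) l = Tables.lt x y l * z ^ (if l % 2 = 0 then a else b) := by
      interval_cases l <;> simp [Tables.lt, hzi, (hx.inv_left.pow_right a).eq, (hy.inv_left.pow_right b).eq]
    rw [lprod_cons, lprod_cons, ih fun m hm => hl m (List.mem_cons_of_mem _ hm), e1]
    have hc : Commute (Tables.lprod x y w) z := by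
      refine List.prod_induction (Commute · z) (fun p q => Commute.mul_left) (Commute.one_left z) (fun p hp => ?_)
      obtain ⟨m, -, rfl⟩ := List.mem_map.1 hp
      exact lt_center h x y hx hy m
    calc Tables.lt x y l * z ^ (if l % 2 = 0 then a else b) * (Tables.lprod x y w * z ^ (w.countP (fun l => l % 2 == 0) * a + w.countP (fun l => l % 2 == 1) * b))
        = Tables.lt x y l * (z ^ (if l % 2 = 0 then a else b) * Tables.lprod x y w) *
          z ^ (w.countP (fun l => l % 2 == 0) * a + w.countP (fun l => l % 2 == 1) * b) := by group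
      _ = _ := by
        rw [(hc.pow_right _).symm.eq, ← mul_assoc, mul_assoc _ (z ^ _) (z ^ _), ← pow_add]
        congr 2
        rw [List.countP_cons, List.countP_cons]
        rcases Nat.mod_two_eq_zero_or_one l with e2 | e2 <;> simp [e2] <;> ring

/-- Elements with exact action give the word's action. -/
theorem wact_spec (h : Ext e z) (D : Tables) (hD : D.Valid) (hinv : D.checkInvAct = true) {x y : G}
    (hgen : ∀ g, g < 2 → Commute (Tables.lt x y g) z ∧ ∀ a, a < 128 →
      D.actV g a < 128 ∧ Tables.lt x y g * qel e z a * (Tables.lt x y g)⁻¹ = qel e z (D.actV g a)) :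
    ∀ w : List Nat, (∀ l ∈ w, l < 4) → ∀ a, a < 128 →
      D.wactL w a < 128 ∧ Tables.lprod x y w * qel e z a * (Tables.lprod x y w)⁻¹ = qel e z (D.wactL w a) := by
  intro w
  induction w with
  | nil => intro _ a ha; exact ⟨ha, by simp [Tables.lprod]; rfl⟩
  | cons l w ih =>
    intro hl a ha
    obtain ⟨i1, i2⟩ := ih (fun m hm => hl m (List.mem_cons_of_mem _ hm)) a ha
    have hlt := hl l (List.mem_cons_self ..)
    set b := D.wactL w a with hb
    have step : D.lact l b < 128 ∧ Tables.lt x y l * qel e z b * (Tables.lt x y l)⁻¹ = qel e z (D.lact l b) := by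
      by_cases h2 : l < 2
      · rw [Tables.lact, show Nat.blt l 2 = true from Nat.ble_eq.mpr h2, cond_true]
        exact (hgen l h2).2 b i1
      · have hl2 : l - 2 < 2 := by omega
        have h' := Tables.all_lt (Tables.all_lt hinv hl2) i1
        rw [show l - 2 + 2 = l by omega] at h'
        simp only [Bool.and_eq_true] at h'
        have hc := Nat.ble_eq.mp h'.1
        refine ⟨hc, ?_⟩
        obtain ⟨-, he⟩ := (hgen (l - 2) hl2).2 _ hc
        rw [Nat.eq_of_beq_eq_true h'.2] at he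
        have e1 : Tables.lt x y l = (Tables.lt x y (l - 2))⁻¹ := by
          interval_cases l <;> rfl
        rw [e1, ← he]; group
    refine ⟨step.1, ?_⟩
    rw [lprod_cons]
    show _ = qel e z (D.lact l b)
    rw [← step.2, ← i2]; group

/-- Elements with exact action and normalised relations. -/
theorem exists_rep (h : Ext e z) (D : Tables) (hD : D.Valid) (hinv : D.checkInvAct = true)
    {MA MB : Nat} (hA : O6.isPres MA = true) (hB : O6.isPres MB = true)
    (hactA : allFrom (fun i => Nat.blt (D.actV 0 (2 * 2 ^ i)) 128 && Nat.beq (D.actV 0 (2 * 2 ^ i) / 2) (O6.lin MA (2 ^ i))) 0 6 = true)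
    (hactB : allFrom (fun i => Nat.blt (D.actV 1 (2 * 2 ^ i)) 128 && Nat.beq (D.actV 1 (2 * 2 ^ i) / 2) (O6.lin MB (2 ^ i))) 0 6 = true)
    {v0 v1 v2 v3 : Nat} (hv : v0 < 128 ∧ v1 < 128 ∧ v2 < 128 ∧ v3 < 128)
    (c0 : D.checkVal [0, 0] v0 = true) (c1 : D.checkVal [1, 1, 1] v1 = true)
    (c2 : D.checkVal [0, 1, 0, 1, 0, 1, 0, 1, 0, 1, 0, 1, 0, 1] v2 = true)
    (c3 : D.checkVal [2, 3, 0, 1, 2, 3, 0, 1, 2, 3, 0, 1, 2, 3, 0, 1] v3 = true)
    (hid : (relW.all fun w => O6.isId (w.flatMap fun l =>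
      cond (Nat.beq l 0) [MA] (cond (Nat.beq l 1) [MB] (cond (Nat.beq l 2) [MA] [MB, MB])))) = true)
    {x y : G} (hx : Acts e z x (O6.lin MA)) (hy : Acts e z y (O6.lin MB)) :
    ∃ x' y' : G, ∃ s0 s3 : Nat, s0 < 2 ∧ s3 < 2 ∧ Acts e z x' (O6.lin MA) ∧ Acts e z y' (O6.lin MB) ∧
      Tables.lprod x' y' [0, 0] = qel e z (qmul v0 s0) ∧ Tables.lprod x' y' [1, 1, 1] = qel e z v1 ∧
      Tables.lprod x' y' [0, 1, 0, 1, 0, 1, 0, 1, 0, 1, 0, 1, 0, 1] = qel e z v2 ∧
      Tables.lprod x' y' [2, 3, 0, 1, 2, 3, 0, 1, 2, 3, 0, 1, 2, 3, 0, 1] = qel e z (qmul v3 s3) ∧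
      (∀ i, i < 6 → x' * e i * x'⁻¹ = qel e z (D.actV 0 (2 * 2 ^ i))) ∧
      (∀ i, i < 6 → y' * e i * y'⁻¹ = qel e z (D.actV 1 (2 * 2 ^ i))) := by
  classical
  have code : ∀ {M : Nat} {g : Nat}, allFrom (fun i => Nat.blt (D.actV g (2 * 2 ^ i)) 128 && Nat.beq (D.actV g (2 * 2 ^ i) / 2) (O6.lin M (2 ^ i))) 0 6 = true →
      ∀ i, i < 6 → D.actV g (2 * 2 ^ i) < 128 ∧ D.actV g (2 * 2 ^ i) / 2 = O6.lin M (2 ^ i) := fun hh i hi => by
    have := Tables.all_lt hh hi
    simp only [Bool.and_eq_true] at this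
    exact ⟨Nat.ble_eq.mp this.1, Nat.eq_of_beq_eq_true this.2⟩
  obtain ⟨cx, hcx, hx1, hxe⟩ := fix_sign h hx hA (code (g := 0) hactA)
  obtain ⟨cy, hcy, hy1, hye⟩ := fix_sign h hy hB (code (g := 1) hactB)
  set x1 := x * qel e z cx
  set y1 := y * qel e z cy
  have hgen : ∀ g, g < 2 → Commute (Tables.lt x1 y1 g) z ∧ ∀ a, a < 128 →
      D.actV g a < 128 ∧ Tables.lt x1 y1 g * qel e z a * (Tables.lt x1 y1 g)⁻¹ = qel e z (D.actV g a) := by
    intro g hg
    have hcom : Commute (Tables.lt x1 y1 g) z := by interval_cases g <;> [exact hx1.mem; exact hy1.mem]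
    refine ⟨hcom, fun a ha => ?_⟩
    have hc := Tables.all_lt hD.act hg
    simp only [Tables.checkAct, Bool.and_eq_true] at hc
    have hl : ∀ a, a < 128 → D.actV g a < 128 := fun a ha => by
      have := Tables.all_lt hc.2 ha
      simp only [Bool.and_eq_true] at this
      exact Nat.ble_eq.mp this.1
    have hmul : ∀ a b, a < 128 → b < 128 → D.actV g (qmul a b) = qmul (D.actV g a) (D.actV g b) := fun a b ha hb => by
      have := Tables.all_lt hc.2 ha
      simp only [Bool.and_eq_true] at this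
      exact Nat.eq_of_beq_eq_true (Tables.all_lt this.2 hb)
    refine ⟨hl a ha, ?_⟩
    revert a
    refine Tables.qel_gens h.q ?_ ?_ (fun i hi => ?_) (fun a b ha hb h1 h2 => ?_)
    · rw [QGens.qel_zero]
      have e0 : D.actV g 0 = 0 := by
        have := hmul 0 0 (by norm_num) (by norm_num)
        rw [show qmul 0 0 = 0 from rfl] at this
        have key : ∀ a : Fin 128, (a : Nat) = qmul a a → (a : Nat) = 0 := by decide +kernel
        exact key ⟨_, hl 0 (by norm_num)⟩ this
      rw [e0, QGens.qel_zero]; group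
    · rw [Nat.eq_of_beq_eq_true hc.1, QGens.qel_one, hcom.eq, mul_inv_cancel_right]
    · rw [h.qel_gen hi]
      interval_cases g
      · exact hxe i hi
      · exact hye i hi
    · rw [hmul a b ha hb, ← h.q.qel_mul ha hb, ← h.q.qel_mul (hl a ha) (hl b hb), ← h1, ← h2]
      group
  have val : ∀ w, (∀ l ∈ w, l < 4) → ∀ v, D.checkVal w v = true →
      InQ e z (Tables.lprod x1 y1 w) → ∃ s, s < 2 ∧ Tables.lprod x1 y1 w = qel e z (qmul v s) := by
    rintro w hw v hc ⟨u, hu, he⟩
    simp only [Tables.checkVal, Bool.and_eq_true] at hc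
    have h' := Tables.all_lt hc.2 hu
    simp only [Bool.or_eq_true, Bool.not_eq_true', ← Bool.not_eq_true] at h'
    rcases h' with h' | h' | h'
    · refine absurd ((allFrom_iff _ _ _).2 fun i _ hi => ?_) h'
      have h6 : 2 * 2 ^ i < 128 := by
        have : (2 : Nat) ^ i < 64 := Nat.pow_lt_pow_right (by norm_num) (by omega : i < 6)
        omega
      obtain ⟨hlt, hact⟩ := wact_spec h D hD hinv hgen w hw _ h6
      obtain ⟨hui, hui'⟩ := h.q.qel_qinv hu
      rw [he, ← hui', h.q.qel_mul hu h6, h.q.qel_mul (Tables.qmul_lt hu h6) hui] at hact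
      rw [h.q.qel_injective (Tables.qmul_lt (Tables.qmul_lt hu h6) hui) hlt hact]
      exact Nat.beq_refl _
    · refine ⟨0, by norm_num, ?_⟩
      rw [he, Nat.eq_of_beq_eq_true h']
      have key : ∀ a : Fin 128, qmul a 0 = a := by decide +kernel
      rw [show qmul v 0 = v from key ⟨v, Nat.eq_of_beq_eq_true h' ▸ hu⟩]
    · exact ⟨1, by norm_num, by rw [he, Nat.eq_of_beq_eq_true h']⟩
  have inq : ∀ w, (∀ l ∈ w, l < 4) → (∀ v, v < 64 → O6.linW (w.flatMap fun l =>
      cond (Nat.beq l 0) [MA] (cond (Nat.beq l 1) [MB] (cond (Nat.beq l 2) [MA] [MB, MB]))) v = v) →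
      O6.isId [MA, MA] = true → O6.isId [MB, MB, MB] = true → InQ e z (Tables.lprod x1 y1 w) := by
    intro w hw hid h2 h3
    have hxi := hx1.inv (fun v _ => O6.lin_lt _ v) (fun v hv => isId_spec h2 v hv) h
    have hyi := hy1.inv (f' := fun v => O6.lin MB (O6.lin MB v)) (fun v _ => O6.lin_lt _ _) (fun v hv => isId_spec h3 v hv) h
    have key : ∀ w : List Nat, (∀ l ∈ w, l < 4) → Acts e z (Tables.lprod x1 y1 w) (O6.linW (w.flatMap fun l =>
        cond (Nat.beq l 0) [MA] (cond (Nat.beq l 1) [MB] (cond (Nat.beq l 2) [MA] [MB, MB])))) := by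
      intro w
      induction w with
      | nil => exact fun _ => Acts.one e z
      | cons l w ih =>
        intro hl
        have ih := ih fun m hm => hl m (List.mem_cons_of_mem _ hm)
        have hlt := hl l (List.mem_cons_self ..)
        rw [lprod_cons]
        interval_cases l <;> simp [Tables.lt, List.flatMap_cons]
        · exact hx1.mul ih
        · exact hy1.mul ih
        · exact hxi.mul ih
        · exact hyi.mul ih
    exact h.mem_of_id ((key w hw).congr hid)
  simp only [relW, List.all_cons, List.all_nil, Bool.and_eq_true, Bool.and_true] at hid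
  obtain ⟨i0, i1, i2, i3⟩ := hid
  have hA2 : O6.isId [MA, MA] = true := i0
  have hB3 : O6.isId [MB, MB, MB] = true := i1
  obtain ⟨s0, hs0, r0⟩ := val _ (by simp) v0 c0 (inq _ (by simp) (isId_spec i0) hA2 hB3)
  obtain ⟨s1, hs1, r1⟩ := val _ (by simp) v1 c1 (inq _ (by simp) (isId_spec i1) hA2 hB3)
  obtain ⟨s2, hs2, r2⟩ := val _ (by simp) v2 c2 (inq _ (by simp) (isId_spec i2) hA2 hB3)
  obtain ⟨s3, hs3, r3⟩ := val _ (by simp) v3 c3 (inq _ (by simp) (isId_spec i3) hA2 hB3)
  set a := (s1 + s2) % 2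
  have ha : a < 2 := Nat.mod_lt _ (by norm_num)
  have hzp : ∀ k, z ^ k = qel e z (k % 2) := fun k => by
    have h2 : z ^ 2 = 1 := by rw [pow_two, h.q.zsq]
    conv_lhs => rw [← Nat.div_add_mod k 2, pow_add, pow_mul, h2, one_pow, one_mul]
    rcases Nat.mod_two_eq_zero_or_one k with e1 | e1 <;> rw [e1]
    · rw [QGens.qel_zero, pow_zero]
    · rw [QGens.qel_one, pow_one]
  have q2 : ∀ v : Fin 128, ∀ s1 s2 : Fin 2, qmul (qmul v s1) s2 = qmul v (((s1 : Nat) + s2) % 2) ∧ qmul v 0 = v := by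
    decide +kernel
  have comb : ∀ v s k, v < 128 → s < 2 → qel e z (qmul v s) * z ^ k = qel e z (qmul v ((s + k) % 2)) := fun v s k hv hs => by
    rw [hzp, h.q.qel_mul (Tables.qmul_lt hv (by omega)) (by omega),
      (q2 ⟨v, hv⟩ ⟨s, hs⟩ ⟨k % 2, Nat.mod_lt _ (by norm_num)⟩).1]
    simp only [Nat.add_mod_mod]
  have hact : ∀ (g : G) (k i : Nat), i < 6 → Commute g z → g * z ^ k * e i * (g * z ^ k)⁻¹ = g * e i * g⁻¹ :=
    fun g k i hi hg => by
      have hc : Commute (z ^ k) (e i) := (h.com i hi).symm.pow_left k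
      calc g * z ^ k * e i * (g * z ^ k)⁻¹ = g * (z ^ k * e i * (z ^ k)⁻¹) * g⁻¹ := by group
        _ = _ := by rw [hc.eq, mul_inv_cancel_right]
  have mz : ∀ (g : G) (M : Nat) (k : Nat), Acts e z g (O6.lin M) → Acts e z (g * z ^ k) (O6.lin M) := fun g M k hg => by
    rw [hzp]
    exact (hg.mul (h.acts_qel (show k % 2 < 128 by omega))).congr fun v _ => rfl
  refine ⟨x1 * z ^ a, y1 * z ^ s1, s0, s3, hs0, hs3, mz _ _ _ hx1, mz _ _ _ hy1, ?_, ?_, ?_, ?_,
    fun i hi => by rw [hact _ _ _ hi hx1.mem, hxe i hi], fun i hi => by rw [hact _ _ _ hi hy1.mem, hye i hi]⟩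
  · rw [lprod_sign h hx1.mem hy1.mem a s1 _ (by simp), r0, comb _ _ _ hv.1 hs0]
    congr 2
    simp [List.countP_cons]
    omega
  · rw [lprod_sign h hx1.mem hy1.mem a s1 _ (by simp), r1, comb _ _ _ hv.2.1 hs1]
    conv_rhs => rw [show v1 = qmul v1 0 from ((q2 ⟨v1, hv.2.1⟩ 0 0).2).symm]
    congr 2
    simp [List.countP_cons]
    omega
  · rw [lprod_sign h hx1.mem hy1.mem a s1 _ (by simp), r2, comb _ _ _ hv.2.2.1 hs2]
    conv_rhs => rw [show v2 = qmul v2 0 from ((q2 ⟨v2, hv.2.2.1⟩ 0 0).2).symm]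
    congr 2
    simp [List.countP_cons]
    omega
  · rw [lprod_sign h hx1.mem hy1.mem a s1 _ (by simp), r3, comb _ _ _ hv.2.2.2 hs3]
    congr 2
    simp [List.countP_cons]
    omega

end Cfsg.Agent.HeRecog
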