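import Cfsg.Agent.HeFacts.Perm

/-! Equalities in the Held group read on four base points. -/

set_option autoImplicit false
set_option linter.all false

namespace Cfsg.Agent.HeRecog

open Cfsg.Agent.CosetCert

/-- Two words agree on the base points. -/
noncomputable def sameAt (v w : List Nat) : Bool :=
  v.all (fun x => Nat.blt x 7) && (w.all (fun x => Nat.blt x 7) &&
    [0, 1, 15, 34].all fun c => Nat.beq (HeSp44.data.fwd v c) (HeSp44.data.fwd w c))

theorem elem_eq {v w : List Nat} (h : sameAt v w = true) : HeFacts.elem v = HeFacts.elem w := by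
  simp only [sameAt, Bool.and_eq_true] at h
  obtain ⟨hv, hw, hpts⟩ := h
  obtain ⟨φ, hinj, hcard, hfwd, helem⟩ := HeFacts.exists_action
  have hsize : (HeOrder.levels.map Data.Level.size).prod = 4030387200 := by decide +kernel
  have hcent : HeSp44.data.CentOK [] HeOrder.levels [HeOrder.level0.size, HeOrder.level1.size,
      HeOrder.level2.size, HeOrder.level3.size] :=
    ⟨Or.inl le_rfl, Or.inl le_rfl, Or.inl le_rfl, Or.inl le_rfl, trivial⟩
  obtain ⟨-, hbase⟩ := HeFacts.he_chain φ hfwd 1 [] (fun c => by simp [Data.fwd]) HeOrder.levels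
    HeOrder.levels_ok _ hcent (by rw [hsize, hcard])
  have hbs : HeOrder.levels.map Data.Level.base = [0, 1, 15, 34] := by decide +kernel
  refine hinj ?_
  have h1 := hbase ((φ (HeFacts.elem v)) * (φ (HeFacts.elem w))⁻¹)
    (mul_mem ⟨_, rfl⟩ (inv_mem ⟨_, rfl⟩)) fun c hc => by
      rw [hbs] at hc
      have e1 := helem v (fun x hx => Nat.ble_eq.mp (List.all_eq_true.1 hv x hx)) c
      have e2 := helem w (fun x hx => Nat.ble_eq.mp (List.all_eq_true.1 hw x hx)) c
      have e : (φ (HeFacts.elem v))⁻¹ c = (φ (HeFacts.elem w))⁻¹ c :=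
        Fin.ext (e1.trans ((Nat.eq_of_beq_eq_true (List.all_eq_true.1 hpts _ hc)).trans e2.symm))
      rw [Equiv.Perm.mul_apply, ← e, Equiv.Perm.inv_def, Equiv.apply_symm_apply]
  exact mul_inv_eq_one.1 h1

theorem elem_inv {w : List Nat} (hw : (w.all fun x => Nat.blt x 7) = true) :
    (HeFacts.elem w)⁻¹ = HeFacts.elem w.reverse := by
  refine inv_eq_of_mul_eq_one_right ?_
  rw [← HeFacts.elem_append]
  have h7 : ∀ x, x < 7 → HeFacts.elem [x, x] = HeFacts.elem [] := by
    intro x hx
    have key : ∀ x : Fin 7, sameAt [(x : Nat), (x : Nat)] [] = true := by decide +kernel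
    exact elem_eq (key ⟨x, hx⟩)
  induction w with
  | nil => simp [HeFacts.elem_nil]
  | cons a w ih =>
    simp only [List.all_cons, Bool.and_eq_true] at hw
    rw [List.reverse_cons, show a :: w ++ (w.reverse ++ [a]) = [a] ++ (w ++ w.reverse) ++ [a] by simp,
      HeFacts.elem_append, HeFacts.elem_append, ih hw.2, mul_one, ← HeFacts.elem_append]
    rw [show [a] ++ [a] = [a, a] from rfl, h7 a (Nat.ble_eq.mp hw.1), HeFacts.elem_nil]

/-- Distinct first entries of a list by a mask. -/
noncomputable def maskOf (l : List Nat) : Nat := l.foldr (fun a m => Nat.lor (Nat.shiftLeft 1 a) m) 0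

theorem nodup_of_mask {l : List Nat} {n : Nat} (hl : ∀ a ∈ l, a < n)
    (h : ((Finset.range n).filter fun i => (maskOf l).testBit i = true).card = l.length) : l.Nodup := by
  have hsub : ((Finset.range n).filter fun i => (maskOf l).testBit i = true) ⊆ l.toFinset := by
    intro i hi
    rw [Finset.mem_filter] at hi
    rw [List.mem_toFinset]
    have := hi.2
    clear hi h hl
    induction l with
    | nil => simp [maskOf] at this
    | cons a l ih =>
      have e : maskOf (a :: l) = (1 <<< a) ||| maskOf l := rfl
      rw [e, Nat.testBit_or, Bool.or_eq_true, Nat.one_shiftLeft, Nat.testBit_two_pow] at this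
      rcases this with h | h
      · exact List.mem_cons.2 (Or.inl (of_decide_eq_true h).symm)
      · exact List.mem_cons_of_mem _ (ih h)
  have hle := Finset.card_le_card hsub
  rw [h] at hle
  rw [← List.dedup_eq_self]
  exact (List.dedup_sublist l).eq_of_length_le (by rwa [List.card_toFinset] at hle)

end Cfsg.Agent.HeRecog
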