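import Cfsg.Agent.HeRecog.Classify
import Cfsg.Agent.HeRecog.M8a.Recognise
import Cfsg.Agent.HeRecog.Models.M7aCls
import Cfsg.Agent.HeRecog.Models.M7bCls
import Cfsg.Agent.HeRecog.Models.M8bCls
import Cfsg.Agent.HeRecog.Small

/-! Groups of Held type of order 4030387200 are the Held group. -/

set_option autoImplicit false
set_option linter.all false

namespace Cfsg.Agent.HeRecog

open Cfsg.Agent.CosetCert

theorem M7a.block : Classes.checkBlock M7a.K M7a.D 1
    [0, 1, 2, 3, 8, 9, 10, 11, 32, 33, 34, 35, 40, 41, 42, 43] = true := by decide +kernel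

/-- Held's uniqueness. -/
theorem isoHe {G : Type*} [Group G] [Finite G] [IsSimpleGroup G] (t : G) (ht : orderOf t = 2)
    (Q : Subgroup (Subgroup.centralizer ({t} : Set G))) [Q.Normal] (hQ : Cfsg.IsExtraspecial 2 Q)
    (hcard : Nat.card Q = 2 ^ 7) (hplus : ∃ E : Subgroup Q, Cfsg.IsElementaryAbelian 2 E ∧ Nat.card E = 2 ^ 4)
    (h2c : Subgroup.centralizer (Q : Set (Subgroup.centralizer ({t} : Set G))) ≤ Q)
    (e : (Subgroup.centralizer ({t} : Set G)) ⧸ Q ≃* Matrix.SpecialLinearGroup (Fin 3) (ZMod 2))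
    (hG : Nat.card G = 4030387200) : Cfsg.Spor.IsoHe G := by
  obtain ⟨hC, hm⟩ := classify t ht Q hQ hcard hplus h2c e
  unfold IsModel at hm
  rcases hm with ⟨⟨co⟩⟩ | ⟨⟨co⟩⟩ | ⟨⟨co⟩⟩ | ⟨⟨co⟩⟩
  · exact M8a.recognise co ht hC hG
  · obtain ⟨k, hk, -⟩ := Classes.exists_fused co M8b.classes ht hC hG
    have h0 : M8b.K.allowed = [] := rfl
    rw [h0] at hk
    exact absurd hk List.not_mem_nil
  · obtain ⟨k, hk, hkc⟩ := Classes.exists_fused co M7a.classes ht hC hG
    have h0 : M7a.K.allowed = [1] := rfl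
    rw [h0, List.mem_singleton] at hk
    subst hk
    exact (Classes.block_absurd co M7a.classes ht hC hG
      (fun j hj _ => List.mem_singleton.1 (h0 ▸ hj)) hkc (by decide +kernel) M7a.block).elim
  · obtain ⟨k, hk, -⟩ := Classes.exists_fused co M7b.classes ht hC hG
    have h0 : M7b.K.allowed = [] := rfl
    rw [h0] at hk
    exact absurd hk List.not_mem_nil

end Cfsg.Agent.HeRecog
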