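import Cfsg.Agent.HeRecog.HeldSmall
import Cfsg.Agent.HeRecog.ConfigsGen
import Cfsg.Agent.HeRecog.Recognise
import Cfsg.Agent.Layer.FStar
import Cfsg.Prelude.Def_MonsterType

/-! A group of Held type with a short element in the meet of two extraspecial subgroups is the Held group. -/

set_option autoImplicit false
set_option linter.all false
set_option maxRecDepth 100000

namespace Cfsg.Agent.HeRecog

open Cfsg.Agent.CosetCert
open scoped commutatorElement

/-- Few conjugates commute with the involution when few classes are fused. -/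
theorem conj_count_le {D : Tables} {K : Classes} {G : Type*} [Group G] [Finite G] {t : G} (co : Coord D t)
    (hK : K.Valid D) (ht : orderOf t = 2) (p : Nat → Bool)
    (hp : ∀ k ∈ K.allowed, IsConj t (co.ψ (K.rep k)) → p k = true)
    {S : Set (Subgroup.centralizer ({t} : Set G))} (hS : ∀ y ∈ S, IsConj t (y : G)) :
    S.ncard ≤ (K.tab.filter fun e => p e.2.1).length + 1 := by
  classical
  set L := (K.tab.filter fun e => p e.2.1).map (fun e => co.ψ e.1) with hL
  rw [← Set.ncard_image_of_injective S Subtype.val_injective]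
  refine le_trans (Set.ncard_le_ncard (t := insert t (↑L.toFinset : Set G)) ?_ (Set.toFinite _)) ?_
  · rintro _ ⟨y, hy, rfl⟩
    obtain ⟨c, hc, hce⟩ := co.surj (y : G) (Subgroup.mem_centralizer_singleton_iff.1 y.2)
    by_cases h1 : c = 1
    · left; rw [← hce, h1, co.one]
    right
    obtain ⟨k, e, hm, hk, hconj⟩ := Classes.fused_class co hK ht hc h1 (hce ▸ hS y hy)
    rw [Finset.mem_coe, List.mem_toFinset]
    exact List.mem_map.2 ⟨_, List.mem_filter.2 ⟨hm, hp k hk hconj⟩, hce⟩
  · refine le_trans (Set.ncard_insert_le _ _) (Nat.succ_le_succ ?_)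
    rw [Set.ncard_coe_finset]
    exact le_trans (List.toFinset_card_le L) (le_of_eq (by rw [hL, List.length_map]))

theorem few7a : (M7a.K.tab.filter fun e => M7a.K.allowed.contains e.2.1).length + 1 < 29 := by decide +kernel

theorem few7b : (M7b.K.tab.filter fun e => M7b.K.allowed.contains e.2.1).length + 1 < 29 := by decide +kernel

theorem few8b : (M8b.K.tab.filter fun e => M8b.K.allowed.contains e.2.1).length + 1 < 29 := by decide +kernel

theorem few8a : allFrom (fun r => !([0, 1, 2].contains r) ||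
    Nat.blt ((M8a.K.tab.filter fun e => M8a.K.allowed.contains e.2.1 && inF M8a.K.allowed r e.2.1).length + 1) 29)
      0 32 = true := by decide +kernel

/-- The short element excludes the small configurations. -/
theorem isoHe_of_held {G : Type*} [Group G] [Finite G] (t : G)
    (R : Subgroup (Subgroup.centralizer ({t} : Set G))) [R.Normal]
    (hset : Cfsg.IsExtraspecialCentralizerSetting t R 3)
    (hiso : Nonempty ((Subgroup.centralizer ({t} : Set G)) ⧸ R ≃* Matrix.SpecialLinearGroup (Fin 3) (ZMod 2)))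
    (h29 : Set.ncard {y : Subgroup.centralizer ({t} : Set G) | y ∈ R ∧ IsConj t (y : G)} = 29)
    (hplus : ∃ E : Subgroup R, Cfsg.IsElementaryAbelian 2 E ∧ Nat.card E = 2 ^ 4)
    (hwit : ∀ w : Subgroup.centralizer ({t} : Set G), w ∈ R → IsConj t (w : G) → (w : G) ≠ t →
      ∃ (g : G) (q : Subgroup.centralizer ({t} : Set G)), g * t * g⁻¹ = w ∧ q ∈ R ∧ (q : G) * q = 1 ∧ (q : G) ≠ 1 ∧
        Commute (q : G) w ∧ ¬ IsConj t (q : G) ∧
        ∃ hq : g⁻¹ * q * g ∈ Subgroup.centralizer ({t} : Set G),
          (⟨_, hq⟩ : Subgroup.centralizer ({t} : Set G)) ∈ R) : Cfsg.Spor.IsoHe G := by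
  obtain ⟨ht, hF, hExt, hcard, g0, ⟨hg0, hg0R⟩, hg0ne⟩ := hset
  obtain ⟨ε⟩ := hiso
  have hcard7 : Nat.card R = 2 ^ 7 := hcard
  have h2c : Subgroup.centralizer (R : Set (Subgroup.centralizer ({t} : Set G))) ≤ R := by
    have := Layer.centralizer_generalizedFitting_le (G := Subgroup.centralizer ({t} : Set G))
    rwa [hF] at this
  set tC : Subgroup.centralizer ({t} : Set G) := ⟨t, Subgroup.mem_centralizer_singleton_iff.2 rfl⟩ with htC
  have htR : tC ∈ R := h2c (Subgroup.mem_centralizer_iff.2 fun g _ =>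
    Subtype.ext (Subgroup.mem_centralizer_singleton_iff.1 g.2))
  have hcen : ∀ c : R, c ∈ Subgroup.center R → c = 1 ∨ c = ⟨tC, htR⟩ := by
    intro c hc
    obtain ⟨a, b, hab, hu⟩ := Nat.card_eq_two_iff.1 hExt.2
    have h1 : (1 : Subgroup.center R) ∈ ({a, b} : Set (Subgroup.center R)) := hu ▸ Set.mem_univ _
    have htc : (⟨tC, htR⟩ : R) ∈ Subgroup.center R := Subgroup.mem_center_iff.2 fun y => Subtype.ext (Subtype.ext
      (Subgroup.mem_centralizer_singleton_iff.1 (y : Subgroup.centralizer ({t} : Set G)).2))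
    have h2 : (⟨_, htc⟩ : Subgroup.center R) ∈ ({a, b} : Set (Subgroup.center R)) := hu ▸ Set.mem_univ _
    have h3 : (⟨c, hc⟩ : Subgroup.center R) ∈ ({a, b} : Set (Subgroup.center R)) := hu ▸ Set.mem_univ _
    have hne : (1 : Subgroup.center R) ≠ ⟨_, htc⟩ := fun h => by
      have h' : (1 : G) = t :=
        congrArg (fun y : Subgroup.center R => (((y : R) : Subgroup.centralizer ({t} : Set G)) : G)) h
      rw [← h', orderOf_one] at ht
      omega
    simp only [Set.mem_insert_iff, Set.mem_singleton_iff] at h1 h2 h3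
    rcases h3 with h3 | h3 <;> rcases h1 with h1 | h1 <;> rcases h2 with h2 | h2
    all_goals first
      | exact absurd (h1.trans h2.symm) hne
      | exact Or.inl (congrArg Subtype.val (h3.trans h1.symm))
      | exact Or.inr (congrArg Subtype.val (h3.trans h2.symm))
  have hR : ∀ a ∈ R, ∀ b ∈ R, (a : G) * b = b * a ∨ (a : G) * b = t * (b * a) := by
    intro a ha b hb
    have hm : ⁅(⟨a, ha⟩ : R), (⟨b, hb⟩ : R)⁆ ∈ Subgroup.center R := by
      rw [← hExt.1.2.2]
      exact Subgroup.commutator_mem_commutator (Subgroup.mem_top _) (Subgroup.mem_top _)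
    rcases hcen _ hm with h | h <;>
      have h' : (a : G) * b * (a : G)⁻¹ * (b : G)⁻¹ = _ :=
        congrArg (fun y : R => ((y : Subgroup.centralizer ({t} : Set G)) : G)) h
    · left
      rw [show (a : G) * b = ((a : G) * b * (a : G)⁻¹ * (b : G)⁻¹) * (b * a) by group, h']
      exact one_mul _
    · right
      rw [show (a : G) * b = ((a : G) * b * (a : G)⁻¹ * (b : G)⁻¹) * (b * a) by group, h']
  obtain ⟨hC, hm⟩ := classify t ht R hExt hcard7 hplus h2c ε
  have hS : ∀ y ∈ {y : Subgroup.centralizer ({t} : Set G) | y ∈ R ∧ IsConj t (y : G)}, IsConj t (y : G) :=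
    fun y hy => hy.2
  unfold IsModel at hm
  rcases hm with ⟨⟨co⟩⟩ | ⟨⟨co⟩⟩ | ⟨⟨co⟩⟩ | ⟨⟨co⟩⟩
  · obtain ⟨r, hr⟩ := exists_fusedSet (P := M8a.P) M8a.classes co ht (by decide +kernel) (by decide +kernel)
    have h := Tables.all_lt M8a.options_list (hr.bound : r < 32)
    simp only [Bool.or_eq_true, not_varies M8a.classes M8a.pair_valid ht hC hr (Or.inl rfl : M8a.EA = M8a.P.X ∨ M8a.EA = M8a.P.Y),
      not_varies M8a.classes M8a.pair_valid ht hC hr (Or.inr rfl : M8a.EB = M8a.P.X ∨ M8a.EB = M8a.P.Y),
      Bool.false_eq_true, or_false, List.contains_iff_mem] at h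
    simp only [List.mem_cons, List.not_mem_nil, or_false] at h
    have hlow : r = 0 ∨ r = 1 ∨ r = 2 → False := fun hr3 => by
      have hb := Tables.all_lt few8a (hr.bound : r < 32)
      have hmem : ([0, 1, 2] : List Nat).contains r = true := by rcases hr3 with rfl | rfl | rfl <;> rfl
      simp only [hmem, Bool.not_true, Bool.false_or] at hb
      have := conj_count_le co M8a.classes ht
        (fun k => M8a.K.allowed.contains k && inF M8a.K.allowed r k) (fun k hk hc => by
          have key : ∀ i ∈ M8a.K.allowed, i < M8a.K.reps.length := by decide +kernel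
          simp only [Bool.and_eq_true, List.contains_iff_mem]
          exact ⟨hk, (hr.iff k (key k hk)).2 hc⟩) hS
      have hb := Nat.ble_eq.mp hb
      omega
    rcases h with rfl | rfl | rfl | rfl | rfl | rfl | rfl
    · exact (hlow (Or.inl rfl)).elim
    · exact (hlow (Or.inr (Or.inl rfl))).elim
    · exact (hlow (Or.inr (Or.inr rfl))).elim
    · exact (M8a.small_absurd ht M8a.EA_valid M8a.UAsmall_valid
        (fused_of_mask M8a.classes M8a.pair_valid ht hC hr (Or.inl rfl) M8a.mask7.1) hr M8a.small7 R hcard7 hR hwit).elim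
    · exact (M8a.small_absurd ht M8a.EB_valid M8a.UBsmall_valid
        (fused_of_mask M8a.classes M8a.pair_valid ht hC hr (Or.inr rfl) M8a.mask15.2) hr M8a.small15 R hcard7 hR hwit).elim
    · exact (M8a.small_absurd ht M8a.EA_valid M8a.UAsmall_valid
        (fused_of_mask M8a.classes M8a.pair_valid ht hC hr (Or.inl rfl) M8a.mask23.1) hr M8a.small23 R hcard7 hR hwit).elim
    · obtain ⟨x, y, m, l, h'⟩ := M8a.live_BB
        (fused_of_mask M8a.classes M8a.pair_valid ht hC hr (Or.inl rfl) M8a.mask31.1)
        (fused_of_mask M8a.classes M8a.pair_valid ht hC hr (Or.inr rfl) M8a.mask31.2)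
      have hfus : IsConj t (co.ψ 14) := (hr.iff 2 (by decide)).1 (by decide)
      exact HeData.identify_top_of_ker h' M8a.BB47.RS_ok M8a.BB47Idx.log_valid rfl M8a.BB47Idx.fits
        M8a.BB47.same_ok M8a.BB47.SS_ok M8a.BB47.count_ok M8a.BB47.img_ok M8a.BB47.rels_ok M8a.BB47.onto_ok
        M8a.BB47.U_ok M8a.BB47.conj_ok M8a.BB47.pre_ok hC (M8a.top31 ht hC hr h')
        fun q _ hq => M8a.ker_eq_bot ht h' hfus q hq
  · have := conj_count_le co M8b.classes ht (fun k => M8b.K.allowed.contains k)
      (fun k hk _ => List.contains_iff_mem.2 hk) hS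
    have := few8b
    omega
  · have := conj_count_le co M7a.classes ht (fun k => M7a.K.allowed.contains k)
      (fun k hk _ => List.contains_iff_mem.2 hk) hS
    have := few7a
    omega
  · have := conj_count_le co M7b.classes ht (fun k => M7b.K.allowed.contains k)
      (fun k hk _ => List.contains_iff_mem.2 hk) hS
    have := few7b
    omega

end Cfsg.Agent.HeRecog
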