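import Cfsg.Agent.HeRecog.M8a.Configs

/-! In a small configuration, two conjugate central involutions share only conjugates of themselves
in the meet of their extraspecial subgroups. -/

set_option autoImplicit false
set_option linter.all false
set_option maxRecDepth 100000

namespace Cfsg.Agent.HeRecog.M8a

open Cfsg.Agent.CosetCert Cfsg.Agent.Compute

/-- A map of the first subgroup moving the involution. -/
noncomputable def fA : Nat → Nat := getField 8
  0xd0b3d3b3c3a0c0a05033533343204021a1c2a2c2b2d1b1d1214222423251315181e282e292f191f10162026212711170f093f393e380e080701373136300600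

/-- A map of the second subgroup moving the involution. -/
noncomputable def fB : Nat → Nat := getField 8
  0x10143337181c3b3f191d3a3e11153236383c1b1f3034131731351216393d1a1e0e0a2d2906022521070324200f0b2c28262205012e2a0d092f2b0c0827230400

/-- The map preserves the marked vectors. -/
noncomputable def checkPres (U : AutData) (f : Nat → Nat) : Bool :=
  allFrom (fun v => Nat.blt (f v) 64 && ((Nat.testBit U.O (f v) == Nat.testBit U.O v) &&
    allFrom (fun w => Nat.beq (f (Nat.xor v w)) (Nat.xor (f v) (f w))) 0 64)) 0 64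

/-- A code of the extraspecial subgroup, not fused, moves outside it. -/
noncomputable def checkQ (X : EData) (f : Nat → Nat) (r wc : Nat) (cs : List Nat) (q : Nat) : Bool :=
  !Nat.beq (D.mul q q) 0 || (!Nat.beq (D.mul q wc) (D.mul wc q) ||
    ((K.tab.any fun e => Nat.beq e.1 q && inF K.allowed r e.2.1) ||
      cs.any fun c => Nat.blt c 21504 && (Nat.beq (D.mul c wc) (D.mul wc c) &&
        !allFrom (fun v => !(Nat.beq (P.cj D c q) (X.el (f v)) && Nat.ble 128 (X.el v))) 0 64)))

/-- All checks for one side. -/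
noncomputable def checkSmall (X : EData) (U : AutData) (f : Nat → Nat) (r wc vw : Nat) (cs : List Nat) : Bool :=
  checkPres U f && (Nat.beq (f 1) vw && (Nat.blt vw 64 && (Nat.beq (X.el vw) wc && (Nat.blt wc 128 && (Nat.blt 1 wc &&
    (Nat.testBit U.O vw && (Nat.testBit U.O 1 && allFrom (checkQ X f r wc cs) 2 126)))))))

/-- A code outside the subgroup has a conjugate not commuting with it up to the centre. -/
noncomputable def checkOut (c : Nat) : Bool :=
  Nat.blt c 128 || [128, 512].any fun g =>
    !Nat.beq (D.mul c (P.cj D g c)) (D.mul (P.cj D g c) c) &&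
      !Nat.beq (D.mul c (P.cj D g c)) (D.mul 1 (D.mul (P.cj D g c) c))

theorem out_ok : allFrom checkOut 0 21504 = true := by decide +kernel

theorem small7 : checkSmall EA UAsmall fA 7 14 6 [0, 8720, 11280] = true := by decide +kernel

theorem small23 : checkSmall EA UAsmall fA 23 14 6 [0, 8720, 11280] = true := by decide +kernel

theorem small15 : checkSmall EB UBsmall fB 15 40 4 [0, 3712, 5120] = true := by decide +kernel

variable {G : Type*} [Group G] [Finite G] {t : G} {co : Coord D t}

/-- A normal subgroup of order 128 with commutators in the centre is the coded one. -/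
theorem code_of_mem (R : Subgroup (Subgroup.centralizer ({t} : Set G))) [R.Normal]
    (hR : ∀ a ∈ R, ∀ b ∈ R, (a : G) * b = b * a ∨ (a : G) * b = t * (b * a)) {a : Subgroup.centralizer ({t} : Set G)}
    (ha : a ∈ R) : ∃ c, c < 128 ∧ co.ψ c = a := by
  obtain ⟨c, hc, hca⟩ := co.surj a (Subgroup.mem_centralizer_singleton_iff.1 a.2)
  refine ⟨c, ?_, hca⟩
  have h := Tables.all_lt out_ok hc
  simp only [checkOut, Bool.or_eq_true, List.any_eq_true, Bool.and_eq_true, Bool.not_eq_true',
    ← Bool.not_eq_true] at h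
  rcases h with h | ⟨g, hg, h1, h2⟩
  · exact Nat.ble_eq.mp h
  exfalso
  have hg' : g < 21504 := by
    simp only [List.mem_cons, List.not_mem_nil, or_false] at hg
    omega
  obtain ⟨hl, he⟩ := PairData.cj_spec pair_valid co hg' hc
  have hb := (inferInstance : R.Normal).conj_mem a ha
    ⟨co.ψ g, Subgroup.mem_centralizer_singleton_iff.2 (co.mem g hg').eq⟩
  have key := hR a ha _ hb
  simp only [Subgroup.coe_mul, Subgroup.coe_inv, ← hca, ← he] at key
  have l1 := co.lt _ _ hc hl
  have l2 := co.lt _ _ hl hc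
  rw [← co.mul _ _ hc hl, ← co.mul _ _ hl hc] at key
  rcases key with key | key
  · exact h1 (by rw [co.inj _ _ l1 l2 key]; exact Nat.beq_refl _)
  · exact h2 (by
      rw [co.inj _ (D.mul 1 (D.mul (P.cj D g c) c)) l1 (co.lt 1 _ (by norm_num) l2)
        (key.trans (by rw [co.mul 1 _ (by norm_num) l2, co.one]))]
      exact Nat.beq_refl _)

/-- The coded subgroup is the given one. -/
theorem mem_of_code (R : Subgroup (Subgroup.centralizer ({t} : Set G))) [R.Normal] (hcard : Nat.card R = 128)
    (hR : ∀ a ∈ R, ∀ b ∈ R, (a : G) * b = b * a ∨ (a : G) * b = t * (b * a)) {c : Nat} (hc : c < 128) :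
    ∃ a ∈ R, (a : G) = co.ψ c := by
  classical
  have hc' : ∀ a : R, ∃ c, c < 128 ∧ co.ψ c = ((a : Subgroup.centralizer ({t} : Set G)) : G) :=
    fun a => code_of_mem R hR a.2
  choose F hF hF' using hc'
  have hinj : Function.Injective fun a : R => (⟨F a, hF a⟩ : Fin 128) := fun a b h => by
    have e := congrArg (fun i : Fin 128 => co.ψ i) h
    simp only [hF'] at e
    exact Subtype.ext (Subtype.ext e)
  have hsurj := ((Nat.bijective_iff_injective_and_card _).2 ⟨hinj, by rw [hcard, Nat.card_fin]⟩).2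
  obtain ⟨a, ha⟩ := hsurj ⟨c, hc⟩
  exact ⟨a, a.2, by rw [← hF' a]; exact congrArg (fun i : Fin 128 => co.ψ i) ha⟩

/-- No short element in a small configuration. -/
theorem small_absurd {X : EData} {U : AutData} {f : Nat → Nat} {r wc vw : Nat} {cs : List Nat}
    (ht : orderOf t = 2) (hX : X.Valid D K) (hU : U.Valid X P D) (hF : Fused U X co)
    (hr : FusedSet P K co r) (h : checkSmall X U f r wc vw cs = true)
    (R : Subgroup (Subgroup.centralizer ({t} : Set G))) [R.Normal] (hcard : Nat.card R = 128)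
    (hR : ∀ a ∈ R, ∀ b ∈ R, (a : G) * b = b * a ∨ (a : G) * b = t * (b * a))
    (hwit : ∀ w : Subgroup.centralizer ({t} : Set G), w ∈ R → IsConj t (w : G) → (w : G) ≠ t →
      ∃ (g : G) (q : Subgroup.centralizer ({t} : Set G)), g * t * g⁻¹ = w ∧ q ∈ R ∧ (q : G) * q = 1 ∧ (q : G) ≠ 1 ∧
        Commute (q : G) w ∧ ¬ IsConj t (q : G) ∧
        ∃ hq : g⁻¹ * q * g ∈ Subgroup.centralizer ({t} : Set G),
          (⟨_, hq⟩ : Subgroup.centralizer ({t} : Set G)) ∈ R) : False := by
  simp only [checkSmall, Bool.and_eq_true] at h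
  obtain ⟨hp, hf1, hvw, hwc, hwl, hw1, hOw, hO1, hall⟩ := h
  have hw1 := Nat.ble_eq.mp hw1
  have hf1 := Nat.eq_of_beq_eq_true hf1
  have hwc := Nat.eq_of_beq_eq_true hwc
  have hvw := Nat.ble_eq.mp hvw
  have hwl := Nat.ble_eq.mp hwl
  have hpres : U.Pres f :=
    { lt := fun v hv => by
        have := Tables.all_lt hp hv
        simp only [Bool.and_eq_true] at this
        exact Nat.ble_eq.mp this.1
      add := fun a b ha hb => by
        have := Tables.all_lt hp ha
        simp only [Bool.and_eq_true] at this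
        exact Nat.eq_of_beq_eq_true (Tables.all_lt this.2.2 hb)
      O := fun v hv => by
        have := Tables.all_lt hp hv
        simp only [Bool.and_eq_true] at this
        exact eq_of_beq this.2.1 }
  obtain ⟨n, hn⟩ := Fused.induce hF hX pair_valid hU hpres hO1
  have hnw : n * t * n⁻¹ = co.ψ wc := by
    have := (hn 1 (by norm_num)).2
    rw [EData.E_one co hX, hf1] at this
    rw [this, EData.E, hwc]
  obtain ⟨w, hwR, hwG⟩ := mem_of_code (co := co) R hcard hR hwl
  have hwt : (w : G) ≠ t := fun e => by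
    rw [hwG] at e
    have e1 := co.inj _ _ (by omega) (by norm_num) (e.trans co.one.symm)
    omega
  obtain ⟨g, q, hgw, hqR, hqq, hq1, hqw, hqf, hq', hqR'⟩ := hwit w hwR (isConj_iff.2 ⟨n, by rw [hnw, hwG]⟩) hwt
  obtain ⟨c, hc, hcq⟩ := code_of_mem (co := co) R hR hqR
  rw [← hcq] at hqq hq1 hqw hqf
  rw [hwG] at hgw hqw
  have hc0 : 2 ≤ c := by
    by_contra hlt
    rcases (by omega : c = 0 ∨ c = 1) with rfl | rfl
    · exact hq1 co.zero
    · exact hqf (by rw [co.one])
  have hch := (allFrom_iff _ _ _).1 hall c hc0 (by omega)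
  simp only [checkQ, Bool.or_eq_true, List.any_eq_true, Bool.and_eq_true, Bool.not_eq_true',
    ← Bool.not_eq_true] at hch
  have hc21 : c < 21504 := by omega
  rcases hch with hch | hch | ⟨⟨c', k, e⟩, hm, hck, hk⟩ | ⟨d, -, hd, hdw, hev⟩
  · exact hch (by rw [co.inj _ 0 (co.lt c c hc21 hc21) (by norm_num) (by rw [co.mul c c hc21 hc21, co.zero]; exact hqq)]; rfl)
  · refine hch ?_
    rw [co.inj (D.mul c wc) (D.mul wc c) (co.lt c wc hc21 (by omega)) (co.lt wc c (by omega) hc21)
      (by rw [co.mul c wc hc21 (by omega), co.mul wc c (by omega) hc21]; exact hqw.eq)]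
    exact Nat.beq_refl _
  · refine hqf ?_
    have hcc := Nat.eq_of_beq_eq_true hck
    subst hcc
    have he := List.all_eq_true.1 classes.entries _ hm
    simp only [Classes.checkEntry, Bool.and_eq_true] at he
    obtain ⟨-, he2, hk', heq⟩ := he
    have hk' := Nat.ble_eq.mp hk'
    have he2 := Nat.ble_eq.mp he2
    have hrep := Tables.all_lt classes.count hk'
    simp only [Classes.checkCount, Bool.and_eq_true] at hrep
    have hrep := Nat.ble_eq.mp hrep.1
    exact ((hr.iff k hk').1 hk).trans (isConj_iff.2 ⟨co.ψ e, by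
      rw [mul_inv_eq_iff_eq_mul, ← co.mul _ _ he2 hrep, ← co.mul _ _ hc21 he2, Nat.eq_of_beq_eq_true heq]⟩)
  · have hd := Nat.ble_eq.mp hd
    refine hev ((allFrom_iff _ _ _).2 fun v _ hv => ?_)
    simp only [Bool.not_eq_true', ← Bool.not_eq_true, Bool.and_eq_true]
    rintro ⟨hcv, hout⟩
    have hv : v < 64 := by omega
    have hout := Nat.ble_eq.mp hout
    obtain ⟨hl, hde⟩ := PairData.cj_spec pair_valid co hd hc21
    have hfv : co.ψ d * co.ψ c * (co.ψ d)⁻¹ = n * X.E co v * n⁻¹ := by
      rw [(hn v hv).2, EData.E, ← Nat.eq_of_beq_eq_true hcv, hde]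
    have hdcomm : co.ψ d * co.ψ wc = co.ψ wc * co.ψ d := by
      rw [← co.mul _ _ hd (by omega), ← co.mul _ _ (by omega) hd, Nat.eq_of_beq_eq_true hdw]
    set k : G := n⁻¹ * co.ψ d * g with hkdef
    have hk : k ∈ Subgroup.centralizer ({t} : Set G) := by
      refine Subgroup.mem_centralizer_singleton_iff.2 ?_
      calc k * t = n⁻¹ * co.ψ d * (g * t * g⁻¹) * g := by rw [hkdef]; group
        _ = n⁻¹ * (co.ψ d * co.ψ wc) * g := by rw [hgw]; group
        _ = n⁻¹ * (co.ψ wc * co.ψ d) * g := by rw [hdcomm]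
        _ = n⁻¹ * (n * t * n⁻¹) * co.ψ d * g := by rw [hnw]; group
        _ = t * k := by rw [hkdef]; group
    have hmem := (inferInstance : R.Normal).conj_mem _ hqR' ⟨k, hk⟩
    obtain ⟨u, hu, huv⟩ := code_of_mem (co := co) R hR hmem
    simp only [Subgroup.coe_mul, Subgroup.coe_inv] at huv
    have hEv : X.E co v = co.ψ u := by
      rw [huv, ← hcq, hkdef, show X.E co v = n⁻¹ * (n * X.E co v * n⁻¹) * n by group, ← hfv]
      group
    have := co.inj _ _ (EData.el_lt hX hv) (by omega) hEv
    omega

end Cfsg.Agent.HeRecog.M8a
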