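import Cfsg.Agent.HeRecog.Norm

/-! Words in the normalizer of a cube root of one, complements, and elements moving the other subgroup. -/

set_option autoImplicit false
set_option linter.all false

namespace Cfsg.Agent.HeRecog

open Cfsg.Agent.CosetCert

/-- Evaluate a word in a group. -/
def wev {G : Type*} [Monoid G] (f : Nat → G) (w : List Nat) : G := (w.map f).prod

/-- Evaluate a word in the model. -/
noncomputable def cev (D : Tables) (g : Nat → Nat) (w : List Nat) : Nat :=
  List.rec 0 (fun l _ ih => D.mul (g l) ih) w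

/-- Evaluate a word as maps on the vectors. -/
noncomputable def mev (mat : Nat → Nat → Nat) (w : List Nat) (v : Nat) : Nat :=
  List.rec v (fun l _ ih => mat l ih) w

theorem cev_spec {D : Tables} {G : Type*} [Group G] {t : G} (co : Coord D t) {g : Nat → Nat} :
    ∀ {w : List Nat}, (∀ l ∈ w, g l < 21504) → cev D g w < 21504 ∧ co.ψ (cev D g w) = wev (fun l => co.ψ (g l)) w := by
  intro w
  induction w with
  | nil => exact fun _ => ⟨show (0 : Nat) < 21504 by norm_num, co.zero⟩
  | cons a w ih =>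
    intro h
    obtain ⟨h1, h2⟩ := ih fun l hl => h l (List.mem_cons_of_mem _ hl)
    have ha := h a (List.mem_cons_self ..)
    refine ⟨co.lt _ _ ha h1, ?_⟩
    show co.ψ (D.mul (g a) (cev D g w)) = _
    rw [co.mul _ _ ha h1, h2]
    rfl

theorem wev_append {G : Type*} [Monoid G] (f : Nat → G) (u v : List Nat) :
    wev f (u ++ v) = wev f u * wev f v := by simp [wev]

/-- A subgroup with an action, the four complements, and the letters of the local group. -/
structure Side where
  X : EData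
  U : AutData
  /-- codes of the complement generators -/
  a : Nat
  b : Nat
  /-- the maps of the six letters `a, b, h, a⁻¹, b⁻¹, h⁻¹` -/
  mat : Nat → Nat → Nat

namespace Side

variable (S : Side) (P : PairData) (D : Tables)

/-- The codes of the four letters lying in the centraliser. -/
noncomputable def kcode (l : Nat) : Nat :=
  cond (Nat.beq l 0) S.a (cond (Nat.beq l 1) S.b (cond (Nat.beq l 3) (P.inv S.a) (P.inv S.b)))

/-- A word in the complement. -/
noncomputable def kword (w : List Nat) : Bool :=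
  w.all fun l => Nat.beq l 0 || Nat.beq l 1 || Nat.beq l 3 || Nat.beq l 4

/-- The generators induce their maps, the inverse letters undo them, and the cube root is normalised. -/
noncomputable def checkMat (v : Nat) : Bool :=
  allFrom (fun l => Nat.blt (S.mat l v) 64 && Nat.beq (S.mat ((l + 3) % 6) (S.mat l v)) v &&
      (Nat.testBit S.U.O (S.mat l v) == Nat.testBit S.U.O v) &&
      allFrom (fun w => Nat.beq (S.mat l (Nat.xor v w)) (Nat.xor (S.mat l v) (S.mat l w))) 0 64) 0 6 &&
    (Nat.beq (P.cj D S.a (S.X.el v)) (S.X.el (S.mat 0 v)) &&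
      Nat.beq (P.cj D S.b (S.X.el v)) (S.X.el (S.mat 1 v)))

/-- The checked data of the letters. -/
structure Valid (K : Classes) : Prop where
  lt : S.a < 21504 ∧ S.b < 21504
  mat : allFrom (S.checkMat P D) 0 64 = true
  norm : allFrom (fun l =>
    (allFrom (fun v => Nat.beq (S.mat l (S.U.cc v)) (S.U.cc (S.mat l v))) 0 64) ||
    (allFrom (fun v => Nat.beq (S.mat l (S.U.cc v)) (S.U.cc (S.U.cc (S.mat l v)))) 0 64)) 0 3 = true

end Side

/-- The values of the letters of a side. -/
structure Frame (S : Side) {D : Tables} {G : Type*} [Group G] {t : G} (co : Coord D t) (x : G) : Prop where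
  x_ind : S.X.Induces co x S.U.cc
  x3 : x ^ 3 = 1
  a_L : InL x (co.ψ S.a)
  b_L : InL x (co.ψ S.b)

namespace Side

variable {S : Side} {P : PairData} {D : Tables} {K : Classes} {G : Type*} [Group G] {t : G} {co : Coord D t}
  {x m : G}

/-- The values of the six letters. -/
noncomputable def val (S : Side) (co : Coord D t) (m : G) (l : Nat) : G :=
  if l = 0 then co.ψ S.a else if l = 1 then co.ψ S.b else if l = 2 then m else if l = 3 then (co.ψ S.a)⁻¹
  else if l = 4 then (co.ψ S.b)⁻¹ else m⁻¹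

theorem mat_spec (hS : S.Valid P D K) {l v : Nat} (hl : l < 6) (hv : v < 64) :
    S.mat l v < 64 ∧ S.mat ((l + 3) % 6) (S.mat l v) = v ∧
      Nat.testBit S.U.O (S.mat l v) = Nat.testBit S.U.O v ∧
      ∀ w, w < 64 → S.mat l (v ^^^ w) = S.mat l v ^^^ S.mat l w := by
  have h := Tables.all_lt hS.mat hv
  simp only [checkMat, Bool.and_eq_true] at h
  have h := Tables.all_lt h.1 hl
  simp only [Bool.and_eq_true] at h
  exact ⟨Nat.ble_eq.mp h.1.1.1, Nat.eq_of_beq_eq_true h.1.1.2, eq_of_beq h.1.2,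
    fun w hw => Nat.eq_of_beq_eq_true (Tables.all_lt h.2 hw)⟩

theorem pres (hS : S.Valid P D K) {l : Nat} (hl : l < 6) : S.U.Pres (S.mat l) :=
  { lt := fun v hv => (mat_spec hS hl hv).1
    add := fun a b ha hb => (mat_spec hS hl ha).2.2.2 b hb
    O := fun v hv => (mat_spec hS hl hv).2.2.1 }

theorem induces_ab (hS : S.Valid P D K) (hP : P.Valid D K) (hX : S.X.Valid D K) :
    S.X.Induces co (co.ψ S.a) (S.mat 0) ∧ S.X.Induces co (co.ψ S.b) (S.mat 1) := by
  constructor <;> intro v hv <;> refine ⟨(mat_spec hS (by norm_num) hv).1, ?_⟩ <;>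
    have h := Tables.all_lt hS.mat hv <;> simp only [checkMat, Bool.and_eq_true] at h
  · rw [EData.E, ← (PairData.cj_spec hP co hS.lt.1 (EData.el_lt hX hv)).2, Nat.eq_of_beq_eq_true h.2.1]; rfl
  · rw [EData.E, ← (PairData.cj_spec hP co hS.lt.2 (EData.el_lt hX hv)).2, Nat.eq_of_beq_eq_true h.2.2]; rfl

theorem induces_inv' (hS : S.Valid P D K) {g : G} {l : Nat} (hl : l < 6)
    (h : S.X.Induces co g (S.mat l)) : S.X.Induces co g⁻¹ (S.mat ((l + 3) % 6)) := fun v hv => by
  have hl' : (l + 3) % 6 < 6 := Nat.mod_lt _ (by norm_num)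
  obtain ⟨h1, h2, -, -⟩ := mat_spec hS hl' hv
  refine ⟨h1, ?_⟩
  have h3 := (h _ h1).2
  rw [show ((l + 3) % 6 + 3) % 6 = l by omega] at h2
  rw [h2] at h3
  rw [← h3]; group

/-- The six letters act as given and lie in `L`. -/
theorem val_spec (hS : S.Valid P D K) (hP : P.Valid D K) (hX : S.X.Valid D K) (hF : Frame S co x)
    (hm : S.X.Induces co m (S.mat 2) ∧ InL x m) {l : Nat} (hl : l < 6) :
    S.X.Induces co (S.val co m l) (S.mat l) ∧ InL x (S.val co m l) := by
  obtain ⟨ha, hb⟩ := induces_ab hS hP hX (co := co)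
  interval_cases l <;> simp only [val]
  · exact ⟨ha, hF.a_L⟩
  · exact ⟨hb, hF.b_L⟩
  · exact hm
  · exact ⟨induces_inv' hS (l := 0) (by norm_num) ha, hF.a_L.inv⟩
  · exact ⟨induces_inv' hS (l := 1) (by norm_num) hb, hF.b_L.inv⟩
  · exact ⟨induces_inv' hS (l := 2) (by norm_num) hm.1, hm.2.inv⟩

theorem word_spec (hS : S.Valid P D K) (hP : P.Valid D K) (hX : S.X.Valid D K) (hF : Frame S co x)
    (hm : S.X.Induces co m (S.mat 2) ∧ InL x m) : ∀ {w : List Nat}, (∀ l ∈ w, l < 6) →
    S.X.Induces co (wev (S.val co m) w) (mev S.mat w) ∧ InL x (wev (S.val co m) w) := by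
  intro w
  induction w with
  | nil => exact fun _ => ⟨EData.Induces.one, InL.one x⟩
  | cons a w ih =>
    intro h
    obtain ⟨h1, h2⟩ := ih fun l hl => h l (List.mem_cons_of_mem _ hl)
    obtain ⟨h3, h4⟩ := val_spec hS hP hX hF hm (h a (List.mem_cons_self ..))
    exact ⟨h3.mul h1, h4.mul h2⟩

theorem kword_lt {w : List Nat} (hw : kword w = true) : ∀ l ∈ w, l < 6 := fun l hl => by
  have h := List.all_eq_true.1 hw l hl
  simp only [Bool.or_eq_true] at h
  rcases h with ((h | h) | h) | h <;> rw [Nat.eq_of_beq_eq_true h] <;> norm_num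

theorem kcode_spec (hS : S.Valid P D K) (hP : P.Valid D K) {w : List Nat} (hw : kword w = true) (m : G) :
    cev D (S.kcode P) w < 21504 ∧ co.ψ (cev D (S.kcode P) w) = wev (S.val co m) w := by
  have key : ∀ l ∈ w, S.kcode P l < 21504 ∧ co.ψ (S.kcode P l) = S.val co m l := fun l hl => by
    have h := List.all_eq_true.1 hw l hl
    simp only [Bool.or_eq_true] at h
    rcases h with ((h | h) | h) | h <;> obtain rfl := Nat.eq_of_beq_eq_true h
    · exact ⟨hS.lt.1, rfl⟩
    · exact ⟨hS.lt.2, rfl⟩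
    · obtain ⟨h1, h2⟩ := PairData.inv_spec hP co hS.lt.1; exact ⟨h1, h2⟩
    · obtain ⟨h1, h2⟩ := PairData.inv_spec hP co hS.lt.2; exact ⟨h1, h2⟩
  obtain ⟨h1, h2⟩ := cev_spec co (D := D) fun l hl => (key l hl).1
  exact ⟨h1, h2.trans (congrArg List.prod (List.map_congr_left fun l hl => (key l hl).2))⟩

/-- An identity of maps is an identity of elements. -/
theorem rel_one (hS : S.Valid P D K) (hP : P.Valid D K) (hX : S.X.Valid D K) (hU : S.U.Valid S.X P D) [Finite G]
    (hF : Frame S co x) (hm : S.X.Induces co m (S.mat 2) ∧ InL x m) {w : List Nat} (hw : ∀ l ∈ w, l < 6)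
    (h : allFrom (fun v => Nat.beq (mev S.mat w v) v) 0 64 = true) : wev (S.val co m) w = 1 := by
  obtain ⟨h1, h2⟩ := word_spec hS hP hX hF hm hw
  exact Fused.L_one hX hU hF.x_ind (h1.congr fun v hv => Nat.eq_of_beq_eq_true (Tables.all_lt h hv)) h2

/-- How the moving letter conjugates a code, with the expansions. -/
structure Expn where
  v : Nat
  kw : List Nat
  kw' : List Nat
  c : Nat
  r : Nat

noncomputable def checkExpn (S : Side) (P : PairData) (D : Tables) (e : Expn) : Bool :=
  Nat.blt e.v 64 && (kword e.kw && (kword e.kw' &&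
    (allFrom (fun v => Nat.beq (S.mat 2 (mev S.mat e.kw v)) (mev S.mat e.kw' (S.mat 2 v))) 0 64 &&
    (Nat.beq e.c (D.mul (S.X.el e.v) (cev D (S.kcode P) e.kw)) &&
      Nat.beq e.r (D.mul (S.X.el (S.mat 2 e.v)) (cev D (S.kcode P) e.kw'))))))

theorem expn_spec (hS : S.Valid P D K) (hP : P.Valid D K) (hX : S.X.Valid D K) (hU : S.U.Valid S.X P D) [Finite G]
    (hF : Frame S co x) (hm : S.X.Induces co m (S.mat 2) ∧ InL x m) {e : Expn}
    (he : checkExpn S P D e = true) :
    e.c < 21504 ∧ e.r < 21504 ∧ m * co.ψ e.c * m⁻¹ = co.ψ e.r := by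
  simp only [checkExpn, Bool.and_eq_true] at he
  obtain ⟨hv, hk, hk', hmat, hc, hr⟩ := he
  have hv := Nat.ble_eq.mp hv
  have hl := (mat_spec hS (show 2 < 6 by norm_num) hv).1
  obtain ⟨c1, c2⟩ := kcode_spec hS hP (co := co) hk m
  obtain ⟨d1, d2⟩ := kcode_spec hS hP (co := co) hk' m
  rw [Nat.eq_of_beq_eq_true hc, Nat.eq_of_beq_eq_true hr]
  refine ⟨co.lt _ _ (EData.el_lt hX hv) c1, co.lt _ _ (EData.el_lt hX hl) d1, ?_⟩
  rw [co.mul _ _ (EData.el_lt hX hv) c1, co.mul _ _ (EData.el_lt hX hl) d1, c2, d2]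
  obtain ⟨e1, e2⟩ := word_spec hS hP hX hF hm (kword_lt hk)
  obtain ⟨f1, f2⟩ := word_spec hS hP hX hF hm (kword_lt hk')
  have hcomm : m * wev (S.val co m) e.kw = wev (S.val co m) e.kw' * m :=
    Fused.L_unique hX hU hF.x_ind (hm.1.mul e1) (f1.mul hm.1) (hm.2.mul e2) (f2.mul hm.2)
      fun v hv => Nat.eq_of_beq_eq_true (Tables.all_lt hmat hv)
  have h1 := (hm.1 e.v hv).2
  show m * (S.X.E co e.v * _) * m⁻¹ = S.X.E co (S.mat 2 e.v) * _
  rw [← h1]
  calc m * (S.X.E co e.v * wev (S.val co m) e.kw) * m⁻¹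
      = m * S.X.E co e.v * m⁻¹ * (m * wev (S.val co m) e.kw) * m⁻¹ := by group
    _ = _ := by rw [hcomm]; group

end Side

/-- The complements. -/
structure CompData where
  ga : Nat
  gb : Nat
  reps : List (Nat × Nat)
  /-- words in the letters `0, 1, 3, 4` fixing all vectors -/
  rels : List (List Nat)
  /-- for a pair: the complement and a conjugator, or a relation that fails -/
  tab : Nat → Nat

namespace CompData

variable (C : CompData) (X : EData) (U : AutData) (P : PairData) (D : Tables)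

noncomputable def pairA (v : Nat) : Nat := D.mul C.ga (X.el v)
noncomputable def pairB (w : Nat) : Nat := D.mul C.gb (X.el w)

/-- One pair of lifts. -/
noncomputable def checkPair (mk : Nat → Nat → Side) (i : Nat) : Bool :=
  force (C.pairA X D (i / 64)) fun a => force (C.pairB X D (i % 64)) fun b => force (C.tab i) fun e =>
    (Nat.blt e 256 && (Nat.blt (e / 64) C.reps.length &&
      (Nat.beq (P.cj D (X.el (e % 64)) a) (C.reps.getD (e / 64) (0, 0)).1 &&
        Nat.beq (P.cj D (X.el (e % 64)) b) (C.reps.getD (e / 64) (0, 0)).2))) ||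
    (Nat.ble 256 e && (Nat.blt (e - 256) C.rels.length &&
      !Nat.beq (cev D ((mk a b).kcode P) (C.rels.getD (e - 256) [])) 0))

/-- The checked data. -/
structure Valid (mat : Nat → Nat → Nat) : Prop where
  lt : C.ga < 21504 ∧ C.gb < 21504
  pairs : allFrom (C.checkPair X P D fun a b => ⟨X, U, a, b, mat⟩) 0 4096 = true
  rels : (C.rels.all fun w => Side.kword w && allFrom (fun v => Nat.beq (mev mat w v) v) 0 64) = true

variable {C X U P D} {K : Classes} {G : Type*} [Group G] [Finite G] {t : G} {co : Coord D t}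

/-- Some complement is normalised by a cube root. -/
theorem setup {mat : Nat → Nat → Nat} (hC : C.Valid X U P D mat) (hS : (Side.mk X U C.ga C.gb mat).Valid P D K)
    (hP : P.Valid D K) (hX : X.Valid D K) (hU : U.Valid X P D) (hF : Fused U X co)
    (ht1 : U.O.testBit 1 = true) :
    ∃ j, j < C.reps.length ∧ ∃ x, Frame ⟨X, U, (C.reps.getD j (0, 0)).1, (C.reps.getD j (0, 0)).2, mat⟩ co x := by
  set S0 : Side := ⟨X, U, C.ga, C.gb, mat⟩ with hS0
  obtain ⟨x, hx, hx3⟩ := Fused.exists_x hF hX hP hU ht1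
  obtain ⟨hia, hib⟩ := Side.induces_ab hS hP hX (co := co)
  have lift : ∀ l g, l < 3 → g < 21504 → X.Induces co (co.ψ g) (mat l) →
      ∃ v, v < 64 ∧ X.Induces co (co.ψ (D.mul g (X.el v))) (mat l) ∧ InL x (co.ψ (D.mul g (X.el v))) := by
    intro l g hl hg hind
    have hn : (∀ v, v < 64 → mat l (U.cc v) = U.cc (mat l v)) ∨
        ∀ v, v < 64 → mat l (U.cc v) = U.cc (U.cc (mat l v)) := by
      have h := Tables.all_lt hS.norm hl
      rw [Bool.or_eq_true] at h
      rcases h with h | h
      · exact Or.inl fun v hv => Nat.eq_of_beq_eq_true (Tables.all_lt h hv)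
      · exact Or.inr fun v hv => Nat.eq_of_beq_eq_true (Tables.all_lt h hv)
    obtain ⟨m, hm, hL⟩ := Fused.L_exists hF hX hP hU ht1 hx hx3 (Side.pres hS (show l < 6 by omega)) hn
    obtain ⟨v, hv, he⟩ := hind.eq_mul hX hm
    refine ⟨v, hv, ?_⟩
    rw [co.mul _ _ hg (EData.el_lt hX hv)]
    exact he ▸ ⟨hm, hL⟩
  obtain ⟨v, hv, hva, hvL⟩ := lift 0 C.ga (by norm_num) hS.lt.1 hia
  obtain ⟨w, hw, hwb, hwL⟩ := lift 1 C.gb (by norm_num) hS.lt.2 hib
  set a := D.mul C.ga (X.el v) with ha
  set b := D.mul C.gb (X.el w) with hb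
  have hal : a < 21504 := co.lt _ _ hS.lt.1 (EData.el_lt hX hv)
  have hbl : b < 21504 := co.lt _ _ hS.lt.2 (EData.el_lt hX hw)
  have code : ∀ g u, g < 21504 → u < 64 → ∀ f, X.Induces co (co.ψ g) f → Nat.beq (P.cj D g (X.el u)) (X.el (f u)) = true := by
    intro g u hg hu f hf
    obtain ⟨h1, h2⟩ := hf u hu
    obtain ⟨h3, h4⟩ := PairData.cj_spec hP co hg (EData.el_lt hX hu)
    rw [co.inj _ _ h3 (EData.el_lt hX h1) (by rw [h4]; exact h2)]
    exact Nat.beq_refl _
  have hS' : (Side.mk X U a b mat).Valid P D K := by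
    refine ⟨⟨hal, hbl⟩, (allFrom_iff _ _ _).2 fun u _ hu => ?_, hS.norm⟩
    have hu : u < 64 := by omega
    have h := Tables.all_lt hS.mat hu
    simp only [Side.checkMat, Bool.and_eq_true] at h ⊢
    exact ⟨h.1, code a u hal hu _ hva, code b u hbl hu _ hwb⟩
  have hF' : Frame ⟨X, U, a, b, mat⟩ co x := ⟨hx, hx3, hvL, hwL⟩
  have hi := Tables.all_lt hC.pairs (show 64 * v + w < 4096 by omega)
  simp only [checkPair, force_eq, pairA, pairB, show (64 * v + w) / 64 = v by omega,
    show (64 * v + w) % 64 = w by omega, Bool.or_eq_true, Bool.and_eq_true] at hi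
  rw [← ha, ← hb] at hi
  rcases hi with ⟨-, hj, h1, h2⟩ | ⟨-, hk, hne⟩
  · have hj := Nat.ble_eq.mp hj
    have h1 := Nat.eq_of_beq_eq_true h1
    have h2 := Nat.eq_of_beq_eq_true h2
    have he : C.tab (64 * v + w) % 64 < 64 := Nat.mod_lt _ (by norm_num)
    set ε := X.E co (C.tab (64 * v + w) % 64) with hε
    have hεε : ε * ε = 1 := EData.E_sq co hX he
    have hεi : ε⁻¹ = ε := inv_eq_of_mul_eq_one_right hεε
    have hεind : X.Induces co ε id := fun u hu => ⟨hu, by
      rw [hε, (EData.E_comm co hX he hu).eq, mul_inv_cancel_right]; rfl⟩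
    have hconj : ∀ g, g < 21504 → InL x (co.ψ g) →
        InL (ε * x * ε⁻¹) (co.ψ (P.cj D (X.el (C.tab (64 * v + w) % 64)) g)) := by
      intro g hg hL
      obtain ⟨-, h4⟩ := PairData.cj_spec hP co (EData.el_lt hX he) hg
      rw [h4]
      show InL _ (ε * co.ψ g * ε⁻¹)
      rcases hL with h | h
      · left
        conv_rhs => rw [← h]
        group
      · right
        rw [show (ε * x * ε⁻¹)⁻¹ = ε * x⁻¹ * ε⁻¹ by group, ← h]
        group
    refine ⟨_, hj, ε * x * ε⁻¹, ⟨?_, ?_, ?_, ?_⟩⟩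
    · have hεind' : X.Induces co ε⁻¹ id := by rw [hεi]; exact hεind
      exact ((hεind.mul hx).mul hεind').congr fun u hu => rfl
    · rw [conj_pow, hx3, mul_one, mul_inv_cancel]
    · show InL _ (co.ψ (C.reps.getD _ (0, 0)).1)
      rw [← h1]; exact hconj a hal hvL
    · show InL _ (co.ψ (C.reps.getD _ (0, 0)).2)
      rw [← h2]; exact hconj b hbl hwL
  · exfalso
    have hk := Nat.ble_eq.mp hk
    have hr := List.all_eq_true.1 hC.rels _ (List.getElem_mem hk)
    simp only [Bool.and_eq_true] at hr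
    rw [List.getD_eq_getElem _ _ hk] at hne
    -- the value of the relation is the identity
    obtain ⟨m, hm⟩ : ∃ m, X.Induces co m (mat 2) ∧ InL x m := by
      have h := Tables.all_lt hS.norm (show 2 < 3 by norm_num)
      rw [Bool.or_eq_true] at h
      refine Fused.L_exists hF hX hP hU ht1 hx hx3 (Side.pres hS (show 2 < 6 by norm_num)) ?_
      rcases h with h | h
      · exact Or.inl fun v hv => Nat.eq_of_beq_eq_true (Tables.all_lt h hv)
      · exact Or.inr fun v hv => Nat.eq_of_beq_eq_true (Tables.all_lt h hv)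
    have h1 := Side.rel_one hS' hP hX hU hF' hm (Side.kword_lt hr.1) hr.2
    obtain ⟨hl, hval⟩ := Side.kcode_spec hS' hP (co := co) hr.1 m
    have hz := co.inj _ _ hl (by norm_num) (hval.trans (h1.trans co.zero.symm))
    rw [hz] at hne
    exact Bool.noConfusion hne

end CompData

end Cfsg.Agent.HeRecog
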