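import Cfsg.Agent.HeRecog.Local
import Cfsg.Agent.HeRecog.TI

/-! Which classes are fused to the central involution. -/

set_option autoImplicit false
set_option linter.all false

namespace Cfsg.Agent.HeRecog

open Cfsg.Agent.CosetCert

/-- A class in the subset coded by `r`. -/
def inF (al : List Nat) (r k : Nat) : Bool :=
  Nat.beq k 0 || (al.zipIdx.any fun p => Nat.beq p.1 k && Nat.testBit r p.2)

/-- A vector is marked. -/
def markF (al : List Nat) (r : Nat) (X : EData) (v : Nat) : Bool := !Nat.beq v 0 && inF al r (X.vc v)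

/-- The number of marked vectors whose translate by `v` is marked. -/
noncomputable def invar (al : List Nat) (r : Nat) (X : EData) (v : Nat) : Nat :=
  countB (fun w => markF al r X w && markF al r X (Nat.xor v w)) 64

/-- The invariant is not constant on the marked vectors. -/
noncomputable def varies (al : List Nat) (r : Nat) (X : EData) : Bool :=
  !allFrom (fun v => !markF al r X v || Nat.beq (invar al r X v) (invar al r X 1)) 0 64

/-- A mask is the marked set. -/
noncomputable def maskIs (al : List Nat) (r : Nat) (X : EData) (O : Nat) : Bool :=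
  allFrom (fun v => Nat.testBit O v == markF al r X v) 0 64

variable {P : PairData} {D : Tables} {K : Classes} {G : Type*} [Group G] [Finite G] {t : G}

theorem inF_exists (K : Classes) (co : Coord D t) (hal : K.allowed.Nodup) :
    ∃ r, r < 2 ^ K.allowed.length ∧ ∀ k, k ∈ K.allowed →
      (inF K.allowed r k = true ↔ k = 0 ∨ IsConj t (co.ψ (K.rep k))) := by
  classical
  have key : ∀ l : List Nat, ∃ r, r < 2 ^ l.length ∧ ∀ i (h : i < l.length),
      (r.testBit i = true ↔ IsConj t (co.ψ (K.rep l[i]))) := by
    intro l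
    induction l with
    | nil => exact ⟨0, by norm_num, fun i h => absurd h (Nat.not_lt_zero _)⟩
    | cons a l ih =>
      obtain ⟨r, hr, h⟩ := ih
      refine ⟨2 * r + (if IsConj t (co.ψ (K.rep a)) then 1 else 0), ?_, fun i hi => ?_⟩
      · rw [List.length_cons, pow_succ]; split_ifs <;> omega
      · match i with
        | 0 =>
          rw [Nat.testBit_zero, List.getElem_cons_zero]
          split_ifs with hc
          · exact iff_of_true (by simp) hc
          · exact iff_of_false (by simp) hc
        | i + 1 =>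
          rw [Nat.testBit_succ, List.getElem_cons_succ, ← h i (by simpa using hi)]
          split_ifs <;> simp [show (2 * r + 1) / 2 = r by omega]
  obtain ⟨r, hr, h⟩ := key K.allowed
  refine ⟨r, hr, fun k hk => ?_⟩
  obtain ⟨i, hi, rfl⟩ := List.getElem_of_mem hk
  simp only [inF, Bool.or_eq_true, List.any_eq_true, Bool.and_eq_true]
  constructor
  · rintro (h0 | ⟨⟨a, j⟩, hm, ha, hb⟩)
    · exact Or.inl (Nat.eq_of_beq_eq_true h0)
    · obtain ⟨-, hj, e⟩ := List.mem_zipIdx hm
      simp only [Nat.zero_add, Nat.sub_zero] at hj e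
      right
      rw [← Nat.eq_of_beq_eq_true ha, show a = K.allowed[j] from e]
      exact (h j hj).1 hb
  · rintro (h0 | hc)
    · exact Or.inl (by rw [h0]; exact Nat.beq_refl _)
    · right
      exact ⟨(K.allowed[i], i), by simp [List.mk_mem_zipIdx_iff_getElem?, hi], Nat.beq_refl _, (h i hi).2 hc⟩

/-- The classes fused, as one of the 32 subsets. -/
structure FusedSet (P : PairData) {D : Tables} (K : Classes) {G : Type*} [Group G] {t : G} (co : Coord D t)
    (r : Nat) : Prop where
  bound : r < 2 ^ K.allowed.length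
  iff : ∀ k, k < K.reps.length → (inF K.allowed r k = true ↔ IsConj t (co.ψ (K.rep k)))

theorem exists_fusedSet (hK : K.Valid D) (co : Coord D t) (ht : orderOf t = 2) (hal : K.allowed.Nodup)
    (h0 : 0 ∉ K.allowed) : ∃ r, FusedSet P K co r := by
  obtain ⟨r, hr, h⟩ := inF_exists K co hal
  refine ⟨r, hr, fun k hk => ?_⟩
  by_cases hk0 : k = 0
  · subst hk0
    simp only [inF, show Nat.beq 0 0 = true from rfl, Bool.true_or, true_iff]
    rw [hK.rep0, co.one]
  by_cases hkm : k ∈ K.allowed
  · rw [h k hkm]; simp [hk0]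
  · refine ⟨fun hin => ?_, fun hc => absurd (Classes.fuse co hK ht hk hk0 hc) hkm⟩
    simp only [inF, Bool.or_eq_true, List.any_eq_true, Bool.and_eq_true] at hin
    rcases hin with h' | ⟨⟨a, j⟩, hm, ha, -⟩
    · exact absurd (Nat.eq_of_beq_eq_true h') hk0
    · obtain ⟨-, hj, e⟩ := List.mem_zipIdx hm
      simp only [Nat.zero_add, Nat.sub_zero] at hj e
      exact absurd (by rw [← Nat.eq_of_beq_eq_true ha, e]; exact List.getElem_mem hj) hkm

theorem mark_iff (hK : K.Valid D) {co : Coord D t} {X : EData} (hX : X.Valid D K) (ht : orderOf t = 2) {r : Nat}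
    (hr : FusedSet P K co r) {v : Nat} (hv : v < 64) :
    markF K.allowed r X v = true ↔ IsConj t (X.E co v) := by
  by_cases h0 : v = 0
  · subst h0
    simp only [markF, show Nat.beq 0 0 = true from rfl, Bool.not_true, Bool.false_and, Bool.false_eq_true, false_iff]
    rw [EData.E_zero co hX]
    intro h
    rw [isConj_one_left.1 h, orderOf_one] at ht
    omega
  · obtain ⟨hk, hc⟩ := EData.conj_iff co hX hK hv h0
    have hb : Nat.beq v 0 = false := eq_false_of_ne_true fun e => h0 (Nat.eq_of_beq_eq_true e)
    simp only [markF, hb, Bool.not_false, Bool.true_and]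
    rw [hr.iff _ hk, hc]

/-- The marked vectors and the normalizer. -/
theorem fused_of_mask (hK : K.Valid D) (hP : P.Valid D K) {co : Coord D t} (ht : orderOf t = 2)
    (hC : Nat.card (Subgroup.centralizer ({t} : Set G)) = 21504) {r : Nat} (hr : FusedSet P K co r) {X : EData}
    (hX : X = P.X ∨ X = P.Y) {U : AutData} (hO : maskIs K.allowed r X U.O = true) : Fused U X co := by
  have hXV : X.Valid D K := by rcases hX with rfl | rfl; exacts [hP.X, hP.Y]
  have key : ∀ v, v < 64 → (U.O.testBit v = true ↔ IsConj t (X.E co v)) := fun v hv => by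
    have h : U.O.testBit v = markF K.allowed r X v := eq_of_beq (Tables.all_lt hO hv)
    rw [h]
    exact mark_iff hK hXV ht hr hv
  exact ⟨key, fun v hv hb => PairData.move hP co ht hC hX hv ((key v hv).1 hb)⟩

/-- The invariant is constant. -/
theorem not_varies (hK : K.Valid D) (hP : P.Valid D K) {co : Coord D t} (ht : orderOf t = 2)
    (hC : Nat.card (Subgroup.centralizer ({t} : Set G)) = 21504) {r : Nat} (hr : FusedSet P K co r) {X : EData}
    (hX : X = P.X ∨ X = P.Y) : varies K.allowed r X = false := by
  have hXV : X.Valid D K := by rcases hX with rfl | rfl; exacts [hP.X, hP.Y]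
  refine eq_false_of_ne_true fun h => ?_
  simp only [varies, Bool.not_eq_true', ← Bool.not_eq_true, allFrom_iff, Bool.or_eq_true, not_forall,
    not_or, Bool.not_eq_true', Bool.not_eq_false] at h
  obtain ⟨v, -, hv, hm, hne⟩ := h
  have hv : v < 64 := by omega
  obtain ⟨n, f, hn, hf⟩ := PairData.move hP co ht hC hX hv ((mark_iff hK hXV ht hr hv).1 (not_not.1 hm))
  have hmark : ∀ w, w < 64 → markF K.allowed r X (f w) = markF K.allowed r X w := fun w hw => by
    rw [Bool.eq_iff_iff, mark_iff hK hXV ht hr (hn w hw).1, mark_iff hK hXV ht hr hw]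
    exact (hn.conjT hXV hw).symm
  refine hne ?_
  rw [show invar K.allowed r X v = invar K.allowed r X 1 from ?_]
  · exact Nat.beq_refl _
  unfold invar
  rw [countB_eq, countB_eq]
  symm
  refine Finset.card_bij (fun w _ => f w) (fun w hw => ?_) (fun a ha b hb h => ?_) fun u hu => ?_
  · simp only [Finset.mem_filter, Finset.mem_range, Bool.and_eq_true] at hw ⊢
    refine ⟨(hn w hw.1).1, by rw [hmark w hw.1]; exact hw.2.1, ?_⟩
    show markF _ _ X (v ^^^ f w) = true
    rw [← hf, ← hn.add hXV (show 1 < 64 by norm_num) hw.1, hmark _ (Nat.xor_lt_two_pow (n := 6) (by norm_num) hw.1)]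
    exact hw.2.2
  · simp only [Finset.mem_filter, Finset.mem_range] at ha hb
    exact hn.injOn hXV ha.1 hb.1 h
  · simp only [Finset.mem_filter, Finset.mem_range, Bool.and_eq_true] at hu
    let F : Fin 64 → Fin 64 := fun w => ⟨f w, (hn w w.2).1⟩
    have hF : Function.Injective F := fun a b h => Fin.ext (hn.injOn hXV a.2 b.2 (congrArg Fin.val h))
    obtain ⟨w, hw⟩ := (Finite.injective_iff_surjective.1 hF) ⟨u, hu.1⟩
    have hw' : f w = u := congrArg Fin.val hw
    refine ⟨w, ?_, hw'⟩
    simp only [Finset.mem_filter, Finset.mem_range, Bool.and_eq_true]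
    refine ⟨w.2, by rw [← hmark w w.2, hw']; exact hu.2.1, ?_⟩
    show markF _ _ X (1 ^^^ (w : Nat)) = true
    rw [← hmark _ (Nat.xor_lt_two_pow (n := 6) (by norm_num) w.2), hn.add hXV (show 1 < 64 by norm_num) w.2, hf, hw']
    exact hu.2.2

end Cfsg.Agent.HeRecog
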