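import Cfsg.Agent.HeRecog.Table

/-! The centraliser of the involution in coordinates. -/

set_option autoImplicit false
set_option linter.all false

namespace Cfsg.Agent.HeRecog

variable {G : Type*} [Group G]

/-- Coordinates on the centraliser of `t`. -/
structure Coord (D : Tables) (t : G) where
  ψ : Nat → G
  lt : ∀ c d, c < 21504 → d < 21504 → D.mul c d < 21504
  mul : ∀ c d, c < 21504 → d < 21504 → ψ (D.mul c d) = ψ c * ψ d
  mem : ∀ c, c < 21504 → Commute (ψ c) t
  surj : ∀ g : G, Commute g t → ∃ c, c < 21504 ∧ ψ c = g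
  inj : ∀ c d, c < 21504 → d < 21504 → ψ c = ψ d → c = d
  zero : ψ 0 = 1
  one : ψ 1 = t

theorem QGens.qel_injective {e : Nat → G} {z : G} (h : QGens e z) {a b : Nat} (ha : a < 128)
    (hb : b < 128) (hab : qel e z a = qel e z b) : a = b := by
  have hker : ∀ c, c < 128 → qel e z c = 1 → c = 0 := by
    intro c hc he
    have hcomm : ∀ g, g < 128 → qel e z (qmul c g) = qel e z (qmul g c) := fun g hg => by
      rw [← h.qel_mul hc hg, ← h.qel_mul hg hc, he, one_mul, mul_one]
    have key : ∀ c : Fin 128, (c : Nat) = 0 ∨ (c : Nat) = 1 ∨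
        ∃ i : Fin 6, qmul c (2 * 2 ^ (i : Nat)) = qmul (qmul (2 * 2 ^ (i : Nat)) c) 1 := by
      decide +kernel
    rcases key ⟨c, hc⟩ with h0 | h1 | ⟨i, hi⟩
    · exact h0
    · simp only at h1; subst h1; rw [QGens.qel_one] at he; exact absurd he h.zne
    · exfalso
      have hg : 2 * 2 ^ (i : Nat) < 128 := by
        have := i.2; interval_cases (i : Nat) <;> norm_num
      have h2 := hcomm _ hg
      simp only at hi
      rw [hi, ← h.qel_mul (Tables.qmul_lt hg hc) (by norm_num), QGens.qel_one] at h2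
      exact h.zne (mul_eq_left.1 h2)
  obtain ⟨hlt, hinv⟩ := h.qel_qinv hb
  have h0 := hker (qmul a (qinv b)) (Tables.qmul_lt ha hlt) (by
    rw [← h.qel_mul ha hlt, hinv, hab, mul_inv_cancel])
  have key : ∀ a b : Fin 128, qmul a (qinv b) = 0 → a = b := by decide +kernel
  exact congrArg Fin.val (key ⟨a, ha⟩ ⟨b, hb⟩ h0)

namespace Tables

variable {D : Tables} {e : Nat → G} {z x y : G}

theorem bad_absurd (h : D.Rep e z x y) {a b : Nat} (hab : qel e z a = qel e z b)
    (hne : (Nat.blt a 128 && Nat.blt b 128 && !Nat.beq a b) = true) : False := by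
  simp only [Bool.and_eq_true, Bool.not_eq_true', ← Bool.not_eq_true] at hne
  exact hne.2 (by
    rw [h.q.qel_injective (Nat.ble_eq.mp hne.1.1) (Nat.ble_eq.mp hne.1.2) hab]; exact Nat.beq_refl _)

/-- Coordinates from generators satisfying the relations. -/
noncomputable def coord [Finite G] (hV : D.Valid) (h : D.Rep e z x y)
    (hcen : ∀ g ∈ Subgroup.closure ({g | ∃ i, i < 6 ∧ e i = g} ∪ {x, y}), Commute g z)
    (hgen : ∀ g, Commute g z → g ∈ Subgroup.closure ({g | ∃ i, i < 6 ∧ e i = g} ∪ {x, y}))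
    (hcard : Nat.card (Subgroup.centralizer ({z} : Set G)) = 21504) : Coord D z := by
  set K := Subgroup.closure ({g | ∃ i, i < 6 ∧ e i = g} ∪ {x, y}) with hK
  have hz0 : psi D e z x y 0 = 1 := by simp [psi, QGens.qel_zero, rep_zero]
  have hz1 : psi D e z x y 1 = z := by simp [psi, QGens.qel_one, rep_zero]
  have hsurj : ∀ g ∈ K, ∃ c, c < 21504 ∧ psi D e z x y c = g := by
    let S : Submonoid G :=
      { carrier := {g | ∃ c, c < 21504 ∧ psi D e z x y c = g}
        one_mem' := ⟨0, by norm_num, hz0⟩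
        mul_mem' := fun {a b} ⟨c, hc, ea⟩ ⟨d, hd, eb⟩ =>
          ⟨D.mul c d, (mul_spec hV h hc hd).1, by rw [(mul_spec hV h hc hd).2, ea, eb]⟩ }
    intro g hg
    have hsub : ∀ a, a ∈ {g | ∃ i, i < 6 ∧ e i = g} ∪ {x, y} → a ∈ S := by
      rintro a (⟨i, hi, rfl⟩ | ha)
      · refine ⟨2 * 2 ^ i, by interval_cases i <;> norm_num, ?_⟩
        interval_cases i <;> simp [psi, qel, part, rep_zero]
      · have hg' : ∀ g, g < 2 → lt x y g ∈ S := fun g hg => by
          obtain ⟨he, hn, hs⟩ := step (x := x) (y := y) hV (show 0 < 168 by norm_num) (show g < 4 by omega)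
          simp only [edge, next, if_pos hg] at he hn hs
          rw [rep_zero, one_mul, ed_eq hV h _ _ he rfl] at hs
          obtain ⟨-, -, hlab, -⟩ := edge_facts hV he
          refine ⟨128 * D.T (2 * 0 + g) + D.lab (2 * 0 + g), by omega, ?_⟩
          rw [psi, show (128 * D.T (2 * 0 + g) + D.lab (2 * 0 + g)) % 128 = D.lab (2 * 0 + g) by omega,
            show (128 * D.T (2 * 0 + g) + D.lab (2 * 0 + g)) / 128 = D.T (2 * 0 + g) by omega, ← hs]
        rcases ha with rfl | ha
        · exact hg' 0 (by norm_num)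
        · rw [Set.mem_singleton_iff] at ha; subst ha; exact hg' 1 (by norm_num)
    induction hg using Subgroup.closure_induction with
    | mem a ha => exact hsub a ha
    | one => exact S.one_mem
    | mul a b _ _ ha hb => exact S.mul_mem ha hb
    | inv a _ ha =>
      have hp : a⁻¹ = a ^ (orderOf a - 1) := by
        rw [inv_eq_iff_mul_eq_one, ← pow_succ', Nat.sub_add_cancel (orderOf_pos a), pow_orderOf_eq_one]
      rw [hp]; exact S.pow_mem ha _
  have hKc : ∀ g, g ∈ K ↔ Commute g z := fun g => ⟨hcen g, hgen g⟩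
  have hmem : ∀ c, c < 21504 → psi D e z x y c ∈ K := by
    intro c hc
    have hxm : ∀ l, lt x y l ∈ K := fun l => by
      have hx : x ∈ K := Subgroup.subset_closure (Or.inr (Or.inl rfl))
      have hy : y ∈ K := Subgroup.subset_closure (Or.inr (Or.inr rfl))
      unfold lt; split_ifs <;> simp [inv_mem_iff, hx, hy]
    have hzK : z ∈ K := (hKc z).2 (Commute.refl z)
    have hem : ∀ i, i < 6 → e i ∈ K := fun i hi => Subgroup.subset_closure (Or.inl ⟨i, hi, rfl⟩)
    refine K.mul_mem (K.mul_mem (K.mul_mem ?_ ?_) (K.pow_mem hzK _)) ?_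
    · exact K.mul_mem (K.mul_mem (K.pow_mem (hem 3 (by omega)) _) (K.pow_mem (hem 4 (by omega)) _))
        (K.pow_mem (hem 5 (by omega)) _)
    · exact K.mul_mem (K.mul_mem (K.pow_mem (hem 0 (by omega)) _) (K.pow_mem (hem 1 (by omega)) _))
        (K.pow_mem (hem 2 (by omega)) _)
    · refine K.list_prod_mem fun a ha => ?_
      obtain ⟨l, -, rfl⟩ := List.mem_map.1 ha
      exact hxm l
  let f : Fin 21504 → Subgroup.centralizer ({z} : Set G) := fun c =>
    ⟨psi D e z x y c, Subgroup.mem_centralizer_singleton_iff.2 (hcen _ (hmem c c.2)).eq⟩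
  have hfs : Function.Surjective f := by
    rintro ⟨g, hg⟩
    obtain ⟨c, hc, hcg⟩ := hsurj g (hgen g (Subgroup.mem_centralizer_singleton_iff.1 hg))
    exact ⟨⟨c, hc⟩, Subtype.ext hcg⟩
  have hfi : Function.Injective f :=
    ((Nat.bijective_iff_surjective_and_card f).2 ⟨hfs, by rw [Nat.card_fin, hcard]⟩).1
  exact
    { ψ := psi D e z x y
      lt := fun c d hc hd => (mul_spec hV h hc hd).1
      mul := fun c d hc hd => (mul_spec hV h hc hd).2
      mem := fun c hc => hcen _ (hmem c hc)
      surj := fun g hg => hsurj g (hgen g hg)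
      inj := fun c d hc hd hcd => congrArg Fin.val (hfi (a₁ := ⟨c, hc⟩) (a₂ := ⟨d, hd⟩) (Subtype.ext hcd))
      zero := hz0
      one := hz1 }

end Tables

end Cfsg.Agent.HeRecog
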