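import Cfsg.Agent.HeRecog.Search

/-! Fusion inside the two elementary subgroups of order 64. -/

set_option autoImplicit false
set_option linter.all false

namespace Cfsg.Agent.HeRecog

open Cfsg.Agent.CosetCert

/-- The data of the pair of subgroups. -/
structure PairData where
  X : EData
  Y : EData
  Q : CliqueData
  inv : Nat → Nat
  /-- for each listed subgroup: whether it is a conjugate of `Y`, and a conjugator -/
  side : Nat → Bool
  conj : Nat → Nat
  /-- generators of the two-group -/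
  tgens : List Nat

namespace PairData

variable (P : PairData) (D : Tables) (K : Classes)

noncomputable def cj (c d : Nat) : Nat := D.mul (D.mul c d) (P.inv c)

noncomputable def pick (b : Bool) : EData := Bool.rec (motive := fun _ => EData) P.X P.Y b

noncomputable def checkInv (c : Nat) : Bool :=
  Nat.blt (P.inv c) 21504 && Nat.beq (D.mul c (P.inv c)) 0

/-- The code normalises both subgroups. -/
noncomputable def stab (c : Nat) : Bool :=
  (P.X.basis.all fun b => P.X.inE (P.cj D c (P.X.el b))) &&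
    P.Y.basis.all fun b => P.Y.inE (P.cj D c (P.Y.el b))

/-- An element of the two-group which is central in it is a power of the involution. -/
noncomputable def checkCentre (c : Nat) : Bool :=
  Nat.ble c 1 || !P.tgens.all fun g => Nat.beq (D.mul c g) (D.mul g c)

/-- No code carries `Y` onto `X`. -/
noncomputable def checkApart (c : Nat) : Bool :=
  !P.Y.basis.all fun b => P.X.inE (P.cj D c (P.Y.el b))

/-- A listed subgroup is the conjugate. -/
noncomputable def checkSide (k : Nat) : Bool :=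
  force (P.Q.Ks.getD k 0) fun m => force (P.conj k) fun c => Nat.blt c 21504 &&
    allFrom (fun i => !Nat.testBit m i || (P.pick (P.side k)).inE (P.cj D (P.inv c) (P.Q.J i))) 0 P.Q.n

/-- The checked data. -/
structure Valid : Prop where
  X : P.X.Valid D K
  Y : P.Y.Valid D K
  Q : P.Q.Valid D
  inv : allFrom (P.checkInv D) 0 21504 = true
  card : countB (P.stab D) 21504 = 1024
  centre : (P.tgens.all fun g => Nat.blt g 21504 && P.stab D g) = true ∧
    allFrom (P.checkCentre D) 0 21504 = true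
  apart : allFrom (P.checkApart D) 0 21504 = true
  side : allFrom (P.checkSide D) 0 P.Q.Ks.length = true

variable {P D K} {G : Type*} [Group G] {t : G}

theorem inv_spec (hP : P.Valid D K) (co : Coord D t) {c : Nat} (hc : c < 21504) :
    P.inv c < 21504 ∧ co.ψ (P.inv c) = (co.ψ c)⁻¹ := by
  have h := Tables.all_lt hP.inv hc
  simp only [checkInv, Bool.and_eq_true] at h
  refine ⟨Nat.ble_eq.mp h.1, eq_inv_of_mul_eq_one_right ?_⟩
  rw [← co.mul _ _ hc (Nat.ble_eq.mp h.1), Nat.eq_of_beq_eq_true h.2, co.zero]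

theorem cj_spec (hP : P.Valid D K) (co : Coord D t) {c d : Nat} (hc : c < 21504) (hd : d < 21504) :
    P.cj D c d < 21504 ∧ co.ψ (P.cj D c d) = co.ψ c * co.ψ d * (co.ψ c)⁻¹ := by
  obtain ⟨hi, he⟩ := inv_spec hP co hc
  exact ⟨co.lt _ _ (co.lt _ _ hc hd) hi, by rw [cj, co.mul _ _ (co.lt _ _ hc hd) hi, co.mul _ _ hc hd, he]⟩

/-- A code mapping a basis into a subgroup maps the subgroup into it. -/
theorem maps (hP : P.Valid D K) (co : Coord D t) {A B : EData} (hA : A.Valid D K) (hB : B.Valid D K) {c : Nat}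
    (hc : c < 21504) (h : (A.basis.all fun b => B.inE (P.cj D c (A.el b))) = true) :
    ∀ v, v < 64 → ∃ w, w < 64 ∧ co.ψ c * A.E co v * (co.ψ c)⁻¹ = B.E co w := by
  have hb : ∀ b ∈ A.basis, b < 64 → ∃ w, w < 64 ∧ co.ψ c * A.E co b * (co.ψ c)⁻¹ = B.E co w := by
    intro b hb hb64
    obtain ⟨w, hw, e⟩ := EData.inE_iff.1 (List.all_eq_true.1 h b hb)
    exact ⟨w, hw, by rw [EData.E, EData.E, e, (cj_spec hP co hc (EData.el_lt hA hb64)).2]⟩
  have h2 : ∀ i, i < 6 → ∃ w, w < 64 ∧ co.ψ c * A.E co (2 ^ i) * (co.ψ c)⁻¹ = B.E co w := fun i hi => by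
    refine hb _ ?_ (Nat.pow_lt_pow_right (by norm_num) hi : 2 ^ i < 2 ^ 6)
    rw [hA.basis]; interval_cases i <;> simp
  have key : ∀ k, k ≤ 6 → ∀ v, v < 2 ^ k → ∃ w, w < 64 ∧ co.ψ c * A.E co v * (co.ψ c)⁻¹ = B.E co w := by
    intro k
    induction k with
    | zero =>
      intro _ v hv
      obtain rfl : v = 0 := by simp at hv; omega
      exact ⟨0, by norm_num, by rw [EData.E_zero co hA, EData.E_zero co hB, mul_one, mul_inv_cancel]⟩
    | succ k ih =>
      intro hk v hv
      rcases lt_or_ge v (2 ^ k) with h' | h'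
      · exact ih (by omega) v h'
      have hx : ∀ k : Fin 6, ∀ v : Fin 64, (v : Nat) < 2 ^ ((k : Nat) + 1) → 2 ^ (k : Nat) ≤ (v : Nat) →
          (v : Nat) ^^^ 2 ^ (k : Nat) < 2 ^ (k : Nat) := by decide +kernel
      obtain ⟨w, hw, e⟩ := ih (by omega) (v ^^^ 2 ^ k) (hx ⟨k, by omega⟩
        ⟨v, lt_of_lt_of_le hv (Nat.pow_le_pow_right (by norm_num) hk : 2 ^ (k + 1) ≤ 2 ^ 6)⟩ hv h')
      obtain ⟨w', hw', e'⟩ := h2 k (by omega)
      have hk64 : (2:ℕ) ^ k < 64 := (Nat.pow_lt_pow_right (by norm_num) (by omega : k < 6))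
      have hv64 : v < 64 := lt_of_lt_of_le hv (Nat.pow_le_pow_right (by norm_num) hk : 2 ^ (k+1) ≤ 2 ^ 6)
      refine ⟨w ^^^ w', Nat.xor_lt_two_pow (n := 6) hw hw', ?_⟩
      rw [← EData.E_mul co hB hw hw', ← e, ← e']
      have : A.E co v = A.E co (v ^^^ 2 ^ k) * A.E co (2 ^ k) := by
        rw [EData.E_mul co hA (Nat.xor_lt_two_pow (n := 6) hv64 hk64) hk64, Nat.xor_assoc, Nat.xor_self,
          Nat.xor_zero]
      rw [this]; group
  exact key 6 le_rfl

/-- The normalizer in the centraliser of the involution of both subgroups. -/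
def normalizers (co : Coord D t) : Subgroup G :=
  Subgroup.centralizer ({t} : Set G) ⊓ Subgroup.normalizer (Set.range fun v : Fin 64 => P.X.E co v) ⊓
    Subgroup.normalizer (Set.range fun v : Fin 64 => P.Y.E co v)

theorem norm_iff (co : Coord D t) {A : EData} (hA : A.Valid D K) {g : G} :
    g ∈ Subgroup.normalizer (Set.range fun v : Fin 64 => A.E co v) ↔
      ∀ v, v < 64 → ∃ w, w < 64 ∧ g * A.E co v * g⁻¹ = A.E co w := by
  constructor
  · intro hg v hv
    obtain ⟨w, hw⟩ := ((Subgroup.mem_set_normalizer_iff.1 hg) (A.E co v)).1 ⟨⟨v, hv⟩, rfl⟩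
    exact ⟨w, w.2, hw.symm⟩
  · intro h
    refine Subgroup.mem_set_normalizer_iff.2 fun x => ⟨?_, fun hx => ?_⟩
    · rintro ⟨v, rfl⟩
      obtain ⟨w, hw, e⟩ := h v v.2
      exact ⟨⟨w, hw⟩, e.symm⟩
    · let f : Fin 64 → Fin 64 := fun v => ⟨(h v v.2).choose, (h v v.2).choose_spec.1⟩
      have hf : Function.Injective f := fun a b hab => Fin.ext (EData.E_inj co hA a.2 b.2 (by
        have ha := (h a a.2).choose_spec.2
        have hb := (h b b.2).choose_spec.2
        rw [show (h a a.2).choose = (h b b.2).choose from congrArg Fin.val hab, ← hb] at ha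
        exact mul_left_cancel (mul_right_cancel ha)))
      obtain ⟨w, hw⟩ := hx
      obtain ⟨v, hv⟩ := (Finite.injective_iff_surjective.1 hf) w
      refine ⟨v, ?_⟩
      have he := (h v v.2).choose_spec.2
      rw [show (h v v.2).choose = (w : Nat) from congrArg Fin.val hv] at he
      exact mul_left_cancel (mul_right_cancel (he.trans hw))

theorem stab_iff (hP : P.Valid D K) (co : Coord D t) {c : Nat} (hc : c < 21504) :
    P.stab D c = true ↔ co.ψ c ∈ P.normalizers co := by
  have hone : ∀ (A : EData), A.Valid D K → ((A.basis.all fun b => A.inE (P.cj D c (A.el b))) = true ↔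
      ∀ v, v < 64 → ∃ w, w < 64 ∧ co.ψ c * A.E co v * (co.ψ c)⁻¹ = A.E co w) := by
    intro A hA
    refine ⟨maps hP co hA hA hc, fun h => List.all_eq_true.2 fun b hb => ?_⟩
    have hb64 : b < 64 := by
      rw [hA.basis] at hb
      simp only [List.mem_cons, List.mem_nil_iff, or_false] at hb
      omega
    obtain ⟨w, hw, e⟩ := h b hb64
    obtain ⟨hl, he⟩ := cj_spec hP co hc (EData.el_lt hA hb64)
    exact EData.inE_iff.2 ⟨w, hw, co.inj _ _ (EData.el_lt hA hw) hl (by rw [he]; exact e.symm)⟩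
  simp only [stab, Bool.and_eq_true, normalizers, Subgroup.mem_inf, norm_iff co hP.X, norm_iff co hP.Y,
    hone _ hP.X, hone _ hP.Y]
  exact ⟨fun h => ⟨⟨Subgroup.mem_centralizer_singleton_iff.2 (co.mem c hc).eq, h.1⟩, h.2⟩,
    fun h => ⟨h.1.2, h.2⟩⟩

theorem card_normalizers (hP : P.Valid D K) (co : Coord D t) : Nat.card (P.normalizers co) = 1024 := by
  rw [← hP.card, countB_eq]
  set S := (Finset.range 21504).filter fun c => P.stab D c = true with hS
  rw [← Nat.card_eq_finsetCard]
  refine (Nat.card_congr (Equiv.ofBijective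
    (fun c : S => (⟨co.ψ c.1, (stab_iff hP co (Finset.mem_range.1 (Finset.mem_filter.1 c.2).1)).1
      (Finset.mem_filter.1 c.2).2⟩ : P.normalizers co)) ⟨?_, ?_⟩)).symm
  · rintro ⟨a, ha⟩ ⟨b, hb⟩ h
    exact Subtype.ext (co.inj a b (Finset.mem_range.1 (Finset.mem_filter.1 ha).1)
      (Finset.mem_range.1 (Finset.mem_filter.1 hb).1) (congrArg Subtype.val h))
  · rintro ⟨g, hg⟩
    obtain ⟨c, hc, rfl⟩ := co.surj g (Subgroup.mem_centralizer_singleton_iff.1 hg.1.1)
    exact ⟨⟨c, Finset.mem_filter.2 ⟨Finset.mem_range.2 hc, (stab_iff hP co hc).2 hg⟩⟩, rfl⟩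

theorem centre_eq (hP : P.Valid D K) (co : Coord D t) {g : G} (hg : g ∈ P.normalizers co)
    (hc : ∀ h ∈ P.normalizers co, Commute g h) : g = 1 ∨ g = t := by
  obtain ⟨c, hcl, rfl⟩ := co.surj g (Subgroup.mem_centralizer_singleton_iff.1 hg.1.1)
  have h := Tables.all_lt hP.centre.2 hcl
  simp only [checkCentre, Bool.or_eq_true, Bool.not_eq_true', ← Bool.not_eq_true] at h
  rcases h with h | h
  · rcases Nat.le_one_iff_eq_zero_or_eq_one.1 (Nat.le_of_ble_eq_true h) with rfl | rfl
    · exact Or.inl co.zero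
    · exact Or.inr co.one
  · refine absurd (List.all_eq_true.2 fun u hu => ?_) h
    have hu' := List.all_eq_true.1 hP.centre.1 u hu
    simp only [Bool.and_eq_true] at hu'
    have hul := Nat.ble_eq.mp hu'.1
    have hcomm := hc _ ((stab_iff hP co hul).1 hu'.2)
    rw [co.inj (D.mul c u) (D.mul u c) (co.lt _ _ hcl hul) (co.lt _ _ hul hcl)
      (by rw [co.mul _ _ hcl hul, co.mul _ _ hul hcl]; exact hcomm)]
    exact Nat.beq_refl _

/-- The two-group is a Sylow subgroup, and its normalizer centralises the involution. -/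
theorem sylow (hP : P.Valid D K) (co : Coord D t) [Finite G] (ht : orderOf t = 2)
    (hC : Nat.card (Subgroup.centralizer ({t} : Set G)) = 21504) :
    (∀ u ∈ Subgroup.normalizer (P.normalizers co : Set G), Commute u t) ∧
      ∃ S : Sylow 2 G, (S : Subgroup G) = P.normalizers co := by
  set T := P.normalizers co with hT
  have hcard : Nat.card T = 2 ^ 10 := by rw [hT, card_normalizers hP co]; norm_num
  have htc : ∀ h ∈ T, Commute t h := fun h hh =>
    (Subgroup.mem_centralizer_singleton_iff.1 hh.1.1 : h * t = t * h).symm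
  have htT : t ∈ T := by
    have hn : ∀ (A : EData), A.Valid D K → t ∈ Subgroup.normalizer (Set.range fun v : Fin 64 => A.E co v) := by
      intro A hA
      refine (norm_iff co hA).2 fun v hv => ⟨v, hv, ?_⟩
      have hc := (EData.E_comm co hA (show 1 < 64 by norm_num) hv).eq
      rw [EData.E_one co hA] at hc
      rw [hc, mul_inv_cancel_right]
    exact ⟨⟨Subgroup.mem_centralizer_singleton_iff.2 rfl, hn _ hP.X⟩, hn _ hP.Y⟩
  have hNT : ∀ u ∈ Subgroup.normalizer (T : Set G), Commute u t := by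
    intro u hu
    have hmem : u * t * u⁻¹ ∈ T := (Subgroup.mem_normalizer_iff.1 hu t).1 htT
    rcases centre_eq hP co hmem (fun h hh => by
      have h' : u⁻¹ * h * u ∈ T := by
        have := (Subgroup.mem_normalizer_iff.1 ((Subgroup.normalizer _).inv_mem hu) h).1 hh
        simpa using this
      have := (Commute.conj_iff u).2 (htc _ h')
      simpa [mul_assoc] using this) with h | h
    · rw [conj_eq_one_iff] at h; rw [h, orderOf_one] at ht; omega
    · exact mul_inv_eq_iff_eq_mul.1 h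
  obtain ⟨S, hS⟩ := (IsPGroup.of_card hcard).exists_le_sylow
  refine ⟨hNT, S, le_antisymm ?_ hS⟩
  by_contra hne
  have hlt : T < (S : Subgroup G) := lt_of_le_of_ne hS fun e => hne (e ▸ le_refl _)
  have : Group.IsNilpotent (S : Subgroup G) := S.isPGroup'.isNilpotent
  have hn := Group.normalizerCondition_of_isNilpotent (G := (S : Subgroup G)) (T.subgroupOf S)
    (lt_top_iff_ne_top.2 fun e => (not_le_of_gt hlt) (Subgroup.subgroupOf_eq_top.1 e))
  set N := Subgroup.normalizer (T.subgroupOf (S : Subgroup G) : Set (S : Subgroup G)) with hN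
  have hmap : N.map (S : Subgroup G).subtype ≤ Subgroup.centralizer ({t} : Set G) := by
    rintro _ ⟨u, hu, rfl⟩
    refine Subgroup.mem_centralizer_singleton_iff.2 (hNT _ (Subgroup.mem_normalizer_iff.2 fun x => ?_))
    constructor
    · intro hx
      exact (Subgroup.mem_subgroupOf.1 ((Subgroup.mem_normalizer_iff.1 hu ⟨x, hS hx⟩).1 (Subgroup.mem_subgroupOf.2 hx)))
    · intro hx
      have hxS : x ∈ (S : Subgroup G) := by
        have := (S : Subgroup G).mul_mem ((S : Subgroup G).mul_mem ((S : Subgroup G).inv_mem u.2) (hS hx)) u.2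
        simpa [mul_assoc] using this
      exact Subgroup.mem_subgroupOf.1 ((Subgroup.mem_normalizer_iff.1 hu ⟨x, hxS⟩).2 (Subgroup.mem_subgroupOf.2 hx))
  have hNcard : Nat.card (N.map (S : Subgroup G).subtype) = Nat.card N :=
    Nat.card_congr (Subgroup.equivMapOfInjective N _ (Subgroup.subtype_injective _)).toEquiv.symm
  have hd := Subgroup.card_dvd_of_le hmap
  rw [hNcard, hC] at hd
  obtain ⟨k, hk⟩ := IsPGroup.iff_card.1 (S.isPGroup'.to_subgroup N)
  have hlt' : Nat.card (T.subgroupOf (S : Subgroup G)) < Nat.card N :=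
    Set.ncard_lt_ncard (by exact_mod_cast hn) (Set.toFinite _)
  rw [Nat.card_congr (Subgroup.subgroupOfEquivOfLe hS).toEquiv, hcard, hk] at hlt'
  rw [hk] at hd
  have hk11 : 11 ≤ k := by
    by_contra h
    exact absurd (Nat.pow_le_pow_right (by norm_num) (by omega : k ≤ 10)) (not_le_of_gt hlt')
  have h2 : 2 ^ 11 ∣ 21504 := dvd_trans (pow_dvd_pow 2 hk11) hd
  norm_num at h2

/-- `Y` is not a conjugate of `X`. -/
theorem not_conj (hP : P.Valid D K) (co : Coord D t) [Finite G] (ht : orderOf t = 2)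
    (hC : Nat.card (Subgroup.centralizer ({t} : Set G)) = 21504) {n : G}
    (h : ∀ v, v < 64 → ∃ w, w < 64 ∧ n * P.Y.E co v * n⁻¹ = P.X.E co w) : False := by
  obtain ⟨hNT, S, hS⟩ := sylow hP co ht hC
  have hsurj : ∀ w, w < 64 → ∃ v, v < 64 ∧ n * P.Y.E co v * n⁻¹ = P.X.E co w := by
    intro w hw
    let f : Fin 64 → Fin 64 := fun v => ⟨(h v v.2).choose, (h v v.2).choose_spec.1⟩
    have hf : Function.Injective f := fun a b hab => Fin.ext (EData.E_inj co hP.Y a.2 b.2 (by
      have ha := (h a a.2).choose_spec.2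
      have hb := (h b b.2).choose_spec.2
      rw [show (h a a.2).choose = (h b b.2).choose from congrArg Fin.val hab, ← hb] at ha
      exact mul_left_cancel (mul_right_cancel ha)))
    obtain ⟨v, hv⟩ := (Finite.injective_iff_surjective.1 hf) ⟨w, hw⟩
    exact ⟨v, v.2, (h v v.2).choose_spec.2.trans (by
      rw [show (h v v.2).choose = w from congrArg Fin.val hv])⟩
  set NX := Subgroup.normalizer (Set.range fun v : Fin 64 => P.X.E co v) with hNX
  have hTX : (S : Subgroup G) ≤ NX := fun g hg => by rw [hS] at hg; exact hg.1.2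
  let R : Sylow 2 G := n • S
  have hRX : (R : Subgroup G) ≤ NX := by
    intro g hg
    change g ∈ ((n • S : Sylow 2 G) : Subgroup G) at hg
    rw [Sylow.coe_subgroup_smul, Subgroup.pointwise_smul_def] at hg
    obtain ⟨u, hu, rfl⟩ := hg
    rw [SetLike.mem_coe, hS] at hu
    refine (norm_iff co hP.X).2 fun w hw => ?_
    obtain ⟨v, hv, e⟩ := hsurj w hw
    obtain ⟨v', hv', e'⟩ := (norm_iff co hP.Y).1 hu.2 v hv
    obtain ⟨w', hw', e''⟩ := h v' hv'
    refine ⟨w', hw', ?_⟩
    rw [← e'', ← e', ← e]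
    simp [MulAut.conj_apply, mul_assoc]
  obtain ⟨m, hm⟩ := MulAction.exists_smul_eq NX (R.subtype hRX) (S.subtype hTX)
  rw [Sylow.smul_subtype] at hm
  have hm' : (m : G) • R = S := Sylow.subtype_injective hm
  have hmem : (m : G) * n ∈ Subgroup.normalizer (P.normalizers co : Set G) := by
    rw [← hS]
    exact Sylow.smul_eq_iff_mem_normalizer.1 (by rw [mul_smul]; exact hm')
  have hc : Commute ((m : G) * n) t := hNT _ hmem
  obtain ⟨c, hc', e⟩ := co.surj _ hc
  have hca := Tables.all_lt hP.apart hc'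
  simp only [checkApart, Bool.not_eq_true', ← Bool.not_eq_true] at hca
  refine hca (List.all_eq_true.2 fun b hb => ?_)
  have hb64 : b < 64 := by
    rw [hP.Y.basis] at hb
    simp only [List.mem_cons, List.mem_nil_iff, or_false] at hb
    omega
  obtain ⟨w, hw, e1⟩ := h b hb64
  obtain ⟨w', hw', e2⟩ := (norm_iff co hP.X).1 m.2 w hw
  obtain ⟨hl, he⟩ := cj_spec hP co hc' (EData.el_lt hP.Y hb64)
  refine EData.inE_iff.2 ⟨w', hw', co.inj _ _ (EData.el_lt hP.X hw') hl ?_⟩
  rw [he, e]
  show P.X.E co w' = _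
  rw [← e2, ← e1]
  simp [EData.E, mul_assoc]

/-- A fused vector is the image of the involution under the normalizer. -/
theorem move (hP : P.Valid D K) (co : Coord D t) [Finite G] (ht : orderOf t = 2)
    (hC : Nat.card (Subgroup.centralizer ({t} : Set G)) = 21504) {A : EData} (hA : A = P.X ∨ A = P.Y) {v : Nat}
    (hv : v < 64) (hconj : IsConj t (A.E co v)) :
    ∃ n f, A.Induces co n f ∧ f 1 = v := by
  obtain ⟨g, hg⟩ := isConj_iff.1 hconj
  have hAV : A.Valid D K := by rcases hA with rfl | rfl; exacts [hP.X, hP.Y]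
  have hcomm : ∀ a, a < 64 → Commute (g⁻¹ * A.E co a * g) t := by
    intro a ha
    have := (Commute.conj_iff g⁻¹).2 (EData.E_comm co hAV ha hv)
    rw [← hg] at this
    simpa [mul_assoc] using this
  choose F hF1 hF2 using fun a : Fin 64 => co.surj _ (hcomm a a.2)
  let f : Nat → Nat := fun a => if h : a < 64 then F ⟨a, h⟩ else 0
  have hf : ∀ a, a < 64 → f a < 21504 ∧ co.ψ (f a) = g⁻¹ * A.E co a * g := fun a ha => by
    simp only [f, dif_pos ha]; exact ⟨hF1 _, hF2 _⟩
  have hel : CliqueData.IsElem D f := by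
    refine ⟨fun a ha => (hf a ha).1, fun a b ha hb => ?_, fun a b ha hb hab => ?_, ?_, ⟨v, hv, ?_⟩⟩
    · have hx : a ^^^ b < 64 := Nat.xor_lt_two_pow (n := 6) ha hb
      refine co.inj _ _ (co.lt _ _ (hf a ha).1 (hf b hb).1) (hf _ hx).1 ?_
      rw [co.mul _ _ (hf a ha).1 (hf b hb).1, (hf a ha).2, (hf b hb).2, (hf _ hx).2, ← EData.E_mul co hAV ha hb]
      group
    · refine EData.E_inj co hAV ha hb ?_
      have := congrArg co.ψ hab
      rw [(hf a ha).2, (hf b hb).2] at this
      exact mul_left_cancel (mul_right_cancel this)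
    · refine co.inj _ _ (hf 0 (by norm_num)).1 (by norm_num) ?_
      rw [(hf 0 (by norm_num)).2, EData.E_zero co hAV, co.zero]; group
    · refine co.inj _ _ (hf v hv).1 (by norm_num) ?_
      rw [(hf v hv).2, co.one, ← hg]; group
  obtain ⟨e₀, f₁, he₀, hel₁, hf₁, mask, hmask, hall⟩ := CliqueData.start_spec co hP.Q hel
  -- move the conjugator
  have hg₁ : g * co.ψ e₀ * t * (g * co.ψ e₀)⁻¹ = A.E co v := by
    rw [← hg]
    calc g * co.ψ e₀ * t * (g * co.ψ e₀)⁻¹ = g * (co.ψ e₀ * t) * (co.ψ e₀)⁻¹ * g⁻¹ := by group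
      _ = g * t * g⁻¹ := by rw [(co.mem e₀ he₀).eq]; group
  have hf₁' : ∀ a, a < 64 → f₁ a < 21504 ∧ co.ψ (f₁ a) = (g * co.ψ e₀)⁻¹ * A.E co a * (g * co.ψ e₀) := fun a ha =>
    ⟨hel₁.lt a ha, by rw [hf₁ a ha, (hf a ha).2]; group⟩
  set g₁ := g * co.ψ e₀ with hg₁def
  obtain ⟨k, hk, rfl⟩ := List.getElem_of_mem hmask
  have hside := Tables.all_lt hP.side hk
  simp only [checkSide, force_eq, Bool.and_eq_true, List.getD_eq_getElem _ _ hk] at hside
  obtain ⟨hc, hside⟩ := hside
  have hc := Nat.ble_eq.mp hc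
  set B := P.pick (P.side k) with hB
  have hBV : B.Valid D K := by rw [hB]; unfold pick; cases P.side k; exacts [hP.X, hP.Y]
  obtain ⟨hi, hie⟩ := inv_spec hP co hc
  have hmap : ∀ a, a < 64 → ∃ w, w < 64 ∧ (g₁ * co.ψ (P.conj k))⁻¹ * A.E co a * (g₁ * co.ψ (P.conj k)) = B.E co w := by
    intro a ha
    by_cases h0 : a = 0
    · exact ⟨0, by norm_num, by rw [h0, EData.E_zero co hAV, EData.E_zero co hBV]; group⟩
    obtain ⟨hz, hlt, hJ⟩ := CliqueData.idx_spec hP.Q hel₁ ha h0
    have h := Tables.all_lt hside hlt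
    rw [Bool.or_eq_true, Bool.not_eq_true'] at h
    rcases h with h | h
    · rw [hall a ha h0] at h; exact Bool.noConfusion h
    obtain ⟨w, hw, e⟩ := EData.inE_iff.1 h
    refine ⟨w, hw, ?_⟩
    obtain ⟨-, he⟩ := cj_spec hP co hi (hf₁' a ha).1
    show _ = co.ψ (B.el w)
    rw [e, hJ, he, hie, (hf₁' a ha).2]
    group
  have hsur : ∀ w, w < 64 → ∃ a, a < 64 ∧ (g₁ * co.ψ (P.conj k))⁻¹ * A.E co a * (g₁ * co.ψ (P.conj k)) = B.E co w := by
    intro w hw
    let F' : Fin 64 → Fin 64 := fun v => ⟨(hmap v v.2).choose, (hmap v v.2).choose_spec.1⟩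
    have hF' : Function.Injective F' := fun a b hab => Fin.ext (EData.E_inj co hAV a.2 b.2 (by
      have ha := (hmap a a.2).choose_spec.2
      have hb := (hmap b b.2).choose_spec.2
      rw [show (hmap a a.2).choose = (hmap b b.2).choose from congrArg Fin.val hab, ← hb] at ha
      exact mul_left_cancel (mul_right_cancel ha)))
    obtain ⟨a, ha⟩ := (Finite.injective_iff_surjective.1 hF') ⟨w, hw⟩
    exact ⟨a, a.2, (hmap a a.2).choose_spec.2.trans (by
      rw [show (hmap a a.2).choose = w from congrArg Fin.val ha])⟩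
  set n := g₁ * co.ψ (P.conj k) with hn
  have hback : ∀ w, w < 64 → ∃ a, a < 64 ∧ n * B.E co w * n⁻¹ = A.E co a := fun w hw => by
    obtain ⟨a, ha, e⟩ := hsur w hw
    exact ⟨a, ha, by rw [← e]; group⟩
  have hBA : B = A := by
    have hBc : B = P.X ∨ B = P.Y := by rw [hB]; unfold pick; cases P.side k; exacts [Or.inl rfl, Or.inr rfl]
    rcases hA with rfl | rfl <;> rcases hBc with hb | hb
    · exact hb
    · exact (not_conj hP co ht hC (n := n) fun w hw => by rw [← hb]; exact hback w hw).elim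
    · exact (not_conj hP co ht hC (n := n⁻¹) fun w hw => by
        obtain ⟨a, ha, e⟩ := hmap w hw
        exact ⟨a, ha, by rw [← hb, ← e]; group⟩).elim
    · exact hb
  rw [hBA] at hback
  obtain ⟨f', hf'⟩ := EData.exists_induces co hAV hback
  refine ⟨n, f', hf', EData.E_inj co hAV (hf' 1 (by norm_num)).1 hv ?_⟩
  rw [← (hf' 1 (by norm_num)).2, EData.E_one co hAV, ← hg₁, hn]
  have hc' := (co.mem _ hc).eq
  calc g₁ * co.ψ (P.conj k) * t * (g₁ * co.ψ (P.conj k))⁻¹
      = g₁ * (co.ψ (P.conj k) * t) * (co.ψ (P.conj k))⁻¹ * g₁⁻¹ := by group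
    _ = g₁ * t * g₁⁻¹ := by rw [hc']; group

end PairData

end Cfsg.Agent.HeRecog
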