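import Cfsg.Agent.HeRecog.Move

/-! The normalizer of an elementary subgroup: its action, and the normalizer of a cube root of one. -/

set_option autoImplicit false
set_option linter.all false

namespace Cfsg.Agent.HeRecog

open Cfsg.Agent.CosetCert

/-- The action on one subgroup: the conjugates of the involution, the stabiliser, a regular
element of order three. -/
structure AutData where
  O : Nat
  /-- maps fixing the involution, each as a list of images and with a code inducing it -/
  Ks : List (List Nat × Nat)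
  cc : Nat → Nat

namespace AutData

variable (U : AutData) (X : EData) (P : PairData) (D : Tables)

/-- Extend a list of images by linearity. -/
noncomputable def go : Nat → List Nat → Bool :=
  fun k => Nat.rec (fun l => U.Ks.any fun e => decide (e.1 = l))
    (fun _ ih l => allFrom (fun c =>
      force l.length fun m =>
        !allFrom (fun j => Nat.beq (cond (Nat.testBit U.O (m + j)) 1 0)
            (cond (Nat.testBit U.O (Nat.xor (l.getD j 0) c)) 1 0)) 0 m ||
          ih (l ++ l.map (fun a => Nat.xor a c))) 0 64) k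

noncomputable def checkK (e : List Nat × Nat) : Bool :=
  Nat.blt e.2 21504 && allFrom (fun v => Nat.blt (e.1.getD v 0) 64 &&
    Nat.beq (P.cj D e.2 (X.el v)) (X.el (e.1.getD v 0))) 0 64

/-- `cc` is additive, of order three, moves everything and `1 + cc` is onto. -/
noncomputable def checkC (v : Nat) : Bool :=
  Nat.blt (U.cc v) 64 && ((Nat.beq v 0 || (!Nat.beq (U.cc v) v && Nat.testBit U.O v == Nat.testBit U.O (U.cc v))) &&
    (Nat.beq (U.cc (U.cc (U.cc v))) v &&
      (!allFrom (fun w => !Nat.beq (Nat.xor w (U.cc w)) v) 0 64 &&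
        allFrom (fun w => Nat.beq (U.cc (Nat.xor v w)) (Nat.xor (U.cc v) (U.cc w))) 0 64)))

/-- The checked data. -/
structure Valid : Prop where
  stab : U.go 5 [0, 1] = true
  K : U.Ks.all (checkK X P D) = true
  cc : allFrom U.checkC 0 64 = true

/-- A map preserving the marked vectors. -/
structure Pres (f : Nat → Nat) : Prop where
  lt : ∀ v, v < 64 → f v < 64
  add : ∀ a b, a < 64 → b < 64 → f (a ^^^ b) = f a ^^^ f b
  O : ∀ v, v < 64 → U.O.testBit (f v) = U.O.testBit v

variable {U X P D}

theorem go_spec {f : Nat → Nat} (hf : U.Pres f) : ∀ (k : Nat) (l : List Nat), U.go k l = true →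
    l.length * 2 ^ k = 64 → (∃ j, l.length = 2 ^ j) → (∀ v, v < l.length → l.getD v 0 = f v) →
    ∃ e ∈ U.Ks, ∀ v, v < 64 → e.1.getD v 0 = f v := by
  intro k
  induction k with
  | zero =>
    intro l h hlen _ hl
    obtain ⟨e, he, hel⟩ := List.any_eq_true.1 h
    exact ⟨e, he, fun v hv => by rw [of_decide_eq_true hel]; exact hl v (by simp at hlen; omega)⟩
  | succ k ih =>
    rintro l h hlen ⟨i, hi⟩ hl
    have h' : allFrom (fun c => force l.length fun m =>
        !allFrom (fun j => Nat.beq (cond (Nat.testBit U.O (m + j)) 1 0)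
            (cond (Nat.testBit U.O (Nat.xor (l.getD j 0) c)) 1 0)) 0 m ||
          U.go k (l ++ l.map (fun a => Nat.xor a c))) 0 64 = true := h
    have hm : 2 * l.length ≤ 64 := by
      have : 0 < 2 ^ k := Nat.pos_of_ne_zero (by positivity)
      rw [pow_succ] at hlen; nlinarith
    have hpos : 0 < l.length := hi ▸ Nat.pos_of_ne_zero (by positivity)
    have hxor : ∀ j, j < l.length → l.length + j = l.length ^^^ j := fun j hj => by
      rw [hi] at hj ⊢
      have e2 := Nat.two_pow_add_eq_or_of_lt hj 1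
      rw [mul_one] at e2
      rw [e2]
      refine Nat.eq_of_testBit_eq fun q => ?_
      rw [Nat.testBit_or, Nat.testBit_xor, Nat.testBit_two_pow]
      by_cases hq : i = q
      · subst hq; simp [Nat.testBit_lt_two_pow hj]
      · simp [hq]
    have hval : ∀ j, j < l.length → f (l.length + j) = (l.getD j 0) ^^^ f l.length := fun j hj => by
      rw [hxor j hj, hf.add _ _ (by omega) (by omega), hl j hj, Nat.xor_comm]
    have hc := Tables.all_lt h' (hf.lt l.length (by omega))
    simp only [force_eq, Bool.or_eq_true, Bool.not_eq_true'] at hc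
    rcases hc with hc | hc
    · exfalso
      refine absurd hc ?_
      rw [Bool.not_eq_false, allFrom_iff]
      intro j _ hj
      show Nat.beq _ (cond (Nat.testBit U.O ((l.getD j 0) ^^^ f l.length)) 1 0) = true
      rw [← hval j (by omega), hf.O _ (by omega)]
      exact Nat.beq_refl _
    · refine ih _ hc ?_ ⟨i + 1, ?_⟩ fun v hv => ?_
      · rw [List.length_append, List.length_map, ← two_mul, ← hlen, pow_succ]; ring
      · rw [List.length_append, List.length_map, hi, pow_succ]; ring
      · rw [List.length_append, List.length_map] at hv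
        rcases lt_or_ge v l.length with h1 | h1
        · rw [List.getD_append _ _ _ _ h1]; exact hl v h1
        · rw [List.getD_append_right _ _ _ _ h1]
          have hj : v - l.length < l.length := by omega
          rw [List.getD_eq_getElem _ _ (by rw [List.length_map]; exact hj), List.getElem_map]
          have := hval _ hj
          rw [Nat.add_sub_cancel' h1, List.getD_eq_getElem _ _ hj] at this
          exact this.symm

theorem stab_spec (hU : U.Valid X P D) {f : Nat → Nat} (hf : U.Pres f) (h1 : f 1 = 1) :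
    ∃ e ∈ U.Ks, ∀ v, v < 64 → e.1.getD v 0 = f v := by
  refine go_spec hf 5 [0, 1] hU.stab (by norm_num) ⟨1, by norm_num⟩ fun v hv => ?_
  have h0 : f 0 = 0 := by
    have := hf.add 0 0 (by norm_num) (by norm_num)
    rwa [Nat.xor_self, Nat.xor_self] at this
  simp only [List.length_cons, List.length_nil] at hv
  interval_cases v
  · simp [h0]
  · simp [h1]

variable {K : Classes} {G : Type*} [Group G] {t : G}

theorem cc_spec (hU : U.Valid X P D) {v : Nat} (hv : v < 64) :
    U.cc v < 64 ∧ (v ≠ 0 → U.cc v ≠ v ∧ U.O.testBit (U.cc v) = U.O.testBit v) ∧ U.cc (U.cc (U.cc v)) = v ∧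
      (∃ w, w < 64 ∧ w ^^^ U.cc w = v) ∧ ∀ w, w < 64 → U.cc (v ^^^ w) = U.cc v ^^^ U.cc w := by
  have h := Tables.all_lt hU.cc hv
  simp only [checkC, Bool.and_eq_true, Bool.or_eq_true] at h
  obtain ⟨h1, h2, h3, h4, h5⟩ := h
  refine ⟨Nat.ble_eq.mp h1, fun hne => ?_, Nat.eq_of_beq_eq_true h3, ?_, fun w hw => Nat.eq_of_beq_eq_true (Tables.all_lt h5 hw)⟩
  · rcases h2 with h2 | h2
    · exact absurd (Nat.eq_of_beq_eq_true h2) hne
    · obtain ⟨a, b⟩ := h2
      simp only [Bool.not_eq_true', ← Bool.not_eq_true] at a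
      exact ⟨fun e => a (by rw [e]; exact Nat.beq_refl _), (eq_of_beq b).symm⟩
  · by_contra hne
    simp only [Bool.not_eq_true', ← Bool.not_eq_true] at h4
    refine h4 ((allFrom_iff _ _ _).2 fun w _ hw => ?_)
    simp only [Bool.not_eq_true', ← Bool.not_eq_true]
    exact fun e => hne ⟨w, by omega, Nat.eq_of_beq_eq_true e⟩

end AutData

/-- The facts about one subgroup in the ambient group. -/
structure Fused (U : AutData) (X : EData) {D : Tables} {G : Type*} [Group G] {t : G} (co : Coord D t) : Prop where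
  O : ∀ v, v < 64 → (U.O.testBit v = true ↔ IsConj t (X.E co v))
  move : ∀ v, v < 64 → U.O.testBit v = true → ∃ n f, X.Induces co n f ∧ f 1 = v

/-- The elements sending `x` to itself or its inverse. -/
def InL {G : Type*} [Group G] (x m : G) : Prop := m * x * m⁻¹ = x ∨ m * x * m⁻¹ = x⁻¹

theorem InL.mul {G : Type*} [Group G] {x a b : G} (ha : InL x a) (hb : InL x b) : InL x (a * b) := by
  have e : a * b * x * (a * b)⁻¹ = a * (b * x * b⁻¹) * a⁻¹ := by group
  have ei : a * x⁻¹ * a⁻¹ = (a * x * a⁻¹)⁻¹ := by group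
  unfold InL
  rw [e]
  rcases hb with hb | hb <;> rw [hb]
  · exact ha
  · rw [ei]; rcases ha with ha | ha <;> rw [ha]
    · exact Or.inr rfl
    · exact Or.inl (inv_inv x)

theorem InL.inv {G : Type*} [Group G] {x a : G} (ha : InL x a) : InL x a⁻¹ := by
  unfold InL
  rw [inv_inv]
  rcases ha with ha | ha
  · left
    conv_lhs => rw [← ha]
    group
  · right
    conv_lhs => rw [← inv_inv x, ← ha]
    group

theorem InL.one {G : Type*} [Group G] (x : G) : InL x 1 := Or.inl (by simp)

namespace Fused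

variable {U : AutData} {X : EData} {P : PairData} {D : Tables} {K : Classes} {G : Type*} [Group G] {t : G}
  {co : Coord D t}

theorem pres (hF : Fused U X co) (hX : X.Valid D K) {n : G} {f : Nat → Nat} (hn : X.Induces co n f) : U.Pres f :=
  { lt := fun v hv => (hn v hv).1
    add := fun a b ha hb => hn.add hX ha hb
    O := fun v hv => by
      have h1 := hF.O v hv
      have h2 := hF.O _ (hn v hv).1
      have h3 := hn.conjT hX hv
      rw [Bool.eq_iff_iff]
      tauto }

theorem induces_inv (hX : X.Valid D K) [Finite G] {n : G} {f : Nat → Nat} (hn : X.Induces co n f) :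
    ∃ g, X.Induces co n⁻¹ g ∧ ∀ v, v < 64 → g (f v) = v := by
  let F : Fin 64 → Fin 64 := fun v => ⟨f v, (hn v v.2).1⟩
  have hF : Function.Injective F := fun a b h => Fin.ext (hn.injOn hX a.2 b.2 (congrArg Fin.val h))
  obtain ⟨g, hg⟩ := EData.exists_induces co hX (n := n⁻¹) fun v hv => by
    obtain ⟨w, hw⟩ := (Finite.injective_iff_surjective.1 hF) ⟨v, hv⟩
    refine ⟨w, w.2, ?_⟩
    have := (hn w w.2).2
    rw [show f w = v from congrArg Fin.val hw] at this
    rw [← this]; group
  have h1 := hg.mul hn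
  rw [inv_mul_cancel] at h1
  exact ⟨g, hg, fun v hv => (EData.Induces.one (X := X) (co := co)).unique hX h1 v hv |>.symm⟩

/-- Every map preserving the marked vectors is induced. -/
theorem induce (hF : Fused U X co) (hX : X.Valid D K) (hP : P.Valid D K) (hU : U.Valid X P D) [Finite G]
    {f : Nat → Nat} (hf : U.Pres f) (ht1 : U.O.testBit 1 = true) : ∃ n, X.Induces co n f := by
  obtain ⟨n, g, hn, hg1⟩ := hF.move (f 1) (hf.lt 1 (by norm_num)) (by rw [hf.O 1 (by norm_num)]; exact ht1)
  obtain ⟨gi, hni, hgi⟩ := induces_inv hX hn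
  have hp := pres hF hX hni
  have hf' : U.Pres (fun v => gi (f v)) :=
    { lt := fun v hv => hp.lt _ (hf.lt v hv)
      add := fun a b ha hb => by rw [hf.add a b ha hb, hp.add _ _ (hf.lt a ha) (hf.lt b hb)]
      O := fun v hv => by rw [hp.O _ (hf.lt v hv), hf.O v hv] }
  obtain ⟨e, he, hev⟩ := AutData.stab_spec hU hf' (by show gi (f 1) = 1; rw [← hg1, hgi 1 (by norm_num)])
  have hK := List.all_eq_true.1 hU.K e he
  simp only [AutData.checkK, Bool.and_eq_true] at hK
  obtain ⟨hc, hK⟩ := hK
  have hc := Nat.ble_eq.mp hc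
  have hk : X.Induces co (co.ψ e.2) (fun v => gi (f v)) := fun v hv => by
    have h := Tables.all_lt hK hv
    simp only [Bool.and_eq_true] at h
    obtain ⟨hl, he'⟩ := PairData.cj_spec hP co hc (EData.el_lt hX hv)
    refine ⟨hf'.lt v hv, ?_⟩
    show co.ψ e.2 * co.ψ (X.el v) * (co.ψ e.2)⁻¹ = co.ψ (X.el (gi (f v)))
    rw [← he', Nat.eq_of_beq_eq_true h.2, hev v hv]
  refine ⟨n * co.ψ e.2, (hn.mul hk).congr fun v hv => ?_⟩
  have h1 := hn.mul hni
  rw [mul_inv_cancel] at h1
  exact (EData.Induces.one (X := X) (co := co)).unique hX h1 _ (hf.lt v hv) |>.symm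

theorem cc_pres (hU : U.Valid X P D) : U.Pres U.cc :=
  { lt := fun v hv => (AutData.cc_spec hU hv).1
    add := fun a b ha hb => (AutData.cc_spec hU ha).2.2.2.2 b hb
    O := fun v hv => by
      by_cases h0 : v = 0
      · subst h0
        have := (AutData.cc_spec hU hv).2.2.2.2 0 hv
        rw [Nat.xor_self, Nat.xor_self] at this
        rw [this]
      · exact ((AutData.cc_spec hU hv).2.1 h0).2 }

/-- An element of order three inducing `cc`. -/
theorem exists_x (hF : Fused U X co) (hX : X.Valid D K) (hP : P.Valid D K) (hU : U.Valid X P D) [Finite G]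
    (ht1 : U.O.testBit 1 = true) : ∃ x, X.Induces co x U.cc ∧ x ^ 3 = 1 := by
  obtain ⟨n, hn⟩ := induce hF hX hP hU (cc_pres hU) ht1
  have h3 : X.Induces co (n * (n * n)) id :=
    (hn.mul (hn.mul hn)).congr fun v hv => (AutData.cc_spec hU hv).2.2.1
  obtain ⟨v, hv, he⟩ := EData.Induces.one.eq_mul hX h3
  rw [one_mul] at he
  refine ⟨n * (n * (n * n)), (hn.mul h3).congr fun v hv => rfl, ?_⟩
  have h12 : (n * (n * (n * n))) ^ 3 = (n * (n * n)) * (n * (n * n)) * ((n * (n * n)) * (n * (n * n))) := by
    simp [pow_succ, pow_zero, mul_assoc]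
  rw [h12, he, EData.E_sq co hX hv, one_mul]

/-- The elements of `L` inducing the identity are trivial. -/
theorem L_one (hX : X.Valid D K) (hU : U.Valid X P D) {x m : G} (hx : X.Induces co x U.cc)
    (hm : X.Induces co m id) (hL : InL x m) : m = 1 := by
  obtain ⟨v, hv, he⟩ := EData.Induces.one.eq_mul hX hm
  rw [one_mul] at he
  subst he
  have hsq := EData.E_sq co hX hv
  have hinv : (X.E co v)⁻¹ = X.E co v := inv_eq_of_mul_eq_one_right hsq
  rcases hL with h | h
  · by_contra hne
    have h0 : v ≠ 0 := fun e => hne (by rw [e, EData.E_zero co hX])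
    refine ((AutData.cc_spec hU hv).2.1 h0).1 (EData.E_inj co hX (hx v hv).1 hv ?_)
    rw [← (hx v hv).2]
    have : x * X.E co v = X.E co v * x := by
      calc x * X.E co v = (X.E co v * x * (X.E co v)⁻¹) * X.E co v := by rw [h]
        _ = X.E co v * x := by group
    rw [this, mul_inv_cancel_right]
  · exfalso
    have h1 : X.Induces co x⁻¹ U.cc := by
      rw [← h]
      have hm' : X.Induces co (X.E co v)⁻¹ id := by rw [hinv]; exact hm
      exact ((hm.mul hx).mul hm').congr fun w hw => rfl
    have h2 := h1.mul hx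
    rw [inv_mul_cancel] at h2
    have hid := (EData.Induces.one (X := X) (co := co)).unique hX h2 1 (by norm_num)
    obtain ⟨hlt, hne, h3, -, -⟩ := AutData.cc_spec hU (show 1 < 64 by norm_num)
    refine (hne one_ne_zero).1 ?_
    calc U.cc 1 = U.cc (U.cc (U.cc 1)) := by conv_lhs => rw [show (1:ℕ) = U.cc (U.cc 1) from hid]
      _ = 1 := h3

/-- `L` is faithful on the subgroup. -/
theorem L_unique (hX : X.Valid D K) (hU : U.Valid X P D) [Finite G] {x a b : G} (hx : X.Induces co x U.cc)
    {f g : Nat → Nat} (ha : X.Induces co a f) (hb : X.Induces co b g) (hla : InL x a) (hlb : InL x b)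
    (hfg : ∀ v, v < 64 → f v = g v) : a = b := by
  obtain ⟨ai, hai, haf⟩ := induces_inv hX ha
  have h := L_one hX hU hx ((hai.mul hb).congr fun v hv => by
    show ai (g v) = v
    rw [← hfg v hv, haf v hv]) (hla.inv.mul hlb)
  exact inv_mul_eq_one.1 h

/-- Every map normalising `cc` is induced in `L`. -/
theorem L_exists (hF : Fused U X co) (hX : X.Valid D K) (hP : P.Valid D K) (hU : U.Valid X P D) [Finite G]
    (ht1 : U.O.testBit 1 = true) {x : G} (hx : X.Induces co x U.cc) (hx3 : x ^ 3 = 1) {f : Nat → Nat}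
    (hf : U.Pres f) (hn : (∀ v, v < 64 → f (U.cc v) = U.cc (f v)) ∨ ∀ v, v < 64 → f (U.cc v) = U.cc (U.cc (f v))) :
    ∃ m, X.Induces co m f ∧ InL x m := by
  obtain ⟨n, hnf⟩ := induce hF hX hP hU hf ht1
  obtain ⟨g, hni, hg⟩ := induces_inv hX hnf
  have hfg : ∀ v, v < 64 → f (g v) = v := fun v hv => by
    have h1 := hnf.mul hni
    rw [mul_inv_cancel] at h1
    exact ((EData.Induces.one (X := X) (co := co)).unique hX h1 v hv).symm
  -- the conjugate of `x`, or of its inverse, inducing `cc`
  obtain ⟨y, s, hy, hs, hsy⟩ : ∃ y s, X.Induces co y U.cc ∧ (s = x ∨ s = x⁻¹) ∧ n * s * n⁻¹ = y := by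
    rcases hn with hn | hn
    · refine ⟨_, x, ((hnf.mul hx).mul hni).congr fun v hv => ?_, Or.inl rfl, rfl⟩
      show f (U.cc (g v)) = U.cc v
      rw [hn _ (hni v hv).1, hfg v hv]
    · have hxi : X.Induces co x⁻¹ (fun v => U.cc (U.cc v)) := by
        have : x⁻¹ = x * x := inv_eq_of_mul_eq_one_right (by rw [← hx3]; simp [pow_succ, mul_assoc])
        rw [this]; exact hx.mul hx
      refine ⟨_, x⁻¹, ((hnf.mul hxi).mul hni).congr fun v hv => ?_, Or.inr rfl, rfl⟩
      show f (U.cc (U.cc (g v))) = U.cc v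
      have h1 := (AutData.cc_spec hU (hni v hv).1).1
      rw [hn _ h1, hn _ (hni v hv).1, hfg v hv]
      have h2 := AutData.cc_spec hU hv
      exact congrArg U.cc h2.2.2.1
  obtain ⟨v, hv, he⟩ := hx.eq_mul hX hy
  obtain ⟨hcv, hcv'⟩ := hx v hv
  obtain ⟨w, hw, hwv⟩ := (AutData.cc_spec hU hcv).2.2.2.1
  obtain ⟨hcw, hcw'⟩ := hx w hw
  have hwf : X.Induces co (X.E co w) id := fun a ha => ⟨ha, by
    rw [(EData.E_comm co hX hw ha).eq, mul_inv_cancel_right]; rfl⟩
  refine ⟨X.E co w * n, (hwf.mul hnf).congr fun a ha => rfl, ?_⟩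
  have key : X.E co w * n * s * (X.E co w * n)⁻¹ = x := by
    have hwi : (X.E co w)⁻¹ = X.E co w := inv_eq_of_mul_eq_one_right (EData.E_sq co hX hw)
    have e1 : X.E co w * y * (X.E co w)⁻¹ = X.E co w * (X.E co (U.cc v) * X.E co (U.cc w)) * x := by
      rw [← hcv', ← hcw', he, hwi]; group
    have e2 : X.E co w * (X.E co (U.cc v) * X.E co (U.cc w)) = 1 := by
      rw [EData.E_mul co hX hcv hcw, EData.E_mul co hX hw (Nat.xor_lt_two_pow (n := 6) hcv hcw)]
      have : w ^^^ (U.cc v ^^^ U.cc w) = 0 := by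
        rw [← hwv, Nat.xor_comm (w ^^^ U.cc w), ← Nat.xor_assoc]
        simp [Nat.xor_assoc, Nat.xor_comm, Nat.xor_left_comm]
      rw [this, EData.E_zero co hX]
    calc X.E co w * n * s * (X.E co w * n)⁻¹ = X.E co w * (n * s * n⁻¹) * (X.E co w)⁻¹ := by group
      _ = x := by rw [hsy, e1, e2, one_mul]
  rcases hs with rfl | rfl
  · exact Or.inl key
  · right
    calc X.E co w * n * x * (X.E co w * n)⁻¹ = (X.E co w * n * x⁻¹ * (X.E co w * n)⁻¹)⁻¹ := by group
      _ = x⁻¹ := by rw [key]

end Fused

end Cfsg.Agent.HeRecog
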