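import Cfsg.Agent.HeRecog.Acts
import Cfsg.Agent.HeRecog.O6D.Main

/-! The two maps in normal form, and the gauge of signs. -/

set_option autoImplicit false
set_option linter.all false

namespace Cfsg.Agent.HeRecog

open Cfsg.Agent.CosetCert

variable {G : Type*} [Group G] {e : Nat → G} {z : G}

theorem O6.Iso.inj {f : Nat → Nat} (hf : O6.Iso f) {a b : Nat} (ha : a < 64) (hb : b < 64) (h : f a = f b) : a = b := by
  have hx : Nat.xor a b < 64 := Nat.xor_lt_two_pow (n := 6) ha hb
  have h0 : f (Nat.xor a b) = 0 := by rw [hf.add a b ha hb, h]; exact Nat.xor_self _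
  have key : ∀ c : Fin 64, (∀ u : Fin 64, O6.bf c u = 0) → (c : Nat) = 0 := by decide +kernel
  have hz : ∀ u : Fin 64, O6.bf 0 u = 0 := by decide +kernel
  have hc := key ⟨_, hx⟩ fun u => by
    show O6.bf (Nat.xor a b) u = 0
    rw [← hf.bf_eq hx u.2, h0]
    exact hz ⟨f u, hf.lt u u.2⟩
  have hc : a ^^^ b = 0 := hc
  calc a = (a ^^^ b) ^^^ b := by rw [Nat.xor_assoc, Nat.xor_self, Nat.xor_zero]
    _ = b := by rw [hc, Nat.zero_xor]

/-- The new basis. -/
def rebase (e : Nat → G) (z : G) (T : Nat → Nat) (i : Nat) : G := qel e z (2 * T (2 ^ i))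

namespace Ext

theorem rebase_spec (h : Ext e z) {T : Nat → Nat} (hT : O6.Iso T) :
    Ext (rebase e z T) z ∧ ∀ a, a < 128 → ∃ b, b < 128 ∧ b / 2 = T (a / 2) ∧ qel (rebase e z T) z a = qel e z b := by
  classical
  have hl : ∀ i, i < 6 → 2 * T (2 ^ i) < 128 := fun i hi => by
    have := hT.lt (2 ^ i) (Nat.pow_lt_pow_right (by norm_num) (by omega : i < 6)); omega
  have hp : ∀ i, i < 6 → (2 : ℕ) ^ i < 64 := fun i hi => Nat.pow_lt_pow_right (by norm_num) (by omega : i < 6)
  have sw : ∀ u v : Fin 64, qmul (2 * u) (2 * v) = qmul (qmul (2 * v) (2 * u)) (O6.bf u v) := by decide +kernel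
  have hsw : ∀ i j, i < 6 → j < 6 → rebase e z T i * rebase e z T j =
      rebase e z T j * rebase e z T i * qel e z (O6.bf (2 ^ i) (2 ^ j)) := fun i j hi hj => by
    simp only [rebase]
    rw [h.q.qel_mul (hl i hi) (hl j hj), h.q.qel_mul (hl j hj) (hl i hi),
      h.q.qel_mul (Tables.qmul_lt (hl j hj) (hl i hi)) (show O6.bf (2 ^ i) (2 ^ j) < 128 by unfold O6.bf; omega),
      sw ⟨_, hT.lt _ (hp i hi)⟩ ⟨_, hT.lt _ (hp j hj)⟩, hT.bf_eq (hp i hi) (hp j hj)]
  have q0 : ∀ i : Fin 6, O6.qf (2 ^ (i : Nat)) = 0 := by decide +kernel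
  have hq : QGens (rebase e z T) z :=
    { sq := fun i hi => by
        have key : ∀ u : Fin 64, qmul (2 * u) (2 * u) = O6.qf u := by decide +kernel
        show qel e z _ * qel e z _ = 1
        rw [h.q.qel_mul (hl i hi) (hl i hi), key ⟨_, hT.lt _ (hp i hi)⟩]
        simp only []
        rw [hT.q _ (hp i hi), q0 ⟨i, hi⟩, QGens.qel_zero]
      zsq := h.q.zsq
      zne := h.q.zne
      zcomm := fun i hi => (h.qel_comm (hl i hi)).symm.eq
      pair := fun i hi => by
        have key : ∀ i : Fin 3, O6.bf (2 ^ (i : Nat)) (2 ^ ((i : Nat) + 3)) = 1 := by decide +kernel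
        rw [hsw i (i + 3) (by omega) (by omega), key ⟨i, hi⟩, QGens.qel_one]
      comm := fun i j hi hj h1 h2 => by
        have key : ∀ i j : Fin 6, (i : Nat) ≠ (j : Nat) + 3 → (j : Nat) ≠ (i : Nat) + 3 →
            O6.bf (2 ^ (i : Nat)) (2 ^ (j : Nat)) = 0 := by decide +kernel
        rw [hsw i j hi hj, key ⟨i, hi⟩ ⟨j, hj⟩ h1 h2, QGens.qel_zero, mul_one] }
  have hmap : ∀ a, a < 128 → ∃ b, b < 128 ∧ b / 2 = T (a / 2) ∧ qel (rebase e z T) z a = qel e z b := by
    have hT0 : T 0 = 0 := by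
      have := hT.add 0 0 (by norm_num) (by norm_num)
      rw [show Nat.xor 0 0 = 0 from rfl, show Nat.xor (T 0) (T 0) = 0 from Nat.xor_self _] at this
      exact this
    refine Tables.qel_gens hq ⟨0, by norm_num, by simp [hT0], by rw [QGens.qel_zero, QGens.qel_zero]⟩
      ⟨1, by norm_num, by simp [hT0], by rw [QGens.qel_one, QGens.qel_one]⟩ (fun i hi => ?_) ?_
    · refine ⟨2 * T (2 ^ i), hl i hi, ?_, ?_⟩
      · rw [show 2 * T (2 ^ i) / 2 = T (2 ^ i) by omega, show 2 * 2 ^ i / 2 = 2 ^ i by omega]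
      · interval_cases i <;> simp [qel, part, rebase]
    · rintro a b ha hb ⟨a', ha', va, ea⟩ ⟨b', hb', vb, eb⟩
      refine ⟨qmul a' b', Tables.qmul_lt ha' hb', ?_, by rw [← hq.qel_mul ha hb, ← h.q.qel_mul ha' hb', ea, eb]⟩
      rw [qmul_vec, qmul_vec, va, vb, hT.add _ _ (by omega) (by omega)]
  choose F hF using fun a : Fin 128 => hmap a a.2
  have hFi : Function.Injective fun a : Fin 128 => (⟨F a, (hF a).1⟩ : Fin 128) := fun a b hab =>
    Fin.ext (hq.qel_injective a.2 b.2 (by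
      rw [(hF a).2.2, (hF b).2.2, show F a = F b from congrArg Fin.val hab]))
  have hback : ∀ b, b < 128 → ∃ a, a < 128 ∧ qel (rebase e z T) z a = qel e z b := fun b hb => by
    obtain ⟨a, ha⟩ := (Finite.injective_iff_surjective.1 hFi) ⟨b, hb⟩
    exact ⟨a, a.2, by rw [(hF a).2.2, show F a = b from congrArg Fin.val ha]⟩
  refine ⟨⟨hq, fun i hi => h.qel_comm (hl i hi), fun g hg i hi => ?_, fun g hg hc => ?_⟩, hmap⟩
  · obtain ⟨f, -, hf⟩ := h.exists_act hg
    obtain ⟨b, hb, -, he⟩ := hf.conj _ (hl i hi)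
    obtain ⟨a, ha, ea⟩ := hback b hb
    exact ⟨a, ha, by rw [ea]; exact he⟩
  · have hall : ∀ a, a < 128 → Commute g (qel (rebase e z T) z a) := by
      refine Tables.qel_gens hq (by rw [QGens.qel_zero]; exact Commute.one_right g)
        (by rw [QGens.qel_one]; exact hg) (fun i hi => ?_) (fun a b ha hb h1 h2 => ?_)
      · rw [show qel (rebase e z T) z (2 * 2 ^ i) = rebase e z T i by interval_cases i <;> simp [qel, part]]
        exact hc i hi
      · rw [← hq.qel_mul ha hb]; exact h1.mul_right h2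
    obtain ⟨b, hb, he⟩ := h.cent g hg fun i hi => by
      obtain ⟨a, ha, ea⟩ := hback (2 * 2 ^ i) (by interval_cases i <;> norm_num)
      rw [← h.qel_gen hi, ← ea]
      exact hall a ha
    obtain ⟨a, ha, ea⟩ := hback b hb
    exact ⟨a, ha, by rw [ea]; exact he⟩

theorem acts_rebase (h : Ext e z) {T f M : Nat → Nat} (hT : O6.Iso T) {g : G} (hg : Acts e z g f)
    (hM : ∀ v, v < 64 → M v < 64) (hfM : ∀ v, v < 64 → f (T v) = T (M v)) : Acts (rebase e z T) z g M := by
  obtain ⟨h', hmap⟩ := h.rebase_spec hT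
  obtain ⟨f', hf', hgf⟩ := h'.exists_act hg.mem
  refine hgf.congr fun v hv => hT.inj (hf'.lt v hv) (hM v hv) ?_
  obtain ⟨a, ha, hav, hae⟩ := hgf.conj (2 * v) (by omega)
  obtain ⟨b, hb, hbv, hbe⟩ := hmap (2 * v) (by omega)
  obtain ⟨c, hc, hcv, hce⟩ := hmap a ha
  obtain ⟨d, hd, hdv, hde⟩ := hg.conj b hb
  rw [show 2 * v / 2 = v by omega] at hav hbv
  have := h.q.qel_injective hc hd (by rw [← hce, ← hae, hbe, hde])
  rw [← hfM v hv, ← hbv, ← hdv, ← this, hcv, hav]

end Ext

/-- Words of maps induced by elements acting. -/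
theorem isId_of (h : Ext e z) (w : List Nat) (el : Nat → G) (hel : ∀ g ∈ w, Acts e z (el g) (O6.lin g))
    {a : Nat} (ha : a < 128) (he : (w.map el).prod = qel e z a) : O6.isId w = true := by
  have key : ∀ w : List Nat, (∀ g ∈ w, Acts e z (el g) (O6.lin g)) → Acts e z (w.map el).prod (O6.linW w) := by
    intro w
    induction w with
    | nil => exact fun _ => Acts.one e z
    | cons b w ih =>
      intro hh
      rw [List.map_cons, List.prod_cons]
      exact (hh b (List.mem_cons_self ..)).mul (ih fun g hg => hh g (List.mem_cons_of_mem _ hg))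
  refine (allFrom_iff _ _ _).2 fun i _ hi => ?_
  have h1 := key w hel
  rw [he] at h1
  rw [h1.unique h (h.acts_qel ha) (Nat.pow_lt_pow_right (by norm_num) (by omega : i < 6))]
  exact Nat.beq_refl _

theorem linW_congr {w : List Nat} {v v' : Nat} (h : v = v') : O6.linW w v = O6.linW w v' := by rw [h]

theorem linW_add : ∀ (u : List Nat) (a b : Nat), O6.linW u (Nat.xor a b) = Nat.xor (O6.linW u a) (O6.linW u b) := by
  intro u
  induction u with
  | nil => exact fun a b => rfl
  | cons g u ih =>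
    intro a b
    show O6.lin g (O6.linW u _) = Nat.xor (O6.lin g (O6.linW u a)) (O6.lin g (O6.linW u b))
    rw [ih, O6.lin_add]

theorem agree_spec {u w : List Nat} (h : O6.agree u w = true) : ∀ v, v < 64 → O6.linW u v = O6.linW w v := by
  refine O6.ext_basis (fun a b _ _ => linW_add u a b) (fun a b _ _ => linW_add w a b) fun i hi => ?_
  unfold O6.agree at h
  exact Nat.eq_of_beq_eq_true (Tables.all_lt h hi)

theorem isId_spec {w : List Nat} (h : O6.isId w = true) : ∀ v, v < 64 → O6.linW w v = v := by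
  refine O6.ext_basis (g := fun v => v) (fun a b _ _ => linW_add w a b) (fun a b _ _ => rfl) fun i hi => ?_
  unfold O6.isId at h
  exact Nat.eq_of_beq_eq_true (Tables.all_lt h hi)

theorem leaf_fst {O : O6.Data} {g : Nat} (h : O6.leaf O g = true) (h2 : O6.isId [g, g] = true)
    (h1 : O6.isId [g] = false) : ∃ e ∈ O.TA, e.A = g := by
  rw [O6.leaf, h2, h1] at h
  simp only [Bool.not_false, Bool.and_self, cond_true, Bool.and_eq_true, List.any_eq_true] at h
  obtain ⟨⟨e, he, hb⟩, -⟩ := h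
  exact ⟨e, he, Nat.eq_of_beq_eq_true hb⟩

theorem leaf_snd {O : O6.Data} {g k : Nat} (h : O6.leaf O g = true) (h3 : O6.isId [g, g, g] = true)
    (h1 : O6.isId [g] = false) (hk : k < O.reps.length) (hp : O6.pairOK (O.reps.getD k 0) g = true) :
    ∃ e ∈ O.TB, e.k = k ∧ e.B = g := by
  rw [O6.leaf, h3, h1] at h
  simp only [Bool.not_false, Bool.and_self, cond_true, Bool.and_eq_true] at h
  have hl := Tables.all_lt h.2 hk
  rw [hp] at hl
  simp only [Bool.not_true, Bool.false_or, List.any_eq_true, Bool.and_eq_true] at hl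
  obtain ⟨e, he, hek, heB⟩ := hl
  exact ⟨e, he, Nat.eq_of_beq_eq_true hek, Nat.eq_of_beq_eq_true heB⟩

theorem linW_cons (a : Nat) (w : List Nat) (v : Nat) : O6.linW (a :: w) v = O6.lin a (O6.linW w v) := rfl

theorem linW_nil (v : Nat) : O6.linW [] v = v := rfl

theorem conj_word {A B Ak B' g : Nat} (hAg : ∀ v, v < 64 → O6.lin A (O6.lin g v) = O6.lin g (O6.lin Ak v))
    (hBg : ∀ v, v < 64 → O6.lin B (O6.lin g v) = O6.lin g (O6.lin B' v)) :
    ∀ w : List Bool, ∀ v, v < 64 → O6.linW (w.map fun b => cond b A B) (O6.lin g v) =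
      O6.lin g (O6.linW (w.map fun b => cond b Ak B') v) ∧ O6.linW (w.map fun b => cond b Ak B') v < 64 := by
  intro w
  induction w with
  | nil => intro v hv; rw [List.map_nil, List.map_nil, linW_nil, linW_nil]; exact ⟨rfl, hv⟩
  | cons b w ih =>
    intro v hv
    obtain ⟨i1, i2⟩ := ih v hv
    rw [List.map_cons, List.map_cons, linW_cons, linW_cons, i1]
    refine ⟨?_, O6.lin_lt _ _⟩
    cases b
    · rw [cond_false, cond_false]; exact hBg _ i2
    · rw [cond_true, cond_true]; exact hAg _ i2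

theorem conj_isId {A B Ak B' g : Nat} (hg : O6.Iso (O6.lin g))
    (hAg : ∀ v, v < 64 → O6.lin A (O6.lin g v) = O6.lin g (O6.lin Ak v))
    (hBg : ∀ v, v < 64 → O6.lin B (O6.lin g v) = O6.lin g (O6.lin B' v)) (w : List Bool) {u u' : List Nat}
    (hu : u = w.map fun b => cond b A B) (hu' : u' = w.map fun b => cond b Ak B')
    (h : O6.isId u = true) : O6.isId u' = true := by
  subst hu hu'
  have hid := isId_spec h
  rw [O6.isId]
  refine (allFrom_iff _ _ _).2 fun i _ hi => ?_
  have hp : (2 : Nat) ^ i < 64 := Nat.pow_lt_pow_right (by norm_num) (by omega : i < 6)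
  obtain ⟨t1, t2⟩ := conj_word hAg hBg w _ hp
  rw [hid _ (O6.lin_lt _ _)] at t1
  rw [← hg.inj hp t2 t1]
  exact Nat.beq_refl _

/-- The four relations. -/
def relW : List (List Nat) := [[0, 0], [1, 1, 1], [0, 1, 0, 1, 0, 1, 0, 1, 0, 1, 0, 1, 0, 1],
  [2, 3, 0, 1, 2, 3, 0, 1, 2, 3, 0, 1, 2, 3, 0, 1]]

/-- A value in the extraspecial subgroup. -/
def InQ (e : Nat → G) (z g : G) : Prop := ∃ a, a < 128 ∧ g = qel e z a

/-- Change of basis to a model and possibly of the second element to its inverse. -/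
theorem normal_form (h : Ext e z) {x y : G} (hx : Commute x z) (hy : Commute y z)
    (hrel : ∀ w ∈ relW, InQ e z (Tables.lprod x y w)) (hxn : ¬ InQ e z x) (hyn : ¬ InQ e z y) :
    ∃ (T : Nat → Nat) (m : Bool) (y' : G), Ext (rebase e z T) z ∧
      Acts (rebase e z T) z x (O6.lin (O6.O.MA m)) ∧ Acts (rebase e z T) z y' (O6.lin (O6.O.MB m)) := by
  classical
  obtain ⟨fA, hA, hxA⟩ := h.exists_act hx
  obtain ⟨fB, hB, hyB⟩ := h.exists_act hy
  obtain ⟨A, hAdef⟩ : ∃ A, A = O6.enc fA := ⟨_, rfl⟩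
  have hxA' : Acts e z x (O6.lin A) := hxA.congr fun v hv => by rw [hAdef, O6.lin_enc hA hv]
  obtain ⟨B, hBdef⟩ : ∃ B, B = O6.enc fB := ⟨_, rfl⟩
  have hyB' : Acts e z y (O6.lin B) := hyB.congr fun v hv => by rw [hBdef, O6.lin_enc hB hv]
  have r1 := hrel [0, 0] (by simp [relW])
  have r2 := hrel [1, 1, 1] (by simp [relW])
  have r3 := hrel [0, 1, 0, 1, 0, 1, 0, 1, 0, 1, 0, 1, 0, 1] (by simp [relW])
  have r4 := hrel [2, 3, 0, 1, 2, 3, 0, 1, 2, 3, 0, 1, 2, 3, 0, 1] (by simp [relW])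
  have notid : ∀ {g : G} {f : Nat → Nat}, ¬ InQ e z g → O6.Iso f → Acts e z g f → O6.isId [O6.enc f] = false := by
    intro g f hgn hf hg
    refine eq_false_of_ne_true fun hid => hgn (h.mem_of_id (hg.congr fun v hv => ?_))
    rw [← O6.lin_enc hf hv]
    exact isId_spec hid v hv
  have el : ∀ (g : G) (f : Nat), Acts e z g (O6.lin f) → ∀ b ∈ [f], Acts e z g (O6.lin b) := fun g f hg b hb => by
    rw [List.mem_singleton.1 hb]; exact hg
  have hAA : O6.isId [A, A] = true := by
    obtain ⟨a, ha, he⟩ := r1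
    exact isId_of h [A, A] (fun _ => x) (fun g hg => by simp at hg; rw [hg]; exact hxA') ha
      (by rw [← he]; simp [Tables.lprod, Tables.lt])
  have hBBB : O6.isId [B, B, B] = true := by
    obtain ⟨a, ha, he⟩ := r2
    exact isId_of h [B, B, B] (fun _ => y) (fun g hg => by simp at hg; rw [hg]; exact hyB') ha
      (by rw [← he]; simp [Tables.lprod, Tables.lt, mul_assoc])
  have hAf : ∀ v, v < 64 → O6.lin A (O6.lin A v) = v := fun v hv => isId_spec hAA v hv
  have hBf : ∀ v, v < 64 → O6.lin B (O6.lin B (O6.lin B v)) = v := fun v hv => isId_spec hBBB v hv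
  have hxi : Acts e z x⁻¹ (O6.lin A) := hxA'.inv (fun v _ => O6.lin_lt _ v) hAf h
  have hyi : Acts e z y⁻¹ (fun v => O6.lin B (O6.lin B v)) := hyB'.inv (fun v _ => O6.lin_lt _ _) hBf h
  -- the involution
  obtain ⟨eA, hmA, heA⟩ := leaf_fst (hAdef ▸ O6.leaf_iso hA) hAA (hAdef ▸ notid hxn hA hxA)
  have hcA := List.all_eq_true.1 O6.TA_ok eA hmA
  simp only [O6.checkA, Bool.and_eq_true] at hcA
  obtain ⟨hg, hgi, hgig, hk, hag⟩ := hcA
  rw [heA] at hag
  generalize eA.g = g at hg hgig hag ⊢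
  generalize eA.gi = gi at hgi hgig ⊢
  obtain ⟨Ak, hAk⟩ : ∃ Ak, Ak = O6.O.reps.getD eA.k 0 := ⟨_, rfl⟩
  rw [← hAk] at hag
  have hgig' : ∀ v, v < 64 → O6.lin gi (O6.lin g v) = v := fun v hv => isId_spec hgig v hv
  have hggi : ∀ v, v < 64 → O6.lin g (O6.lin gi v) = v := fun v hv =>
    (O6.iso_lin hgi).inj (O6.lin_lt _ _) hv (hgig' _ (O6.lin_lt _ _))
  have hAg : ∀ v, v < 64 → O6.lin A (O6.lin g v) = O6.lin g (O6.lin Ak v) := fun v hv => agree_spec hag v hv
  -- the element of order three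
  have hB2 : O6.Iso fun v => O6.lin gi (O6.lin B (O6.lin g v)) :=
    (O6.iso_lin hgi).comp ((hB.congr fun v hv => by rw [hBdef, O6.lin_enc hB hv]).comp (O6.iso_lin hg))
  obtain ⟨B', hB'def⟩ : ∃ B', B' = O6.enc (fun v => O6.lin gi (O6.lin B (O6.lin g v))) := ⟨_, rfl⟩
  have hB' : ∀ v, v < 64 → O6.lin B' v = O6.lin gi (O6.lin B (O6.lin g v)) := fun v hv => by
    rw [hB'def]; exact O6.lin_enc hB2 hv
  have hBg : ∀ v, v < 64 → O6.lin B (O6.lin g v) = O6.lin g (O6.lin B' v) := fun v hv => by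
    rw [hB' v hv, hggi _ (O6.lin_lt _ _)]
  have h7 : O6.isId [A, B, A, B, A, B, A, B, A, B, A, B, A, B] = true := by
    obtain ⟨a, ha, he⟩ := r3
    refine isId_of h _ (fun f => if f = A then x else y) (fun f hf => ?_) ha ?_
    · split_ifs with hfA
      · rw [hfA]; exact hxA'
      · simp only [List.mem_cons, List.not_mem_nil, or_false] at hf
        rw [show f = B by tauto]; exact hyB'
    · have hne : B ≠ A := fun e => by
        have := isId_spec hBBB
        have h1 : O6.isId [B] = true := by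
          refine (allFrom_iff _ _ _).2 fun i _ hi => ?_
          have hp : (2 : ℕ) ^ i < 64 := Nat.pow_lt_pow_right (by norm_num) (by omega : i < 6)
          have h3 := hBf _ hp
          rw [e, hAf _ (O6.lin_lt _ _)] at h3
          show Nat.beq (O6.lin B (2 ^ i)) (2 ^ i) = true
          rw [e, h3]
          exact Nat.beq_refl _
        exact Bool.noConfusion ((hBdef ▸ notid hyn hB hyB : O6.isId [B] = false).symm.trans h1)
      rw [← he]
      simp [Tables.lprod, Tables.lt, hne, mul_assoc]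
  have h4 : O6.isId [A, B, B, A, B, A, B, B, A, B, A, B, B, A, B, A, B, B, A, B] = true := by
    obtain ⟨a, ha, he⟩ := r4
    refine (allFrom_iff _ _ _).2 fun i _ hi => ?_
    have hp : (2 : ℕ) ^ i < 64 := Nat.pow_lt_pow_right (by norm_num) (by omega : i < 6)
    have hw := (hxi.mul (hyi.mul (hxA'.mul (hyB'.mul (hxi.mul (hyi.mul (hxA'.mul (hyB'.mul
      (hxi.mul (hyi.mul (hxA'.mul (hyB'.mul (hxi.mul (hyi.mul (hxA'.mul hyB')))))))))))))))
    have he' : x⁻¹ * (y⁻¹ * (x * (y * (x⁻¹ * (y⁻¹ * (x * (y * (x⁻¹ * (y⁻¹ * (x * (y * (x⁻¹ * (y⁻¹ * (x * y)))))))))))))) =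
        qel e z a := by rw [← he]; simp [Tables.lprod, Tables.lt, mul_assoc]
    rw [he'] at hw
    show Nat.beq (O6.linW _ (2 ^ i)) (2 ^ i) = true
    rw [show O6.linW [A, B, B, A, B, A, B, B, A, B, A, B, B, A, B, A, B, B, A, B] (2 ^ i) = _ from hw.unique h (h.acts_qel ha) hp]
    exact Nat.beq_refl _
  have hB'3 : O6.isId [B', B', B'] = true := conj_isId (O6.iso_lin hg) hAg hBg [false, false, false] (by simp only [List.map_cons, List.map_nil, cond_false]) (by simp only [List.map_cons, List.map_nil, cond_false]) hBBB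
  have hB'1 : O6.isId [B'] = false := eq_false_of_ne_true fun hid => by
    have h1 : O6.isId [B] = true := by
      refine (allFrom_iff _ _ _).2 fun i _ hi => ?_
      have hp : (2 : ℕ) ^ i < 64 := Nat.pow_lt_pow_right (by norm_num) (by omega : i < 6)
      show Nat.beq (O6.lin B (2 ^ i)) (2 ^ i) = true
      have h3 := hBg _ (O6.lin_lt gi (2 ^ i))
      rw [hggi _ hp, show O6.lin B' (O6.lin gi (2 ^ i)) = _ from isId_spec hid _ (O6.lin_lt _ _), hggi _ hp] at h3
      rw [h3]
      exact Nat.beq_refl _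
    exact Bool.noConfusion ((hBdef ▸ notid hyn hB hyB : O6.isId [B] = false).symm.trans h1)
  have hk' := Nat.ble_eq.mp hk
  have hpair : O6.pairOK Ak B' = true := by
    simp only [O6.pairOK, Bool.and_eq_true]
    exact ⟨conj_isId (O6.iso_lin hg) hAg hBg [true, false, true, false, true, false, true, false, true, false, true, false, true, false]
        (by simp only [List.map_cons, List.map_nil, cond_false, cond_true]) (by simp only [List.map_cons, List.map_nil, cond_false, cond_true]) h7,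
      conj_isId (O6.iso_lin hg) hAg hBg [true, false, false, true, false, true, false, false, true, false, true, false, false, true, false,
        true, false, false, true, false] (by simp only [List.map_cons, List.map_nil, cond_false, cond_true]) (by simp only [List.map_cons, List.map_nil, cond_false, cond_true]) h4⟩
  obtain ⟨eB, hmB, hkB, heB⟩ := leaf_snd (hB'def ▸ O6.leaf_iso hB2) hB'3 hB'1 hk' (hAk ▸ hpair)
  have hcB := List.all_eq_true.1 O6.TB_ok eB hmB
  simp only [O6.checkB, Bool.and_eq_true] at hcB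
  obtain ⟨hh, hah, hbh⟩ := hcB
  rw [hkB, ← hAk] at hah
  rw [heB] at hbh
  set m := eB.model
  have hT : O6.Iso fun v => O6.lin g (O6.lin eB.h v) := (O6.iso_lin hg).comp (O6.iso_lin hh)
  have hxT : ∀ v, v < 64 → O6.lin A (O6.lin g (O6.lin eB.h v)) = O6.lin g (O6.lin eB.h (O6.lin (O6.O.MA m) v)) :=
    fun v hv => by
      rw [hAg _ (O6.lin_lt _ _)]
      exact congrArg _ (agree_spec hah v hv)
  cases hs : eB.sq with
  | false =>
    rw [hs, cond_false] at hbh
    refine ⟨_, m, y, (h.rebase_spec hT).1, h.acts_rebase hT hxA' (fun v _ => O6.lin_lt _ v) hxT,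
      h.acts_rebase hT hyB' (fun v _ => O6.lin_lt _ v) fun v hv => ?_⟩
    rw [hBg _ (O6.lin_lt _ _)]
    exact congrArg _ (agree_spec hbh v hv)
  | true =>
    rw [hs, cond_true] at hbh
    refine ⟨_, m, y⁻¹, (h.rebase_spec hT).1, h.acts_rebase hT hxA' (fun v _ => O6.lin_lt _ v) hxT,
      h.acts_rebase hT hyi (fun v _ => O6.lin_lt _ v) fun v hv => ?_⟩
    show O6.lin B (O6.lin B _) = _
    rw [hBg _ (O6.lin_lt _ _), hBg _ (O6.lin_lt _ _)]
    exact congrArg _ (agree_spec hbh v hv)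

end Cfsg.Agent.HeRecog
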