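import Cfsg.Agent.HeRecog.Model

/-! Linear maps preserving the quadratic form on six coordinates, as numbers: six fields of six bits. -/

set_option autoImplicit false
set_option linter.all false

namespace Cfsg.Agent.HeRecog.O6

open Cfsg.Agent.CosetCert

/-- The quadratic form. -/
def qf (v : Nat) : Nat := par3 ((v % 8) &&& (v / 8))

/-- Its bilinear form. -/
def bf (a b : Nat) : Nat := (qf (Nat.xor a b) + qf a + qf b) % 2

/-- A field of a map. -/
def fld (g i : Nat) : Nat := (g >>> (6 * i)) % 64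

/-- Apply a map. -/
noncomputable def lin (g v : Nat) : Nat :=
  Nat.xor (cond (Nat.testBit v 0) (fld g 0) 0) (Nat.xor (cond (Nat.testBit v 1) (fld g 1) 0)
    (Nat.xor (cond (Nat.testBit v 2) (fld g 2) 0) (Nat.xor (cond (Nat.testBit v 3) (fld g 3) 0)
      (Nat.xor (cond (Nat.testBit v 4) (fld g 4) 0) (cond (Nat.testBit v 5) (fld g 5) 0)))))

/-- A property of maps holds for all maps extending `g` on the first `6 - k` fields. -/
noncomputable def search (leaf : Nat → Bool) : Nat → Nat → Bool :=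
  fun k => Nat.rec leaf (fun k ih g => allFrom (fun c =>
    !(Nat.beq (qf c) 0 && allFrom (fun j => Nat.beq (bf c (fld g j)) (cond (Nat.beq (5 - k) (j + 3)) 1 0)) 0 (5 - k)) ||
      ih (g + c * 2 ^ (6 * (5 - k)))) 0 64) k

/-- The identity. -/
def one : Nat := 1 + 2 * 2 ^ 6 + 4 * 2 ^ 12 + 8 * 2 ^ 18 + 16 * 2 ^ 24 + 32 * 2 ^ 30

/-- The composite of a list of maps on a vector. -/
noncomputable def linW (w : List Nat) (v : Nat) : Nat := List.rec v (fun g _ ih => lin g ih) w

/-- A word of maps fixes the six basis vectors. -/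
noncomputable def isId (w : List Nat) : Bool := allFrom (fun i => Nat.beq (linW w (2 ^ i)) (2 ^ i)) 0 6

/-- Two words of maps agree on the basis. -/
noncomputable def agree (u w : List Nat) : Bool :=
  allFrom (fun i => Nat.beq (linW u (2 ^ i)) (linW w (2 ^ i))) 0 6

/-- The number is a map preserving the form. -/
noncomputable def isPres (g : Nat) : Bool := allFrom (fun v => Nat.beq (qf (lin g v)) (qf v)) 0 64

/-- An additive map preserving the form. -/
structure Iso (f : Nat → Nat) : Prop where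
  lt : ∀ v, v < 64 → f v < 64
  add : ∀ a b, a < 64 → b < 64 → f (Nat.xor a b) = Nat.xor (f a) (f b)
  q : ∀ v, v < 64 → qf (f v) = qf v

theorem fld_lt (g i : Nat) : fld g i < 64 := Nat.mod_lt _ (by norm_num)

theorem lin_lt (g v : Nat) : lin g v < 64 := by
  have hc : ∀ b i, cond b (fld g i) 0 < 64 := fun b i => by cases b <;> simp [fld_lt]
  unfold lin
  exact Nat.xor_lt_two_pow (n := 6) (hc _ _) (Nat.xor_lt_two_pow (n := 6) (hc _ _) (Nat.xor_lt_two_pow (n := 6) (hc _ _)
    (Nat.xor_lt_two_pow (n := 6) (hc _ _) (Nat.xor_lt_two_pow (n := 6) (hc _ _) (hc _ _)))))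

theorem lin_add (g a b : Nat) : lin g (Nat.xor a b) = Nat.xor (lin g a) (lin g b) := by
  have hc : ∀ i, cond (Nat.testBit (a ^^^ b) i) (fld g i) 0 =
      cond (Nat.testBit a i) (fld g i) 0 ^^^ cond (Nat.testBit b i) (fld g i) 0 := fun i => by
    rw [Nat.testBit_xor]
    cases Nat.testBit a i <;> cases Nat.testBit b i <;> simp
  show _ = lin g a ^^^ lin g b
  unfold lin
  show cond (Nat.testBit (a ^^^ b) 0) (fld g 0) 0 ^^^ _ = _
  rw [hc 0]
  show _ ^^^ (cond (Nat.testBit (a ^^^ b) 1) (fld g 1) 0 ^^^ (cond (Nat.testBit (a ^^^ b) 2) (fld g 2) 0 ^^^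
    (cond (Nat.testBit (a ^^^ b) 3) (fld g 3) 0 ^^^ (cond (Nat.testBit (a ^^^ b) 4) (fld g 4) 0 ^^^
      cond (Nat.testBit (a ^^^ b) 5) (fld g 5) 0)))) = _
  rw [hc 1, hc 2, hc 3, hc 4, hc 5]
  generalize cond (Nat.testBit a 0) (fld g 0) 0 = a0
  generalize cond (Nat.testBit a 1) (fld g 1) 0 = a1
  generalize cond (Nat.testBit a 2) (fld g 2) 0 = a2
  generalize cond (Nat.testBit a 3) (fld g 3) 0 = a3
  generalize cond (Nat.testBit a 4) (fld g 4) 0 = a4
  generalize cond (Nat.testBit a 5) (fld g 5) 0 = a5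
  generalize cond (Nat.testBit b 0) (fld g 0) 0 = b0
  generalize cond (Nat.testBit b 1) (fld g 1) 0 = b1
  generalize cond (Nat.testBit b 2) (fld g 2) 0 = b2
  generalize cond (Nat.testBit b 3) (fld g 3) 0 = b3
  generalize cond (Nat.testBit b 4) (fld g 4) 0 = b4
  generalize cond (Nat.testBit b 5) (fld g 5) 0 = b5
  show _ = (a0 ^^^ (a1 ^^^ (a2 ^^^ (a3 ^^^ (a4 ^^^ a5))))) ^^^ (b0 ^^^ (b1 ^^^ (b2 ^^^ (b3 ^^^ (b4 ^^^ b5)))))
  ac_rfl

theorem iso_lin {g : Nat} (h : isPres g = true) : Iso (lin g) :=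
  { lt := fun v _ => lin_lt g v
    add := fun a b _ _ => lin_add g a b
    q := fun v hv => Nat.eq_of_beq_eq_true (Tables.all_lt h hv) }

theorem Iso.comp {f g : Nat → Nat} (hf : Iso f) (hg : Iso g) : Iso fun v => f (g v) :=
  { lt := fun v hv => hf.lt _ (hg.lt v hv)
    add := fun a b ha hb => by rw [hg.add a b ha hb, hf.add _ _ (hg.lt a ha) (hg.lt b hb)]
    q := fun v hv => by rw [hf.q _ (hg.lt v hv), hg.q v hv] }

theorem Iso.congr {f g : Nat → Nat} (hf : Iso f) (h : ∀ v, v < 64 → f v = g v) : Iso g :=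
  { lt := fun v hv => h v hv ▸ hf.lt v hv
    add := fun a b ha hb => by
      rw [← h a ha, ← h b hb, ← hf.add a b ha hb]
      exact (h _ (Nat.xor_lt_two_pow (n := 6) ha hb)).symm
    q := fun v hv => by rw [← h v hv, hf.q v hv] }

theorem Iso.bf_eq {f : Nat → Nat} (hf : Iso f) {a b : Nat} (ha : a < 64) (hb : b < 64) : bf (f a) (f b) = bf a b := by
  have e : qf (f (Nat.xor a b)) = qf (Nat.xor a b) := hf.q _ (Nat.xor_lt_two_pow (n := 6) ha hb)
  rw [hf.add a b ha hb] at e
  unfold bf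
  rw [e, hf.q a ha, hf.q b hb]

theorem ext_basis {f g : Nat → Nat} (hf : ∀ a b, a < 64 → b < 64 → f (Nat.xor a b) = Nat.xor (f a) (f b))
    (hg : ∀ a b, a < 64 → b < 64 → g (Nat.xor a b) = Nat.xor (g a) (g b))
    (h : ∀ i, i < 6 → f (2 ^ i) = g (2 ^ i)) : ∀ v, v < 64 → f v = g v := by
  have h0 : ∀ f : Nat → Nat, (∀ a b, a < 64 → b < 64 → f (Nat.xor a b) = Nat.xor (f a) (f b)) → f 0 = 0 := fun f hf => by
    have := hf 0 0 (by norm_num) (by norm_num)
    rw [show Nat.xor 0 0 = 0 from Nat.xor_self 0, show Nat.xor (f 0) (f 0) = 0 from Nat.xor_self _] at this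
    exact this
  have key : ∀ k, k ≤ 6 → ∀ v, v < 2 ^ k → f v = g v := by
    intro k
    induction k with
    | zero => intro _ v hv; obtain rfl : v = 0 := by simp at hv; omega
              rw [h0 f hf, h0 g hg]
    | succ k ih =>
      intro hk v hv
      rcases lt_or_ge v (2 ^ k) with h' | h'
      · exact ih (by omega) v h'
      have hx : ∀ k : Fin 6, ∀ v : Fin 64, (v : Nat) < 2 ^ ((k : Nat) + 1) → 2 ^ (k : Nat) ≤ (v : Nat) →
          (v : Nat) ^^^ 2 ^ (k : Nat) < 2 ^ (k : Nat) := by decide +kernel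
      have hv64 : v < 64 := lt_of_lt_of_le hv (Nat.pow_le_pow_right (by norm_num) hk : 2 ^ (k + 1) ≤ 2 ^ 6)
      have hk64 : (2 : ℕ) ^ k < 64 := Nat.pow_lt_pow_right (by norm_num) (by omega : k < 6)
      have hs := hx ⟨k, by omega⟩ ⟨v, hv64⟩ hv h'
      have hs64 : v ^^^ 2 ^ k < 64 := lt_trans hs hk64
      have e1 : v = Nat.xor (v ^^^ 2 ^ k) (2 ^ k) := by
        show v = (v ^^^ 2 ^ k) ^^^ 2 ^ k
        rw [Nat.xor_assoc, Nat.xor_self, Nat.xor_zero]
      rw [e1, hf _ _ hs64 hk64, hg _ _ hs64 hk64, ih (by omega) _ hs, h k (by omega)]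
  exact key 6 le_rfl

/-- The number of a map. -/
def enc (f : Nat → Nat) : Nat :=
  f 1 + f 2 * 2 ^ 6 + f 4 * 2 ^ 12 + f 8 * 2 ^ 18 + f 16 * 2 ^ 24 + f 32 * 2 ^ 30

theorem fld_enc {f : Nat → Nat} (hf : Iso f) {i : Nat} (hi : i < 6) : fld (enc f) i = f (2 ^ i) := by
  have h1 := hf.lt 1 (by norm_num); have h2 := hf.lt 2 (by norm_num); have h3 := hf.lt 4 (by norm_num)
  have h4 := hf.lt 8 (by norm_num); have h5 := hf.lt 16 (by norm_num); have h6 := hf.lt 32 (by norm_num)
  unfold fld enc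
  rw [Nat.shiftRight_eq_div_pow]
  interval_cases i <;> simp only [Nat.reduceMul, Nat.reducePow] <;> omega

theorem lin_pow (g : Nat) {i : Nat} (hi : i < 6) : lin g (2 ^ i) = fld g i := by
  have key : ∀ (a : Fin 6 → Nat) (i : Fin 6),
      (cond (Nat.testBit (2 ^ (i : Nat)) 0) (a 0) 0) ^^^ ((cond (Nat.testBit (2 ^ (i : Nat)) 1) (a 1) 0) ^^^
        ((cond (Nat.testBit (2 ^ (i : Nat)) 2) (a 2) 0) ^^^ ((cond (Nat.testBit (2 ^ (i : Nat)) 3) (a 3) 0) ^^^
          ((cond (Nat.testBit (2 ^ (i : Nat)) 4) (a 4) 0) ^^^ (cond (Nat.testBit (2 ^ (i : Nat)) 5) (a 5) 0))))) = a i := by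
    intro a i
    fin_cases i <;> simp [Nat.testBit_two_pow, Nat.testBit]
  exact key (fun j => fld g j) ⟨i, hi⟩

theorem lin_enc {f : Nat → Nat} (hf : Iso f) {v : Nat} (hv : v < 64) : lin (enc f) v = f v :=
  ext_basis (fun a b _ _ => lin_add _ a b) hf.add (fun i hi => (lin_pow _ hi).trans (fld_enc hf hi)) v hv

theorem search_succ (leaf : Nat → Bool) (k : Nat) : search leaf (k + 1) = fun g => allFrom (fun c =>
    !(Nat.beq (qf c) 0 && allFrom (fun j => Nat.beq (bf c (fld g j)) (cond (Nat.beq (5 - k) (j + 3)) 1 0)) 0 (5 - k)) ||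
      search leaf k (g + c * 2 ^ (6 * (5 - k)))) 0 64 := by
  rfl

theorem search_step {leaf : Nat → Bool} {f : Nat → Nat} (hf : Iso f) {k g : Nat} (hk : k < 6)
    (hg : ∀ j, j < 5 - k → fld g j = f (2 ^ j)) (h : search leaf (k + 1) g = true) :
    search leaf k (g + f (2 ^ (5 - k)) * 2 ^ (6 * (5 - k))) = true := by
  have hp : (2 : ℕ) ^ (5 - k) < 64 := Nat.pow_lt_pow_right (by norm_num) (by omega : 5 - k < 6)
  rw [search_succ] at h
  have hs := Tables.all_lt h (hf.lt _ hp)
  simp only [Bool.or_eq_true, Bool.not_eq_true', ← Bool.not_eq_true, Bool.and_eq_true] at hs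
  refine hs.resolve_left fun hne => hne ⟨?_, ?_⟩
  · rw [hf.q _ hp]
    have : ∀ i : Fin 6, qf (2 ^ (i : Nat)) = 0 := by decide +kernel
    rw [show qf (2 ^ (5 - k)) = 0 from this ⟨5 - k, by omega⟩]
    rfl
  · refine (allFrom_iff _ _ _).2 fun j _ hj => ?_
    rw [hg j (by omega), hf.bf_eq hp (Nat.pow_lt_pow_right (by norm_num) (by omega : j < 6))]
    have : ∀ a b : Fin 6, (b : Nat) < (a : Nat) →
        bf (2 ^ (a : Nat)) (2 ^ (b : Nat)) = cond (Nat.beq (a : Nat) ((b : Nat) + 3)) 1 0 := by decide +kernel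
    rw [show bf (2 ^ (5 - k)) (2 ^ j) = _ from this ⟨5 - k, by omega⟩ ⟨j, by omega⟩ (by show j < 5 - k; omega)]
    exact Nat.beq_refl _

/-- What holds at every leaf below the first field holds for every map with that image of the first vector. -/
theorem search_spec {leaf : Nat → Bool} {f : Nat → Nat} (hf : Iso f)
    (h : search leaf 5 (f 1) = true) : leaf (enc f) = true := by
  have l1 := hf.lt 1 (by norm_num); have l2 := hf.lt 2 (by norm_num); have l3 := hf.lt 4 (by norm_num)
  have l4 := hf.lt 8 (by norm_num); have l5 := hf.lt 16 (by norm_num); have l6 := hf.lt 32 (by norm_num)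
  have st : ∀ g k, k < 6 → (∀ j, j < 5 - k → fld g j = f (2 ^ j)) → search leaf (k + 1) g = true →
      search leaf k (g + f (2 ^ (5 - k)) * 2 ^ (6 * (5 - k))) = true := fun g k hk hg => search_step hf hk hg
  have fl : ∀ g j, fld g j = g / 2 ^ (6 * j) % 64 := fun g j => by rw [fld, Nat.shiftRight_eq_div_pow]
  have e4 := st (f 1) 4 (by norm_num) (fun j hj => by
    obtain rfl : j = 0 := by omega
    rw [fl]; simp only [Nat.reduceMul, Nat.reducePow]; omega) h
  simp only [Nat.reduceSub, Nat.reduceMul, Nat.reducePow] at e4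
  have e3 := st _ 3 (by norm_num) (fun j hj => by
    rw [fl]; interval_cases j <;> simp only [Nat.reduceMul, Nat.reducePow] <;> omega) e4
  simp only [Nat.reduceSub, Nat.reduceMul, Nat.reducePow] at e3
  have e2 := st _ 2 (by norm_num) (fun j hj => by
    rw [fl]; interval_cases j <;> simp only [Nat.reduceMul, Nat.reducePow] <;> omega) e3
  simp only [Nat.reduceSub, Nat.reduceMul, Nat.reducePow] at e2
  have e1 := st _ 1 (by norm_num) (fun j hj => by
    rw [fl]; interval_cases j <;> simp only [Nat.reduceMul, Nat.reducePow] <;> omega) e2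
  simp only [Nat.reduceSub, Nat.reduceMul, Nat.reducePow] at e1
  have e0 := st _ 0 (by norm_num) (fun j hj => by
    rw [fl]; interval_cases j <;> simp only [Nat.reduceMul, Nat.reducePow] <;> omega) e1
  simp only [Nat.reduceSub, Nat.reduceMul, Nat.reducePow] at e0
  exact e0

/-- The first image is singular and not zero. -/
theorem first_mem {f : Nat → Nat} (hf : Iso f) : qf (f 1) = 0 ∧ f 1 ≠ 0 := by
  refine ⟨by rw [hf.q 1 (by norm_num)]; rfl, fun h => ?_⟩
  have := hf.bf_eq (show 1 < 64 by norm_num) (show 8 < 64 by norm_num)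
  rw [h] at this
  have h0 : ∀ b : Fin 64, bf 0 b = 0 := by decide +kernel
  rw [show bf 0 (f 8) = 0 from h0 ⟨f 8, hf.lt 8 (by norm_num)⟩] at this
  exact absurd this (by decide)

/-- An entry of the first table. -/
structure EA where
  A : Nat
  k : Nat
  g : Nat
  gi : Nat

/-- An entry of the second table. -/
structure EB where
  k : Nat
  B : Nat
  h : Nat
  model : Bool
  sq : Bool

/-- The tables. -/
structure Data where
  reps : List Nat
  TA : List EA
  TB : List EB
  MA : Bool → Nat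
  MB : Bool → Nat

variable (O : Data)

noncomputable def checkA (e : EA) : Bool :=
  isPres e.g && (isPres e.gi && (isId [e.gi, e.g] && (Nat.blt e.k O.reps.length &&
    agree [e.A, e.g] [e.g, O.reps.getD e.k 0])))

noncomputable def checkB (e : EB) : Bool :=
  isPres e.h && (agree [O.reps.getD e.k 0, e.h] [e.h, O.MA e.model] &&
    cond e.sq (agree [e.B, e.B, e.h] [e.h, O.MB e.model]) (agree [e.B, e.h] [e.h, O.MB e.model]))

/-- The relations of the two maps. -/
noncomputable def pairOK (A B : Nat) : Bool :=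
  isId [A, B, A, B, A, B, A, B, A, B, A, B, A, B] &&
    isId [A, B, B, A, B, A, B, B, A, B, A, B, B, A, B, A, B, B, A, B]

/-- At a leaf: a conjugator for an involution, and for the second of a pair. -/
noncomputable def leaf (g : Nat) : Bool :=
  cond (isId [g, g] && !isId [g]) (O.TA.any fun e => Nat.beq e.A g) true &&
    cond (isId [g, g, g] && !isId [g])
      (allFrom (fun k => !pairOK (O.reps.getD k 0) g || O.TB.any fun e => Nat.beq e.k k && Nat.beq e.B g) 0 O.reps.length)
      true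

end Cfsg.Agent.HeRecog.O6
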