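import Cfsg.Agent.HeRecog.HeIdent
import Cfsg.Agent.HeRecog.Generated

/-! Two groups with the same letters are compared inside their product. -/

set_option autoImplicit false
set_option linter.all false

namespace Cfsg.Agent.HeRecog

open Cfsg.Agent.CosetCert

namespace Letters

variable {P : PairData} {D : Tables} {K : Classes} {L : Letters}
  {G : Type*} [Group G] [Finite G] {t : G} {co : Coord D t} {x y m l : G}
  {G' : Type*} [Group G'] [Finite G'] {t' : G'} {co' : Coord D t'} {x' y' m' l' : G'}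

theorem wev_single (g : Nat) (hg : g < 8) (co : Coord D t) (m l : G) :
    wev (L.val co m l) [g] = co.ψ (L.gens g) := by
  simp [wev, Letters.val, Letters.gval, Letters.gcode, show g < 14 by omega, show g ≠ 8 by omega,
    show g ≠ 13 by omega, show Nat.blt g 8 = true from Nat.ble_eq.mpr hg]

/-- The subgroup of the product has order at most the index times the centraliser. -/
theorem prod_bound (h : L.Ok P K co x y m l) (h' : L.Ok P K co' x' y' m' l') {RS : List RelSpec}
    (hRS : RS.all (L.check P D) = true) {C : Data} (hC : C.LogValid)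
    (hF : Fits C RS ((List.range 8).map fun g => [g])) {H : HeData}
    (hpre : allFrom (H.checkPre L D) 0 21504 = true) :
    ∃ J : Subgroup (G × G'), Nat.card J ≤ C.n * 21504 ∧ (∀ g ∈ gen t m, ∃ g', (g, g') ∈ J) ∧
      (∀ g' ∈ gen t' m', ∃ g, (g, g') ∈ J) := by
  classical
  set f : Fin 14 → G × G' := fun b => (L.fval co m l b, L.fval co' m' l' b) with hf
  have hfst : ∀ r : FreeGroup (Fin 14), (FreeGroup.lift f r).1 = FreeGroup.lift (L.fval co m l) r := fun r =>
    DFunLike.congr_fun (show (MonoidHom.fst G G').comp (FreeGroup.lift f) = FreeGroup.lift (L.fval co m l)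
      from FreeGroup.ext_hom _ _ fun b => by simp [hf]) r
  have hsnd : ∀ r : FreeGroup (Fin 14), (FreeGroup.lift f r).2 = FreeGroup.lift (L.fval co' m' l') r := fun r =>
    DFunLike.congr_fun (show (MonoidHom.snd G G').comp (FreeGroup.lift f) = FreeGroup.lift (L.fval co' m' l')
      from FreeGroup.ext_hom _ _ fun b => by simp [hf]) r
  have hrel : ∀ r ∈ wordRels (relWords RS), FreeGroup.lift f r = 1 := by
    intro r hr
    obtain ⟨w, hw, rfl⟩ := List.mem_map.1 hr
    exact Prod.ext (by rw [hfst]; exact Letters.lift_rels h hRS w hw)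
      (by rw [hsnd]; exact Letters.lift_rels h' hRS w hw)
  set Φ := PresentedGroup.toGroup hrel with hΦ
  have hΦmk : ∀ r, Φ (PresentedGroup.mk _ r) = FreeGroup.lift f r := fun r =>
    DFunLike.congr_fun (show Φ.comp (PresentedGroup.mk _) = FreeGroup.lift f from
      FreeGroup.ext_hom _ _ fun b => by
        simp only [MonoidHom.comp_apply, FreeGroup.lift_apply_of]
        exact PresentedGroup.toGroup.of hrel) r
  have hgen : ∀ w, (∀ a ∈ w, a < 28) → (wev (L.val co m l) w, wev (L.val co' m' l') w) =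
      FreeGroup.lift f (FreeGroup.mk (w.map Letters.dec14)) := fun w hw =>
    Prod.ext (by rw [hfst, Letters.lift_word m l hw]) (by rw [hsnd, Letters.lift_word m' l' hw])
  set J := Φ.range with hJ
  set SP := Data.sub (wordRels (relWords RS))
    ((rawWords ((List.range 8).map fun g => [g])).map FreeGroup.mk) with hSP
  obtain ⟨hi0, hile⟩ := Data.index_le hC hF.spells
  have hgl : ∀ g, g < 8 → L.gens g < 21504 := fun g hg => Nat.ble_eq.mp (Tables.all_lt h.gens hg)
  -- the diagonal
  let W : Subgroup (G × G') :=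
    { carrier := {p | ∃ c, c < 21504 ∧ (co.ψ c, co'.ψ c) = p}
      one_mem' := ⟨0, by norm_num, by rw [co.zero, co'.zero]; rfl⟩
      mul_mem' := by
        rintro _ _ ⟨a, ha, rfl⟩ ⟨b, hb, rfl⟩
        exact ⟨D.mul a b, co.lt a b ha hb, by rw [co.mul a b ha hb, co'.mul a b ha hb]; rfl⟩
      inv_mem' := by
        rintro _ ⟨a, ha, rfl⟩
        obtain ⟨hi, e⟩ := PairData.inv_spec h.pair co ha
        exact ⟨P.inv a, hi, by rw [e, (PairData.inv_spec h.pair co' ha).2]; rfl⟩ }
  have hW : Nat.card W ≤ 21504 := by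
    rw [← Nat.card_fin 21504]
    refine Nat.card_le_card_of_surjective (fun c : Fin 21504 => (⟨(co.ψ c, co'.ψ c), c, c.2, rfl⟩ : W)) ?_
    rintro ⟨_, c, hc, rfl⟩
    exact ⟨⟨c, hc⟩, rfl⟩
  have hSPW : SP.map Φ ≤ W := by
    rw [hSP, Data.sub, Subgroup.map_map, Subgroup.map_le_iff_le_comap, Subgroup.closure_le]
    intro r hr
    obtain ⟨w', hw', rfl⟩ := List.mem_map.1 hr
    obtain ⟨w, hw, rfl⟩ := List.mem_map.1 hw'
    obtain ⟨g, hg, rfl⟩ := List.mem_map.1 hw
    have hg := List.mem_range.1 hg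
    rw [SetLike.mem_coe, Subgroup.mem_comap, MonoidHom.comp_apply, hΦmk, ← hgen [g] (by simp; omega),
      wev_single g hg, wev_single g hg]
    exact ⟨L.gens g, hgl g hg, rfl⟩
  have hidx : (SP.map Φ.rangeRestrict).index ≤ C.n :=
    (Nat.le_of_dvd (Nat.pos_of_ne_zero hi0)
      (Subgroup.index_map_dvd (H := SP) (MonoidHom.rangeRestrict_surjective Φ))).trans hile
  have hcardJ : Nat.card J ≤ C.n * 21504 := by
    rw [← Subgroup.card_mul_index (SP.map Φ.rangeRestrict), mul_comm]
    refine Nat.mul_le_mul hidx (le_trans (le_of_eq ?_) ((Subgroup.card_le_of_le hSPW).trans hW))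
    have hm : (SP.map Φ.rangeRestrict).map J.subtype = SP.map Φ := by
      rw [Subgroup.map_map]; congr 1
    rw [← hm]
    exact Nat.card_congr (Subgroup.equivMapOfInjective _ _ (Subgroup.subtype_injective _)).toEquiv
  have hlet : ∀ w, (∀ a ∈ w, a < 28) → (wev (L.val co m l) w, wev (L.val co' m' l') w) ∈ J := fun w hw =>
    ⟨PresentedGroup.mk _ (FreeGroup.mk (w.map Letters.dec14)), by rw [hΦmk, hgen w hw]⟩
  -- every code is there
  have hall : ∀ (r c : Nat), c < 21504 → H.rank c = r → (co.ψ c, co'.ψ c) ∈ J := by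
    intro r
    induction r using Nat.strong_induction_on with
    | _ r ih =>
      intro c hc hr
      have hp := Tables.all_lt hpre hc
      simp only [HeData.checkPre, Bool.or_eq_true, Bool.and_eq_true] at hp
      rcases hp with hp | ⟨h1, h2, h3⟩
      · rw [Nat.eq_of_beq_eq_true hp, co.zero, co'.zero]; exact J.one_mem
      · have h1 := Nat.ble_eq.mp h1
        have hg : H.pre c % 8 < 8 := Nat.mod_lt _ (by norm_num)
        have hm := J.mul_mem (ih _ (hr ▸ Nat.ble_eq.mp h2) _ h1 rfl) (hlet [H.pre c % 8] (by simp; omega))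
        rw [wev_single _ hg, wev_single _ hg, Prod.mk_mul_mk, ← co.mul _ _ h1 (hgl _ hg),
          ← co'.mul _ _ h1 (hgl _ hg), Nat.eq_of_beq_eq_true h3] at hm
        exact hm
  have h8 : (m, m') ∈ J := by
    have := hlet [8] (by simp)
    simpa [wev, Letters.val, Letters.gval] using this
  refine ⟨J, hcardJ, fun g hg => ?_, fun g' hg => ?_⟩
  · have key : gen t m ≤ J.map (MonoidHom.fst G G') := by
      rw [gen, Subgroup.closure_le]
      rintro u (hu | hu)
      · obtain ⟨c, hc, rfl⟩ := co.surj u (Subgroup.mem_centralizer_singleton_iff.1 hu)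
        exact ⟨_, hall _ c hc rfl, rfl⟩
      · rw [Set.mem_singleton_iff] at hu
        subst hu
        exact ⟨_, h8, rfl⟩
    obtain ⟨⟨a, b⟩, hab, rfl⟩ := key hg
    exact ⟨b, hab⟩
  · have key : gen t' m' ≤ J.map (MonoidHom.snd G G') := by
      rw [gen, Subgroup.closure_le]
      rintro u (hu | hu)
      · obtain ⟨c, hc, rfl⟩ := co'.surj u (Subgroup.mem_centralizer_singleton_iff.1 hu)
        exact ⟨_, hall _ c hc rfl, rfl⟩
      · rw [Set.mem_singleton_iff] at hu
        subst hu
        exact ⟨_, h8, rfl⟩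
    obtain ⟨⟨a, b⟩, hab, rfl⟩ := key hg
    exact ⟨a, hab⟩

/-- A simple reference group of the largest possible order. -/
theorem iso_of_reference (h : L.Ok P K co x y m l) (h' : L.Ok P K co' x' y' m' l') {RS : List RelSpec}
    (hRS : RS.all (L.check P D) = true) {C : Data} (hC : C.LogValid)
    (hF : Fits C RS ((List.range 8).map fun g => [g])) {H : HeData}
    (hpre : allFrom (H.checkPre L D) 0 21504 = true) [IsSimpleGroup G'] (hcard : Nat.card G' = C.n * 21504)
    (htop : gen t m = ⊤) (htop' : gen t' m' = ⊤) [Nontrivial G] : Nonempty (G ≃* G') := by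
  obtain ⟨J, hJ, h1, h2⟩ := prod_bound h h' hRS hC hF hpre
  let p1 : J →* G := (MonoidHom.fst G G').comp J.subtype
  let p2 : J →* G' := (MonoidHom.snd G G').comp J.subtype
  have hs2 : Function.Surjective p2 := fun q => by
    obtain ⟨a, ha⟩ := h2 q (htop' ▸ Subgroup.mem_top q)
    exact ⟨⟨(a, q), ha⟩, rfl⟩
  have hs1 : Function.Surjective p1 := fun q => by
    obtain ⟨a, ha⟩ := h1 q (htop ▸ Subgroup.mem_top q)
    exact ⟨⟨(q, a), ha⟩, rfl⟩
  have hb2 : Function.Bijective p2 := (Nat.bijective_iff_surjective_and_card p2).2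
    ⟨hs2, le_antisymm (hcard ▸ hJ) (Nat.card_le_card_of_surjective p2 hs2)⟩
  let e2 := MulEquiv.ofBijective p2 hb2
  let q : G' →* G := p1.comp e2.symm.toMonoidHom
  have hq : Function.Surjective q := hs1.comp e2.symm.surjective
  have hker : q.ker = ⊥ := (inferInstance : q.ker.Normal).eq_bot_or_eq_top.resolve_right fun e => by
    obtain ⟨a, b, hab⟩ := exists_pair_ne G
    obtain ⟨a', rfl⟩ := hq a
    obtain ⟨b', rfl⟩ := hq b
    apply hab
    rw [show q a' = 1 from MonoidHom.mem_ker.1 (e ▸ Subgroup.mem_top a'),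
      show q b' = 1 from MonoidHom.mem_ker.1 (e ▸ Subgroup.mem_top b')]
  exact ⟨(MulEquiv.ofBijective q ⟨(MonoidHom.ker_eq_bot_iff q).1 hker, hq⟩).symm⟩

end Letters

end Cfsg.Agent.HeRecog
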