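import Mathlib

/-!
Coordinates in an extraspecial group of order 128 of plus type: six involutions in three pairs.
An element is coded by a number below 128: twice the vector, plus the exponent of the central element.
-/

set_option autoImplicit false
set_option linter.all false

namespace Cfsg.Agent.HeRecog

/-- The parity of a number below eight. -/
def par3 (x : Nat) : Nat := (150 >>> x) % 2

/-- The product of two codes. -/
def qmul (a b : Nat) : Nat :=
  2 * ((a / 2) ^^^ (b / 2)) + (a % 2 + b % 2 + par3 ((a / 2 % 8) &&& (b / 2 / 8))) % 2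

/-- The inverse of a code. -/
def qinv (a : Nat) : Nat := 2 * (a / 2) + (a % 2 + par3 ((a / 2 % 8) &&& (a / 2 / 8))) % 2

variable {G : Type*} [Group G]

/-- Six involutions commuting except in three pairs, whose commutator is a central involution. -/
structure QGens (e : Nat → G) (z : G) : Prop where
  sq : ∀ i, i < 6 → e i * e i = 1
  zsq : z * z = 1
  zne : z ≠ 1
  zcomm : ∀ i, i < 6 → z * e i = e i * z
  pair : ∀ i, i < 3 → e i * e (i + 3) = e (i + 3) * e i * z
  comm : ∀ i j, i < 6 → j < 6 → i ≠ j + 3 → j ≠ i + 3 → e i * e j = e j * e i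

/-- The product of the generators `o, o + 1, o + 2` in the bits of `x`. -/
def part (e : Nat → G) (o x : Nat) : G := e o ^ (x % 2) * e (o + 1) ^ (x / 2 % 2) * e (o + 2) ^ (x / 4 % 2)

/-- The element of a code. -/
def qel (e : Nat → G) (z : G) (a : Nat) : G :=
  part e 3 (a / 2 / 8) * part e 0 (a / 2 % 8) * z ^ (a % 2)

namespace QGens

variable {e : Nat → G} {z : G}

theorem lo_mul (h : QGens e z) {x y : Nat} (hx : x < 8) (hy : y < 8) :
    part e 0 x * part e 0 y = part e 0 (x ^^^ y) := by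
  have s0 := h.sq 0 (by omega); have s1 := h.sq 1 (by omega); have s2 := h.sq 2 (by omega)
  have c10 := h.comm 1 0 (by omega) (by omega) (by omega) (by omega)
  have c20 := h.comm 2 0 (by omega) (by omega) (by omega) (by omega)
  have c21 := h.comm 2 1 (by omega) (by omega) (by omega) (by omega)
  have s0' : ∀ w, e 0 * (e 0 * w) = w := fun w => by rw [← mul_assoc, s0, one_mul]
  have s1' : ∀ w, e 1 * (e 1 * w) = w := fun w => by rw [← mul_assoc, s1, one_mul]
  have s2' : ∀ w, e 2 * (e 2 * w) = w := fun w => by rw [← mul_assoc, s2, one_mul]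
  have c10' : ∀ w, e 1 * (e 0 * w) = e 0 * (e 1 * w) := fun w => by rw [← mul_assoc, c10, mul_assoc]
  have c20' : ∀ w, e 2 * (e 0 * w) = e 0 * (e 2 * w) := fun w => by rw [← mul_assoc, c20, mul_assoc]
  have c21' : ∀ w, e 2 * (e 1 * w) = e 1 * (e 2 * w) := fun w => by rw [← mul_assoc, c21, mul_assoc]
  interval_cases x <;> interval_cases y <;>
    simp [part, mul_assoc, s0, s1, s2, c10, c20, c21, s0', s1', s2', c10', c20', c21']

theorem hi_mul (h : QGens e z) {x y : Nat} (hx : x < 8) (hy : y < 8) :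
    part e 3 x * part e 3 y = part e 3 (x ^^^ y) := by
  have s0 := h.sq 3 (by omega); have s1 := h.sq 4 (by omega); have s2 := h.sq 5 (by omega)
  have c10 := h.comm 4 3 (by omega) (by omega) (by omega) (by omega)
  have c20 := h.comm 5 3 (by omega) (by omega) (by omega) (by omega)
  have c21 := h.comm 5 4 (by omega) (by omega) (by omega) (by omega)
  have s0' : ∀ w, e 3 * (e 3 * w) = w := fun w => by rw [← mul_assoc, s0, one_mul]
  have s1' : ∀ w, e 4 * (e 4 * w) = w := fun w => by rw [← mul_assoc, s1, one_mul]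
  have s2' : ∀ w, e 5 * (e 5 * w) = w := fun w => by rw [← mul_assoc, s2, one_mul]
  have c10' : ∀ w, e 4 * (e 3 * w) = e 3 * (e 4 * w) := fun w => by rw [← mul_assoc, c10, mul_assoc]
  have c20' : ∀ w, e 5 * (e 3 * w) = e 3 * (e 5 * w) := fun w => by rw [← mul_assoc, c20, mul_assoc]
  have c21' : ∀ w, e 5 * (e 4 * w) = e 4 * (e 5 * w) := fun w => by rw [← mul_assoc, c21, mul_assoc]
  interval_cases x <;> interval_cases y <;>
    simp [part, mul_assoc, s0, s1, s2, c10, c20, c21, s0', s1', s2', c10', c20', c21']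

theorem cross (h : QGens e z) {x y : Nat} (hx : x < 8) (hy : y < 8) :
    part e 0 x * part e 3 y = part e 3 y * part e 0 x * z ^ par3 (x &&& y) := by
  have z0 := h.zcomm 0 (by omega); have z1 := h.zcomm 1 (by omega); have z2 := h.zcomm 2 (by omega)
  have z3 := h.zcomm 3 (by omega); have z4 := h.zcomm 4 (by omega); have z5 := h.zcomm 5 (by omega)
  have p0 := h.pair 0 (by omega); have p1 := h.pair 1 (by omega); have p2 := h.pair 2 (by omega)
  simp only [Nat.zero_add] at p0
  rw [mul_assoc] at p0 p1 p2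
  have d04 := h.comm 0 4 (by omega) (by omega) (by omega) (by omega)
  have d05 := h.comm 0 5 (by omega) (by omega) (by omega) (by omega)
  have d13 := h.comm 1 3 (by omega) (by omega) (by omega) (by omega)
  have d15 := h.comm 1 5 (by omega) (by omega) (by omega) (by omega)
  have d23 := h.comm 2 3 (by omega) (by omega) (by omega) (by omega)
  have d24 := h.comm 2 4 (by omega) (by omega) (by omega) (by omega)
  have zs := h.zsq
  have zs' : ∀ w, z * (z * w) = w := fun w => by rw [← mul_assoc, zs, one_mul]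
  have z0' : ∀ w, z * (e 0 * w) = e 0 * (z * w) := fun w => by rw [← mul_assoc, z0, mul_assoc]
  have z1' : ∀ w, z * (e 1 * w) = e 1 * (z * w) := fun w => by rw [← mul_assoc, z1, mul_assoc]
  have z2' : ∀ w, z * (e 2 * w) = e 2 * (z * w) := fun w => by rw [← mul_assoc, z2, mul_assoc]
  have z3' : ∀ w, z * (e 3 * w) = e 3 * (z * w) := fun w => by rw [← mul_assoc, z3, mul_assoc]
  have z4' : ∀ w, z * (e 4 * w) = e 4 * (z * w) := fun w => by rw [← mul_assoc, z4, mul_assoc]
  have z5' : ∀ w, z * (e 5 * w) = e 5 * (z * w) := fun w => by rw [← mul_assoc, z5, mul_assoc]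
  have p0' : ∀ w, e 0 * (e 3 * w) = e 3 * (e 0 * (z * w)) := fun w => by
    rw [← mul_assoc, p0, mul_assoc, mul_assoc]
  have p1' : ∀ w, e 1 * (e 4 * w) = e 4 * (e 1 * (z * w)) := fun w => by
    rw [← mul_assoc, p1, mul_assoc, mul_assoc]
  have p2' : ∀ w, e 2 * (e 5 * w) = e 5 * (e 2 * (z * w)) := fun w => by
    rw [← mul_assoc, p2, mul_assoc, mul_assoc]
  have d04' : ∀ w, e 0 * (e 4 * w) = e 4 * (e 0 * w) := fun w => by rw [← mul_assoc, d04, mul_assoc]
  have d05' : ∀ w, e 0 * (e 5 * w) = e 5 * (e 0 * w) := fun w => by rw [← mul_assoc, d05, mul_assoc]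
  have d13' : ∀ w, e 1 * (e 3 * w) = e 3 * (e 1 * w) := fun w => by rw [← mul_assoc, d13, mul_assoc]
  have d15' : ∀ w, e 1 * (e 5 * w) = e 5 * (e 1 * w) := fun w => by rw [← mul_assoc, d15, mul_assoc]
  have d23' : ∀ w, e 2 * (e 3 * w) = e 3 * (e 2 * w) := fun w => by rw [← mul_assoc, d23, mul_assoc]
  have d24' : ∀ w, e 2 * (e 4 * w) = e 4 * (e 2 * w) := fun w => by rw [← mul_assoc, d24, mul_assoc]
  interval_cases x <;> interval_cases y <;>
    simp [part, par3, mul_assoc, p0, p1, p2, d04, d05, d13, d15, d23, d24, z0, z1, z2, z3, z4, z5,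
      zs, zs', p0', p1', p2', d04', d05', d13', d15', d23', d24', z0', z1', z2', z3', z4', z5']

theorem zpart (h : QGens e z) (o : Nat) (ho : o = 0 ∨ o = 3) (x : Nat) :
    Commute z (part e o x) := by
  have hz : ∀ i, i < 6 → ∀ k, Commute z (e i ^ k) := fun i hi k => (Commute.pow_right (h.zcomm i hi) k)
  exact ((hz o (by omega) _).mul_right (hz (o + 1) (by omega) _)).mul_right (hz (o + 2) (by omega) _)

theorem qmul_parts (a b : Nat) (ha : a < 128) (hb : b < 128) :
    qmul a b / 2 / 8 = (a / 2 / 8) ^^^ (b / 2 / 8) ∧ qmul a b / 2 % 8 = (a / 2 % 8) ^^^ (b / 2 % 8) ∧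
      qmul a b % 2 = (a % 2 + b % 2 + par3 ((a / 2 % 8) &&& (b / 2 / 8))) % 2 := by
  have h1 : qmul a b / 2 = (a / 2) ^^^ (b / 2) := by unfold qmul; omega
  refine ⟨?_, ?_, by unfold qmul; omega⟩
  · rw [h1]; exact Nat.xor_div_two_pow (n := 3)
  · rw [h1]; exact Nat.xor_mod_two_pow (n := 3)

theorem qel_mul (h : QGens e z) {a b : Nat} (ha : a < 128) (hb : b < 128) :
    qel e z a * qel e z b = qel e z (qmul a b) := by
  obtain ⟨h1, h2, h3⟩ := qmul_parts a b ha hb
  have hzp : z ^ 2 = 1 := by rw [pow_two, h.zsq]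
  have hpow : ∀ n, z ^ n = z ^ (n % 2) := fun n => by
    conv_lhs => rw [← Nat.div_add_mod n 2, pow_add, pow_mul, hzp, one_pow, one_mul]
  simp only [qel, h1, h2, h3]
  rw [← hpow (a % 2 + b % 2 + par3 ((a / 2 % 8) &&& (b / 2 / 8)))]
  rw [← h.hi_mul (by omega) (by omega), ← h.lo_mul (by omega) (by omega), pow_add, pow_add]
  set A := part e 3 (a / 2 / 8)
  set A' := part e 0 (a / 2 % 8) with hA'
  set B := part e 3 (b / 2 / 8) with hB
  set B' := part e 0 (b / 2 % 8)
  set s := z ^ (a % 2)
  set r := z ^ par3 ((a / 2 % 8) &&& (b / 2 / 8))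
  have hs : ∀ w, Commute z w → Commute s w := fun w hw => hw.pow_left _
  have cB : Commute s B := hs _ (h.zpart 3 (Or.inr rfl) _)
  have cB' : Commute s B' := hs _ (h.zpart 0 (Or.inl rfl) _)
  have crB' : Commute r B' := (h.zpart 0 (Or.inl rfl) _).pow_left _
  have hc : A' * B = B * A' * r := h.cross (by omega) (by omega)
  calc A * A' * s * (B * B' * z ^ (b % 2)) = A * A' * (s * B) * B' * z ^ (b % 2) := by group
    _ = A * A' * B * (s * B') * z ^ (b % 2) := by rw [cB.eq]; group
    _ = A * (A' * B) * B' * (s * z ^ (b % 2)) := by rw [cB'.eq]; group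
    _ = A * B * A' * (r * B') * (s * z ^ (b % 2)) := by rw [hc]; group
    _ = A * B * A' * B' * (r * (s * z ^ (b % 2))) := by rw [crB'.eq]; group
    _ = A * B * (A' * B') * (s * z ^ (b % 2) * r) := by
      rw [show r * (s * z ^ (b % 2)) = s * z ^ (b % 2) * r from
        (((Commute.refl z).pow_pow _ _).mul_right ((Commute.refl z).pow_pow _ _)).eq]
      group

theorem qel_zero : qel e z 0 = 1 := by simp [qel, part]

theorem qel_one : qel e z 1 = z := by simp [qel, part]

theorem qel_qinv (h : QGens e z) {a : Nat} (ha : a < 128) :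
    qinv a < 128 ∧ qel e z (qinv a) = (qel e z a)⁻¹ := by
  have hp : ∀ x, par3 x < 2 := fun x => Nat.mod_lt _ (by omega)
  have hlt : qinv a < 128 := by unfold qinv; omega
  refine ⟨hlt, eq_inv_of_mul_eq_one_right ?_⟩
  rw [h.qel_mul ha hlt]
  have : qmul a (qinv a) = 0 := by
    unfold qmul qinv
    generalize hP : par3 ((a / 2 % 8) &&& (a / 2 / 8)) = P
    have hP2 : P < 2 := hP ▸ hp _
    have e1 : (2 * (a / 2) + (a % 2 + P) % 2) / 2 = a / 2 := by omega
    rw [e1, Nat.xor_self, hP]
    omega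
  rw [this, qel_zero]

end QGens

end Cfsg.Agent.HeRecog
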