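import Cfsg.Agent.HeRecog.Classify
import Cfsg.Agent.HeRecog.Small
import Cfsg.Agent.HeRecog.Recognise
import Cfsg.Agent.Compute.TransvecCore
import Cfsg.Agent.Compute.Mathieu
import Cfsg.Agent.Compute.M24Base
import Cfsg.Agent.S2133

/-! The reference groups: `SL(5, 2)` and the Mathieu group. -/

set_option autoImplicit false
set_option linter.all false
set_option maxRecDepth 100000

namespace Cfsg.Agent.HeRecog.Ref

open Cfsg.Agent.CosetCert Cfsg.Agent.Compute

local notation "S5" => Matrix.SpecialLinearGroup (Fin 5) (ZMod 2)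

theorem card_sl5 : Nat.card S5 = 9999360 := by
  have h2 := Cfsg.Agent.Classical.card_sl_mul (F := ZMod 2) (ZMod.card 2) 5 (by norm_num)
  rw [show (∏ i : Fin 5, (2 ^ 5 - 2 ^ (i : ℕ))) = 9999360 from by decide, show 2 - 1 = 1 from rfl, one_mul] at h2
  exact h2

theorem simple_sl5 : IsSimpleGroup S5 := by
  have key : ∀ y : ZMod 2, y ^ 5 = 1 → y = 1 := by decide
  have hcen : Subgroup.center S5 = ⊥ := by
    refine (Subgroup.eq_bot_iff_forall _).2 fun c hc => ?_
    obtain ⟨x, hx, hc'⟩ := Matrix.SpecialLinearGroup.mem_center_iff.1 hc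
    rw [Fintype.card_fin] at hx
    rw [key x hx, map_one] at hc'
    exact Subtype.ext hc'.symm
  have : Fact (Nat.Prime 2) := ⟨Nat.prime_two⟩
  have hsimp := Cfsg.Agent.Classical.isSimpleGroup_psl (ι := Fin 5) (F := ZMod 2) (Or.inl (by simp))
  let q : Matrix.ProjectiveSpecialLinearGroup (Fin 5) (ZMod 2) ≃* S5 :=
    (QuotientGroup.quotientMulEquivOfEq hcen).trans QuotientGroup.quotientBot
  exact MulEquiv.isSimpleGroup q.symm

theorem eq_trans {s : S5} (hs : (s : Matrix (Fin 5) (Fin 5) (ZMod 2)) = Matrix.transvection 0 1 1) :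
    s = TransvFive.trans := Subtype.ext hs

theorem orderOf_trans : orderOf TransvFive.trans = 2 :=
  orderOf_eq_prime (by decide +kernel) (by decide +kernel)

theorem sl5_facts (s : S5) (hs : (s : Matrix (Fin 5) (Fin 5) (ZMod 2)) = Matrix.transvection 0 1 1) :
    orderOf s = 2 ∧ IsSimpleGroup S5 ∧ Nat.card S5 = 9999360 := by
  rw [eq_trans hs]
  exact ⟨orderOf_trans, simple_sl5, card_sl5⟩

theorem m24_facts : IsSimpleGroup ↥Cfsg.M24 ∧ Nat.card ↥Cfsg.M24 = 244823040 ∧
    ∀ (s : S5), (s : Matrix (Fin 5) (Fin 5) (ZMod 2)) = Matrix.transvection 0 1 1 →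
      ∃ z : ↥Cfsg.M24, orderOf z = 2 ∧ Nonempty (↥(Subgroup.centralizer ({z} : Set ↥Cfsg.M24)) ≃*
        ↥(Subgroup.centralizer ({s} : Set S5))) :=
  ⟨Compute.isSimpleGroup_m24, Compute.card_m24, fun s hs => Cfsg.Agent.S2133.result s hs⟩

/-- Another transvection. -/
def swap12 : S5 :=
  ⟨Matrix.of ![![1, 0, 0, 0, 0], ![0, 0, 1, 0, 0], ![0, 1, 0, 0, 0], ![0, 0, 0, 1, 0], ![0, 0, 0, 0, 1]],
    by decide +kernel⟩

theorem fused_trans : (swap12 * TransvFive.trans * swap12⁻¹) * TransvFive.trans =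
      TransvFive.trans * (swap12 * TransvFive.trans * swap12⁻¹) ∧
    swap12 * TransvFive.trans * swap12⁻¹ ≠ TransvFive.trans := by decide +kernel

/-- A code commuting with the generators is central. -/
noncomputable def checkCentral (c : Nat) : Bool :=
  Nat.ble c 1 || [2, 4, 8, 16, 32, 64, 128, 256].any fun g => !Nat.beq (M8a.D.mul c g) (M8a.D.mul g c)

theorem central_ok : allFrom checkCentral 0 21504 = true := by decide +kernel

/-- The coordinates of the reference. -/
theorem coord_trans : Nat.card TransvFive.C5 = 21504 ∧ Nonempty (Coord M8a.D TransvFive.trans) := by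
  classical
  have hplus : ∃ E : Subgroup TransvFive.Q5, Cfsg.IsElementaryAbelian 2 E ∧ Nat.card E = 2 ^ 4 := by
    refine ⟨TransvFive.E5.subgroupOf TransvFive.Q5, ⟨⟨⟨?_⟩⟩, ?_⟩, ?_⟩
    · rintro ⟨a, ha⟩ ⟨b, hb⟩
      exact Subtype.ext (Subtype.ext (TransvFive.E5_comm ha hb))
    · intro a ha
      refine Subtype.ext ?_
      rw [pow_two]
      exact TransvFive.E5_sq ha
    · rw [Nat.card_congr (Subgroup.subgroupOfEquivOfLe TransvFive.E5_le).toEquiv, TransvFive.card_E5]
  obtain ⟨hC, hm⟩ := classify (G := S5) TransvFive.trans orderOf_trans TransvFive.Q5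
    TransvFive.isExtraspecial_Q5 TransvFive.card_Q5 hplus (fun M hM => by
      rcases TransvFive.centralizer_Q5 (M := M) fun N hN => (Subgroup.mem_centralizer_iff.1 hM N hN).symm with h | h
      · rw [h]; exact one_mem _
      · rw [h]; exact TransvFive.transC_mem)
    (QuotientGroup.quotientKerEquivOfSurjective _ TransvFive.proj_surjective)
  refine ⟨hC, ?_⟩
  obtain ⟨h1, h2⟩ := fused_trans
  have hfus : ∀ {D : Tables} {K : Classes}, K.Valid D → (co : Coord D TransvFive.trans) →
      ∃ k, k ∈ K.allowed ∧ IsConj TransvFive.trans (co.ψ (K.rep k)) := by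
    intro D K hK co
    obtain ⟨c, hc, hce⟩ := co.surj _ (show Commute _ TransvFive.trans from h1)
    have hct : c ≠ 1 := fun e => h2 (by rw [← hce, e, co.one])
    obtain ⟨k, e, -, hk, hconj⟩ := Classes.fused_class co hK orderOf_trans hc hct
      (hce ▸ isConj_iff.2 ⟨swap12, rfl⟩)
    exact ⟨k, hk, hconj⟩
  unfold IsModel at hm
  rcases hm with h | ⟨⟨co⟩⟩ | ⟨⟨co⟩⟩ | ⟨⟨co⟩⟩
  · exact h
  · obtain ⟨k, hk, -⟩ := hfus M8b.classes co
    have h0 : M8b.K.allowed = [] := rfl
    rw [h0] at hk
    exact absurd hk List.not_mem_nil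
  · exfalso
    obtain ⟨k, hk, hkc⟩ := hfus M7a.classes co
    have h0 : M7a.K.allowed = [1] := rfl
    rw [h0, List.mem_singleton] at hk
    subst hk
    have hA := M7a.block
    simp only [Classes.checkBlock, Bool.and_eq_true, List.all_eq_true, List.contains_iff_mem] at hA
    obtain ⟨hlen, hz0, hz1, hel, htab, hmul⟩ := hA
    set A : List Nat := [0, 1, 2, 3, 8, 9, 10, 11, 32, 33, 34, 35, 40, 41, 42, 43] with hAdef
    have hlt : ∀ a ∈ A, a < 21504 := fun a ha => Nat.ble_eq.mp (hel a ha).1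
    have hsub : ∀ a ∈ A, ∀ b ∈ A, M7a.D.mul a b ∈ A ∧ co.ψ a * co.ψ b = co.ψ (M7a.D.mul a b) ∧
        Commute (co.ψ a) (co.ψ b) :=
      fun a ha b hb => ⟨(hmul a ha b hb).1, (co.mul a b (hlt a ha) (hlt b hb)).symm, by
        show co.ψ a * co.ψ b = co.ψ b * co.ψ a
        rw [← co.mul a b (hlt a ha) (hlt b hb), ← co.mul b a (hlt b hb) (hlt a ha),
          Nat.eq_of_beq_eq_true (hmul a ha b hb).2]⟩
    let M : Submonoid S5 :=
      { carrier := {g | ∃ a ∈ A, co.ψ a = g}
        one_mem' := ⟨0, hz0, co.zero⟩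
        mul_mem' := by
          rintro _ _ ⟨a, ha, rfl⟩ ⟨b, hb, rfl⟩
          exact ⟨_, (hsub a ha b hb).1, (hsub a ha b hb).2.1.symm⟩ }
    let B : Subgroup S5 :=
      { M with
        inv_mem' := fun {g} hg => by
          have hp : g ^ (orderOf g - 1) ∈ M := M.pow_mem hg _
          have he : g⁻¹ = g ^ (orderOf g - 1) := by
            refine inv_eq_of_mul_eq_one_right ?_
            rw [← pow_succ', Nat.sub_add_cancel (orderOf_pos g), pow_orderOf_eq_one]
          show g⁻¹ ∈ M
          rw [he]; exact hp }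
    have hcard : Nat.card B = 16 := by
      have e : A.toFinset.card = 16 := by decide
      rw [← e, ← Nat.card_eq_finsetCard]
      symm
      refine Nat.card_eq_of_bijective
        (fun a : A.toFinset => (⟨co.ψ a.1, a.1, List.mem_toFinset.1 a.2, rfl⟩ : B)) ⟨?_, ?_⟩
      · rintro ⟨a, ha⟩ ⟨b, hb⟩ hab
        exact Subtype.ext (co.inj a b (hlt a (List.mem_toFinset.1 ha)) (hlt b (List.mem_toFinset.1 hb))
          (congrArg Subtype.val hab))
      · rintro ⟨g, a, ha, rfl⟩
        exact ⟨⟨a, List.mem_toFinset.2 ha⟩, rfl⟩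
    have htt : TransvFive.trans * TransvFive.trans = 1 := by decide +kernel
    have ht1 : TransvFive.trans ≠ 1 := by decide +kernel
    have hK := M7a.classes
    obtain ⟨n, hn, hnG⟩ := block_count htt B hcard ⟨1, hz1, co.one⟩ ht1
      (by rintro _ ⟨a, ha, rfl⟩ _ ⟨b, hb, rfl⟩; exact (hsub a ha b hb).2.2)
      (by
        rintro _ ⟨a, ha, rfl⟩ hne
        have h := (hel a ha).2
        simp only [Bool.or_eq_true, List.any_eq_true, Bool.and_eq_true] at h
        rcases h with h | h | ⟨⟨c, j, e⟩, hm, hc, hj⟩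
        · exact absurd (by rw [Nat.eq_of_beq_eq_true h, co.zero]) hne
        · rw [Nat.eq_of_beq_eq_true h, co.one]; exact IsConj.refl _
        · obtain rfl := Nat.eq_of_beq_eq_true hc
          obtain rfl := Nat.eq_of_beq_eq_true hj
          have he := List.all_eq_true.1 hK.entries _ hm
          simp only [Classes.checkEntry, Bool.and_eq_true] at he
          obtain ⟨hc', he', hk', heq⟩ := he
          have hr := Tables.all_lt hK.count (Nat.ble_eq.mp hk')
          simp only [Classes.checkCount, Bool.and_eq_true] at hr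
          refine hkc.trans (isConj_iff.2 ⟨co.ψ e, ?_⟩)
          rw [mul_inv_eq_iff_eq_mul, ← co.mul _ _ (Nat.ble_eq.mp he') (Nat.ble_eq.mp hr.1),
            ← co.mul _ _ (Nat.ble_eq.mp hc') (Nat.ble_eq.mp he'), Nat.eq_of_beq_eq_true heq])
      (by
        intro s hs hst
        obtain ⟨c, hc, rfl⟩ := co.surj s hst
        by_cases hc1 : c = 1
        · exact ⟨1, hz1, by rw [hc1]⟩
        obtain ⟨j, e, hm, hj, hjc⟩ := Classes.fused_class co hK orderOf_trans hc hc1 hs
        have h := htab _ hm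
        rw [h0, List.mem_singleton] at hj
        simp only [hj, Bool.or_eq_true, Bool.not_eq_true', ← Bool.not_eq_true] at h
        rcases h with h | h
        · exact absurd (Nat.beq_refl 1) h
        · exact ⟨c, List.contains_iff_mem.1 h, rfl⟩)
    rw [card_sl5, hC] at hnG
    omega
  · obtain ⟨k, hk, -⟩ := hfus M7b.classes co
    have h0 : M7b.K.allowed = [] := rfl
    rw [h0] at hk
    exact absurd hk List.not_mem_nil

/-- The coordinates in any group with an isomorphic centraliser. -/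
theorem coord_of_iso {G : Type*} [Group G] [Finite G] (s : S5)
    (hs : (s : Matrix (Fin 5) (Fin 5) (ZMod 2)) = Matrix.transvection 0 1 1) (j : G) (hj : orderOf j = 2)
    (e : Subgroup.centralizer ({j} : Set G) ≃* Subgroup.centralizer ({s} : Set S5)) :
    Nat.card (Subgroup.centralizer ({j} : Set G)) = 21504 ∧ Nonempty (Coord M8a.D j) := by
  classical
  obtain rfl : s = TransvFive.trans := eq_trans hs
  obtain ⟨hC, ⟨co⟩⟩ := coord_trans
  refine ⟨(Nat.card_congr e.toEquiv).trans hC, ?_⟩
  have hmemC : ∀ c, c < 21504 → co.ψ c ∈ TransvFive.C5 := fun c hc =>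
    Subgroup.mem_centralizer_singleton_iff.2 (co.mem c hc).eq
  let φ : Nat → G := fun c => if h : c < 21504 then (e.symm ⟨co.ψ c, hmemC c h⟩ : G) else 1
  have hφ : ∀ c (h : c < 21504), φ c = (e.symm ⟨co.ψ c, hmemC c h⟩ : G) := fun c h => dif_pos h
  have hjC : j ∈ Subgroup.centralizer ({j} : Set G) := Subgroup.mem_centralizer_singleton_iff.2 rfl
  -- the image of the involution
  have he : ((e ⟨j, hjC⟩ : TransvFive.C5) : S5) = TransvFive.trans := by
    obtain ⟨c, hc, hce⟩ := co.surj _ (Subgroup.mem_centralizer_singleton_iff.1 (e ⟨j, hjC⟩).2)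
    have hh := Tables.all_lt central_ok hc
    simp only [checkCentral, Bool.or_eq_true, List.any_eq_true, Bool.not_eq_true', ← Bool.not_eq_true] at hh
    rcases hh with h | ⟨g, hg, h⟩
    · rcases Nat.le_one_iff_eq_zero_or_eq_one.1 (Nat.le_of_ble_eq_true h) with rfl | rfl
      · exfalso
        rw [co.zero] at hce
        have : e ⟨j, hjC⟩ = 1 := Subtype.ext hce.symm
        rw [MulEquiv.map_eq_one_iff] at this
        have := congrArg Subtype.val this
        simp only [Subgroup.coe_one] at this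
        rw [this, orderOf_one] at hj
        omega
      · rw [← hce, co.one]
    · exfalso
      have hg' : g < 21504 := by
        have : ∀ g ∈ [2, 4, 8, 16, 32, 64, 128, 256], g < 21504 := by decide
        exact this g hg
      refine h ?_
      rw [co.inj (M8a.D.mul c g) (M8a.D.mul g c) (co.lt _ _ hc hg') (co.lt _ _ hg' hc) ?_]
      · exact Nat.beq_refl _
      rw [co.mul c g hc hg', co.mul g c hg' hc, hce]
      have key : e ⟨j, hjC⟩ * ⟨co.ψ g, hmemC g hg'⟩ = ⟨co.ψ g, hmemC g hg'⟩ * e ⟨j, hjC⟩ := by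
        obtain ⟨b, hb⟩ := e.surjective ⟨co.ψ g, hmemC g hg'⟩
        rw [← hb, ← map_mul, ← map_mul]
        exact congrArg e (Subtype.ext (Subgroup.mem_centralizer_singleton_iff.1 b.2).symm)
      exact congrArg Subtype.val key
  exact ⟨{
    ψ := φ
    lt := co.lt
    mul := fun c d hc hd => by
      rw [hφ c hc, hφ d hd, hφ _ (co.lt c d hc hd), ← Subgroup.coe_mul, ← map_mul]
      exact congrArg (fun g => ((e.symm g : Subgroup.centralizer ({j} : Set G)) : G))
        (Subtype.ext (co.mul c d hc hd))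
    mem := fun c hc => by
      rw [hφ c hc]
      exact Subgroup.mem_centralizer_singleton_iff.1 (e.symm _).2
    surj := fun g hg => by
      obtain ⟨c, hc, hce⟩ := co.surj _
        (Subgroup.mem_centralizer_singleton_iff.1 (e ⟨g, Subgroup.mem_centralizer_singleton_iff.2 hg.eq⟩).2)
      refine ⟨c, hc, ?_⟩
      rw [hφ c hc, show (⟨co.ψ c, hmemC c hc⟩ : TransvFive.C5) = e ⟨g, Subgroup.mem_centralizer_singleton_iff.2 hg.eq⟩
        from Subtype.ext hce, MulEquiv.symm_apply_apply]
    inj := fun c d hc hd h => by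
      rw [hφ c hc, hφ d hd] at h
      exact co.inj c d hc hd (congrArg Subtype.val (e.symm.injective (Subtype.ext h)))
    zero := by
      rw [hφ 0 (by norm_num), show (⟨co.ψ 0, hmemC 0 (by norm_num)⟩ : TransvFive.C5) = 1 from Subtype.ext co.zero,
        map_one, Subgroup.coe_one]
    one := by
      rw [hφ 1 (by norm_num), show (⟨co.ψ 1, hmemC 1 (by norm_num)⟩ : TransvFive.C5) = e ⟨j, hjC⟩
        from Subtype.ext (co.one.trans he.symm), MulEquiv.symm_apply_apply] }⟩

end Cfsg.Agent.HeRecog.Ref
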