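import Cfsg.Agent.HeRecog.Cross

/-!
Relations on fourteen letters: eight of the centraliser, the moving element `8`, the complement
generators `9, 10` and `11, 12`, and `13`, the part of the moving element in the second local group.
Letters `14` to `27` are the inverses.
-/

set_option autoImplicit false
set_option linter.all false

namespace Cfsg.Agent.HeRecog

open Cfsg.Agent.CosetCert

/-- A relation with the reason for it. -/
inductive RelSpec where
  | cen (w : List Nat)
  | conj (second : Bool) (w1 w2 : List Nat) (e : Side.Expn)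
  | loc (second : Bool) (w : List Nat)
  | link (w : List Nat)

/-- The letters of a local word. -/
def trLoc (second : Bool) (l : Nat) : Nat :=
  cond second ([11, 12, 13, 25, 26, 27].getD l 0) ([9, 10, 8, 23, 24, 22].getD l 0)

namespace RelSpec

/-- The word of a relation. -/
def word : RelSpec → List Nat
  | cen w => w
  | conj s w1 w2 _ => cond s 13 8 :: (w1 ++ (cond s 27 22 :: w2))
  | loc s w => w.map (trLoc s)
  | link w => 13 :: 22 :: w

end RelSpec

/-- What the letters mean. -/
structure Letters where
  A : Side
  B : Side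
  e : Nat
  gens : Nat → Nat

namespace Letters

variable (L : Letters) (P : PairData) (D : Tables)

/-- The code of a letter in the centraliser. -/
noncomputable def gcode (g : Nat) : Nat :=
  cond (Nat.blt g 8) (L.gens g)
    (cond (Nat.beq g 9) L.A.a (cond (Nat.beq g 10) L.A.b (cond (Nat.beq g 11) L.B.a (cond (Nat.beq g 12) L.B.b 0))))

noncomputable def code (a : Nat) : Nat := cond (Nat.blt a 14) (L.gcode a) (P.inv (L.gcode (a - 14)))

/-- A word of the centraliser. -/
def cenWord (w : List Nat) : Bool :=
  w.all fun a => Nat.blt a 28 && (!Nat.beq (a % 14) 8 && !Nat.beq (a % 14) 13)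

noncomputable def check : RelSpec → Bool
  | .cen w => cenWord w && Nat.beq (cev D (L.code P) w) 0
  | .conj s w1 w2 e => cenWord w1 && (cenWord w2 && (Side.checkExpn (cond s L.B L.A) P D e &&
      (Nat.beq (cev D (L.code P) w1) e.c && Nat.beq (D.mul e.r (cev D (L.code P) w2)) 0)))
  | .loc s w => (w.all fun l => Nat.blt l 6) && allFrom (fun v => Nat.beq (mev (cond s L.B L.A).mat w v) v) 0 64
  | .link w => cenWord w && Nat.beq (cev D (L.code P) w) (L.B.X.el L.e)

/-- The generator codes are codes. -/
noncomputable def checkGens : Bool := allFrom (fun g => Nat.blt (L.gens g) 21504) 0 8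

variable {L P D}

variable {K : Classes} {G : Type*} [Group G] [Finite G] {t : G} {co : Coord D t}

/-- The value of a letter below fourteen. -/
noncomputable def gval (L : Letters) (co : Coord D t) (m l : G) (g : Nat) : G :=
  if g = 8 then m else if g = 13 then l else co.ψ (L.gcode g)

/-- The value of a letter. -/
noncomputable def val (L : Letters) (co : Coord D t) (m l : G) (a : Nat) : G :=
  if a < 14 then L.gval co m l a else (L.gval co m l (a - 14))⁻¹

/-- The facts about the values. -/
structure Ok (L : Letters) (P : PairData) (K : Classes) (co : Coord D t) (x y m l : G) : Prop where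
  pair : P.Valid D K
  A : L.A.Valid P D K
  B : L.B.Valid P D K
  AX : L.A.X.Valid D K
  BX : L.B.X.Valid D K
  AU : L.A.U.Valid L.A.X P D
  BU : L.B.U.Valid L.B.X P D
  gens : L.checkGens = true
  Fa : Frame L.A co x
  Fb : Frame L.B co y
  m_ind : L.A.X.Induces co m (L.A.mat 2) ∧ InL x m
  l_ind : L.B.X.Induces co l (L.B.mat 2) ∧ InL y l
  e_lt : L.e < 64
  link : m = L.B.X.E co L.e * l

variable {x y m l : G}

theorem gcode_lt (h : L.Ok P K co x y m l) (g : Nat) : L.gcode g < 21504 := by
  simp only [gcode]
  cases h8 : Nat.blt g 8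
  · cases Nat.beq g 9 <;> cases Nat.beq g 10 <;> cases Nat.beq g 11 <;> cases Nat.beq g 12 <;>
      simp [h.A.lt.1, h.A.lt.2, h.B.lt.1, h.B.lt.2]
  · exact Nat.ble_eq.mp (Tables.all_lt h.gens (Nat.ble_eq.mp h8))

theorem cen_spec (h : L.Ok P K co x y m l) {w : List Nat} (hw : cenWord w = true) :
    cev D (L.code P) w < 21504 ∧ co.ψ (cev D (L.code P) w) = wev (L.val co m l) w := by
  have key : ∀ a ∈ w, L.code P a < 21504 ∧ co.ψ (L.code P a) = L.val co m l a := fun a ha => by
    have h' := List.all_eq_true.1 hw a ha
    simp only [Bool.and_eq_true, Bool.not_eq_true', ← Bool.not_eq_true] at h'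
    have h28 := Nat.ble_eq.mp h'.1
    have n8 : a % 14 ≠ 8 := fun e => h'.2.1 (by rw [e]; rfl)
    have n13 : a % 14 ≠ 13 := fun e => h'.2.2 (by rw [e]; rfl)
    simp only [code, val]
    by_cases h14 : a < 14
    · rw [show Nat.blt a 14 = true from Nat.ble_eq.mpr h14, cond_true, if_pos h14, gval, if_neg (by omega),
        if_neg (by omega)]
      exact ⟨gcode_lt h a, rfl⟩
    · rw [show Nat.blt a 14 = false from eq_false_of_ne_true fun e => h14 (Nat.ble_eq.mp e), cond_false,
        if_neg h14, gval, if_neg (by omega), if_neg (by omega)]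
      exact PairData.inv_spec h.pair co (gcode_lt h _)
  obtain ⟨h1, h2⟩ := cev_spec co (D := D) fun a ha => (key a ha).1
  exact ⟨h1, h2.trans (congrArg List.prod (List.map_congr_left fun a ha => (key a ha).2))⟩

theorem loc_val (h : L.Ok P K co x y m l) {i : Nat} (hi : i < 6) (s : Bool) :
    L.val co m l (trLoc s i) = (cond s L.B L.A).val co (cond s l m) i := by
  cases s <;> interval_cases i <;> simp [trLoc, val, gval, Side.val, gcode] <;> rfl

/-- Checked relations hold. -/
theorem rel_holds (h : L.Ok P K co x y m l) {r : RelSpec} (hr : L.check P D r = true) :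
    wev (L.val co m l) r.word = 1 := by
  cases r with
  | cen w =>
    simp only [check, Bool.and_eq_true] at hr
    obtain ⟨h1, h2⟩ := cen_spec h hr.1
    show wev _ w = 1
    rw [← h2, Nat.eq_of_beq_eq_true hr.2, co.zero]
  | conj s w1 w2 e =>
    simp only [check, Bool.and_eq_true] at hr
    obtain ⟨hw1, hw2, he, hc, hprod⟩ := hr
    obtain ⟨a1, a2⟩ := cen_spec h hw1
    obtain ⟨b1, b2⟩ := cen_spec h hw2
    obtain ⟨c1, r1, hconj⟩ : e.c < 21504 ∧ e.r < 21504 ∧ cond s l m * co.ψ e.c * (cond s l m)⁻¹ = co.ψ e.r := by
      cases s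
      · exact Side.expn_spec h.A h.pair h.AX h.AU h.Fa h.m_ind he
      · exact Side.expn_spec h.B h.pair h.BX h.BU h.Fb h.l_ind he
    have hv : L.val co m l (cond s 13 8) = cond s l m ∧ L.val co m l (cond s 27 22) = (cond s l m)⁻¹ := by
      cases s <;> simp [val, gval]
    rw [show RelSpec.word (.conj s w1 w2 e) = [cond s 13 8] ++ w1 ++ [cond s 27 22] ++ w2 by simp [RelSpec.word],
      wev_append, wev_append, wev_append, ← a2, ← b2, Nat.eq_of_beq_eq_true hc]
    simp only [wev, List.map_cons, List.map_nil, List.prod_cons, List.prod_nil, mul_one, hv.1, hv.2]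
    rw [hconj, ← co.mul _ _ r1 b1, Nat.eq_of_beq_eq_true hprod, co.zero]
  | loc s w =>
    simp only [check, Bool.and_eq_true] at hr
    have hw : ∀ i ∈ w, i < 6 := fun i hi => Nat.ble_eq.mp (List.all_eq_true.1 hr.1 i hi)
    have e : wev (L.val co m l) ((RelSpec.loc s w).word) = wev ((cond s L.B L.A).val co (cond s l m)) w := by
      simp only [RelSpec.word, wev, List.map_map]
      exact congrArg List.prod (List.map_congr_left fun i hi => loc_val h (hw i hi) s)
    rw [e]
    cases s
    · exact Side.rel_one h.A h.pair h.AX h.AU h.Fa h.m_ind hw hr.2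
    · exact Side.rel_one h.B h.pair h.BX h.BU h.Fb h.l_ind hw hr.2
  | link w =>
    simp only [check, Bool.and_eq_true] at hr
    obtain ⟨a1, a2⟩ := cen_spec h hr.1
    rw [show RelSpec.word (.link w) = [13, 22] ++ w from rfl, wev_append, ← a2, Nat.eq_of_beq_eq_true hr.2]
    simp only [wev, List.map_cons, List.map_nil, List.prod_cons, List.prod_nil, mul_one, val, gval]
    norm_num
    rw [h.link, mul_inv_rev, ← mul_assoc, mul_inv_cancel, one_mul]
    exact inv_mul_cancel _

/-- A letter as a signed generator. -/
def dec14 (a : Nat) : Fin 14 × Bool := (⟨a % 14, Nat.mod_lt _ (by norm_num)⟩, Nat.blt a 14)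

/-- The values as a map on generators. -/
noncomputable def fval (L : Letters) (co : Coord D t) (m l : G) (b : Fin 14) : G := L.val co m l b

theorem lift_word (m l : G) : ∀ {w : List Nat}, (∀ a ∈ w, a < 28) →
    FreeGroup.lift (L.fval co m l) (FreeGroup.mk (w.map dec14)) = wev (L.val co m l) w := by
  intro w
  induction w with
  | nil => intro _; simp [wev, ← FreeGroup.one_eq_mk]
  | cons a w ih =>
    intro h
    rw [List.map_cons, show (dec14 a :: w.map dec14) = [dec14 a] ++ w.map dec14 from rfl, ← FreeGroup.mul_mk, map_mul,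
      ih fun b hb => h b (List.mem_cons_of_mem _ hb)]
    show _ = L.val co m l a * wev (L.val co m l) w
    congr 1
    rw [FreeGroup.lift_mk]
    simp only [dec14, List.map_cons, List.map_nil, List.prod_cons, List.prod_nil, mul_one, fval]
    have ha := h a (List.mem_cons_self ..)
    by_cases h14 : a < 14
    · rw [show Nat.blt a 14 = true from Nat.ble_eq.mpr h14]
      simp [Nat.mod_eq_of_lt h14]
    · rw [show Nat.blt a 14 = false from eq_false_of_ne_true fun e => h14 (Nat.ble_eq.mp e)]
      simp [val, h14, show a % 14 = a - 14 by omega, show a - 14 < 14 by omega]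

theorem word_lt {r : RelSpec} (hr : L.check P D r = true) : ∀ a ∈ r.word, a < 28 := by
  have cw : ∀ {w : List Nat}, cenWord w = true → ∀ a ∈ w, a < 28 := fun hw a ha => by
    have := List.all_eq_true.1 hw a ha
    simp only [Bool.and_eq_true] at this
    exact Nat.ble_eq.mp this.1
  intro a ha
  cases r with
  | cen w => simp only [check, Bool.and_eq_true] at hr; exact cw hr.1 a ha
  | conj s w1 w2 e =>
    simp only [check, Bool.and_eq_true] at hr
    simp only [RelSpec.word, List.mem_cons, List.mem_append] at ha
    rcases ha with rfl | ha | rfl | ha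
    · cases s <;> decide
    · exact cw hr.1 a ha
    · cases s <;> decide
    · exact cw hr.2.1 a ha
  | loc s w =>
    simp only [check, Bool.and_eq_true] at hr
    obtain ⟨i, hi, rfl⟩ := List.mem_map.1 ha
    have : i < 6 := Nat.ble_eq.mp (List.all_eq_true.1 hr.1 i hi)
    cases s <;> interval_cases i <;> decide
  | link w =>
    simp only [check, Bool.and_eq_true] at hr
    simp only [RelSpec.word, List.mem_cons] at ha
    rcases ha with rfl | rfl | ha
    · decide
    · decide
    · exact cw hr.1 a ha

/-- The relators hold in the group. -/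
theorem lift_rels (h : L.Ok P K co x y m l) {RS : List RelSpec} (hRS : RS.all (L.check P D) = true) :
    ∀ r ∈ RS.map (fun s => s.word.map dec14), FreeGroup.lift (L.fval co m l) (FreeGroup.mk r) = 1 := by
  intro r hr
  obtain ⟨s, hs, rfl⟩ := List.mem_map.1 hr
  have hc := List.all_eq_true.1 hRS s hs
  rw [lift_word m l (word_lt hc), rel_holds h hc]

end Letters

end Cfsg.Agent.HeRecog
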