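import Cfsg.Agent.HeRecog.EData

/-! The elementary subgroups of order 64 of the model: a clique search. -/

set_option autoImplicit false
set_option linter.all false

namespace Cfsg.Agent.HeRecog

open Cfsg.Agent.CosetCert

/-- Evaluate the entries of a list before passing it on. -/
noncomputable def forceList (l : List Nat) : (List Nat → Bool) → Bool :=
  List.rec (fun k => k []) (fun a _ ih k => force a fun a => ih fun t => k (a :: t)) l

theorem forceList_eq : ∀ (l : List Nat) (k : List Nat → Bool), forceList l k = k l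
  | [], _ => rfl
  | a :: t, k => by
    show (force a fun a => forceList t fun t => k (a :: t)) = _
    rw [force_eq, forceList_eq t]

/-- The indexed involutions, their commuting masks, and the listed subgroups. -/
structure CliqueData where
  n : Nat
  J : Nat → Nat
  idx : Nat → Nat
  adj : Nat → Nat
  Ks : List Nat
  /-- representatives of the classes, in the order of the cases -/
  reps : List Nat
  /-- the class of an index, and a conjugator -/
  pos : Nat → Nat
  who : Nat → Nat
  /-- the indices of earlier classes -/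
  done : Nat → Nat

namespace CliqueData

variable (Q : CliqueData) (D : Tables)

/-- An involution has an index. -/
noncomputable def checkIdx (c : Nat) : Bool :=
  Nat.beq c 0 || (!Nat.beq (D.mul c c) 0 || (Nat.blt (Q.idx c) Q.n && Nat.beq (Q.J (Q.idx c)) c))

/-- A missing bit is a pair not commuting. -/
noncomputable def checkAdj (i : Nat) : Bool :=
  force (Q.adj i) fun a => force (Q.J i) fun c => Nat.blt c 21504 &&
    allFrom (fun j => Nat.testBit a j || !Nat.beq (D.mul c (Q.J j)) (D.mul (Q.J j) c)) 0 Q.n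

/-- The least bit below `n`, or `n`. -/
noncomputable def firstBit (m : Nat) : Nat → Nat → Nat :=
  fun k => Nat.rec (fun i => i) (fun _ ih i => cond (Nat.testBit m i) i (force (Nat.succ i) ih)) k

noncomputable def bitsOf (l : List Nat) : Nat :=
  l.foldr (fun c m => cond (Nat.beq c 0 || !Nat.beq (Q.J (Q.idx c)) c) m (Nat.lor (Nat.shiftLeft 1 (Q.idx c)) m)) 0

noncomputable def meet (l : List Nat) (m : Nat) : Nat :=
  l.foldr (fun c m => cond (Nat.beq c 0) m (Nat.land (Q.adj (Q.idx c)) m)) m

noncomputable def go : Nat → List Nat → Nat → Nat → Bool :=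
  fun fuel => Nat.rec (fun _ _ _ => false) (fun _ ih span ch cand =>
    force (Nat.lor ch cand) fun all =>
      Nat.blt (countB (fun i => Nat.testBit all i) Q.n) 63 ||
      (Q.Ks.any (fun m => Nat.beq (Nat.land all m) all) ||
      force (firstBit cand Q.n 0) fun i => Nat.blt i Q.n &&
        force (Q.J i) fun v =>
        forceList (span.map fun s => D.mul s v) fun new =>
          force (Q.bitsOf new) fun nb =>
          ((Nat.beq (Nat.land nb all) nb &&
              force (Nat.lor ch nb) (fun ch' => force (Q.meet new cand) fun c₁ =>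
                force (Nat.xor c₁ (Nat.land c₁ ch')) fun cand' => ih (span ++ new) ch' cand')) ||
            !Nat.beq (Nat.land nb all) nb) &&
          force (Nat.xor cand (Nat.land cand nb)) fun cand' => ih span ch cand')) fuel

/-- An index is of a listed class, or is the central involution. -/
noncomputable def checkPos (i : Nat) : Bool :=
  Nat.beq (Q.J i) 1 || (Nat.blt (Q.who i) 21504 && (Nat.blt (Q.pos i) Q.reps.length &&
    Nat.beq (D.mul (Q.who i) (Q.reps.getD (Q.pos i) 0)) (D.mul (Q.J i) (Q.who i))))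

/-- The case of one class. -/
noncomputable def checkCase (k : Nat) : Bool :=
  force (Q.reps.getD k 0) fun r => Nat.blt r 21504 && (!Nat.beq r 0 && (!Nat.beq r 1 &&
    (allFrom (fun i => !Nat.testBit (Q.done k) i || (!Nat.beq (Q.J i) 1 && Nat.blt (Q.pos i) k)) 0 Q.n &&
      force (D.mul 1 r) fun rr => force (Q.bitsOf [0, 1, r, rr]) fun ch =>
        force (Q.meet [0, 1, r, rr] (Nat.pred (Nat.shiftLeft 1 Q.n))) fun c₁ =>
          force (Nat.lor ch (Q.done k)) fun rem =>
            force (Nat.xor c₁ (Nat.land c₁ rem)) fun cand => Q.go D 600 [0, 1, r, rr] ch cand)))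

/-- The checked data. -/
structure Valid : Prop where
  idx : allFrom (Q.checkIdx D) 0 21504 = true
  adj : allFrom (Q.checkAdj D) 0 Q.n = true
  pos : allFrom (Q.checkPos D) 0 Q.n = true
  cases : allFrom (Q.checkCase D) 0 Q.reps.length = true

variable {Q D}

theorem testBit_bitsOf : ∀ {l : List Nat} {i : Nat}, (Q.bitsOf l).testBit i = true →
    ∃ c ∈ l, c ≠ 0 ∧ Q.J (Q.idx c) = c ∧ Q.idx c = i := by
  intro l i
  induction l with
  | nil => simp [bitsOf]
  | cons a l ih =>
    intro h
    have hrec : (Q.bitsOf l).testBit i = true →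
        ∃ c ∈ a :: l, c ≠ 0 ∧ Q.J (Q.idx c) = c ∧ Q.idx c = i := fun h => by
      obtain ⟨c, hc, h'⟩ := ih h
      exact ⟨c, List.mem_cons_of_mem _ hc, h'⟩
    cases ha : (Nat.beq a 0 || !Nat.beq (Q.J (Q.idx a)) a)
    · have e : Q.bitsOf (a :: l) = (1 <<< Q.idx a) ||| Q.bitsOf l := by
        show cond _ _ _ = _
        rw [ha]; rfl
      rw [e, Nat.testBit_or, Bool.or_eq_true] at h
      rcases h with h | h
      · simp only [Bool.or_eq_false_iff, Bool.not_eq_false'] at ha
        refine ⟨a, List.mem_cons_self .., fun e => ?_, Nat.eq_of_beq_eq_true ha.2, ?_⟩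
        · rw [e] at ha; exact Bool.noConfusion ((Nat.beq_refl 0).symm.trans ha.1)
        · rw [Nat.one_shiftLeft, Nat.testBit_two_pow] at h
          exact of_decide_eq_true h
      · exact hrec h
    · have e : Q.bitsOf (a :: l) = Q.bitsOf l := by
        show cond _ _ _ = _
        rw [ha]; rfl
      exact hrec (e ▸ h)

theorem testBit_meet {l : List Nat} {m i : Nat} (hm : m.testBit i = true)
    (h : ∀ c ∈ l, c ≠ 0 → (Q.adj (Q.idx c)).testBit i = true) : (Q.meet l m).testBit i = true := by
  induction l with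
  | nil => simpa [meet] using hm
  | cons a l ih =>
    have := ih fun c hc => h c (List.mem_cons_of_mem _ hc)
    simp only [meet, List.foldr_cons] at this ⊢
    cases ha : Nat.beq a 0
    · simp only [cond_false]
      show Nat.testBit (_ &&& _) _ = true
      rw [Nat.testBit_and, h a (List.mem_cons_self ..) (fun e => by rw [e] at ha; exact Bool.noConfusion ((Nat.beq_refl 0).symm.trans ha)), this]
      rfl
    · simpa using this

/-- A subgroup of the kind sought, as a map on vectors. -/
structure IsElem (D : Tables) (f : Nat → Nat) : Prop where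
  lt : ∀ a, a < 64 → f a < 21504
  mul : ∀ a b, a < 64 → b < 64 → D.mul (f a) (f b) = f (a ^^^ b)
  inj : ∀ a b, a < 64 → b < 64 → f a = f b → a = b
  zero : f 0 = 0
  central : ∃ a, a < 64 ∧ f a = 1

theorem idx_spec (hQ : Q.Valid D) {f : Nat → Nat} (hf : IsElem D f) {a : Nat} (ha : a < 64) (h0 : a ≠ 0) :
    f a ≠ 0 ∧ Q.idx (f a) < Q.n ∧ Q.J (Q.idx (f a)) = f a := by
  have hz : f a ≠ 0 := fun e => h0 (hf.inj a 0 ha (by norm_num) (e.trans hf.zero.symm))
  have h := Tables.all_lt hQ.idx (hf.lt a ha)
  simp only [checkIdx, Bool.or_eq_true, Bool.and_eq_true, Bool.not_eq_true', ← Bool.not_eq_true] at h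
  rcases h with h | h | ⟨h1, h2⟩
  · exact absurd (Nat.eq_of_beq_eq_true h) hz
  · exact absurd (by rw [hf.mul a a ha ha, Nat.xor_self, hf.zero]; exact Nat.beq_refl _) h
  · exact ⟨hz, Nat.ble_eq.mp h1, Nat.eq_of_beq_eq_true h2⟩

theorem adj_spec (hQ : Q.Valid D) {f : Nat → Nat} (hf : IsElem D f) {a b : Nat} (ha : a < 64) (hb : b < 64)
    (ha0 : a ≠ 0) (hb0 : b ≠ 0) : (Q.adj (Q.idx (f a))).testBit (Q.idx (f b)) = true := by
  obtain ⟨-, hia, hJa⟩ := idx_spec hQ hf ha ha0
  obtain ⟨-, hib, hJb⟩ := idx_spec hQ hf hb hb0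
  have h := Tables.all_lt hQ.adj hia
  simp only [checkAdj, force_eq, Bool.and_eq_true] at h
  have h := Tables.all_lt h.2 hib
  simp only [Bool.or_eq_true, Bool.not_eq_true', ← Bool.not_eq_true] at h
  refine h.resolve_right fun hn => hn ?_
  rw [hJa, hJb, hf.mul a b ha hb, hf.mul b a hb ha, Nat.xor_comm]
  exact Nat.beq_refl _

theorem vlt (hQ : Q.Valid D) {i : Nat} (hi : Nat.blt i Q.n = true) : Q.J i < 21504 := by
  have h := Tables.all_lt hQ.adj (Nat.ble_eq.mp hi)
  simp only [checkAdj, force_eq, Bool.and_eq_true] at h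
  exact Nat.ble_eq.mp h.1

theorem cancel {G : Type*} [Group G] {t : G} (co : Coord D t) {f : Nat → Nat} (hf : IsElem D f) {d v : Nat}
    (hd : d < 64) (hv : v < 21504) : D.mul (f d) (D.mul (f d) v) = v := by
  have hl := hf.lt d hd
  refine co.inj _ _ (co.lt _ _ hl (co.lt _ _ hl hv)) hv ?_
  rw [co.mul _ _ hl (co.lt _ _ hl hv), co.mul _ _ hl hv, ← mul_assoc, ← co.mul _ _ hl hl,
    hf.mul d d hd hd, Nat.xor_self, hf.zero, co.zero, one_mul]

/-- The search finds every subgroup. -/
theorem go_spec {G : Type*} [Group G] {t : G} (co : Coord D t) (hQ : Q.Valid D) {f : Nat → Nat} (hf : IsElem D f) : ∀ (fuel : Nat) (span : List Nat) (ch cand : Nat),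
    Q.go D fuel span ch cand = true → (∀ s ∈ span, ∃ a, a < 64 ∧ f a = s) →
    (∀ a, a < 64 → a ≠ 0 → (Nat.lor ch cand).testBit (Q.idx (f a)) = true) →
    (∀ i, cand.testBit i = true → ch.testBit i = false) → 0 ∈ span →
    ∃ m ∈ Q.Ks, ∀ a, a < 64 → a ≠ 0 → m.testBit (Q.idx (f a)) = true := by
  intro fuel
  induction fuel with
  | zero => intro _ _ _ h; simp [go] at h
  | succ k ih =>
    intro span ch cand h hspan hall hdis h0
    have h' : (force (Nat.lor ch cand) fun all =>
      Nat.blt (countB (fun i => Nat.testBit all i) Q.n) 63 ||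
      (Q.Ks.any (fun m => Nat.beq (Nat.land all m) all) ||
      force (firstBit cand Q.n 0) fun i => Nat.blt i Q.n &&
        force (Q.J i) fun v =>
        forceList (span.map fun s => D.mul s v) fun new =>
          force (Q.bitsOf new) fun nb =>
          ((Nat.beq (Nat.land nb all) nb &&
              force (Nat.lor ch nb) (fun ch' => force (Q.meet new cand) fun c₁ =>
                force (Nat.xor c₁ (Nat.land c₁ ch')) fun cand' => Q.go D k (span ++ new) ch' cand')) ||
            !Nat.beq (Nat.land nb all) nb) &&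
          force (Nat.xor cand (Nat.land cand nb)) fun cand' => Q.go D k span ch cand')) = true := h
    simp only [forceList_eq, force_eq, Bool.or_eq_true, Bool.and_eq_true] at h'
    clear h
    set all := Nat.lor ch cand with hallDef
    rcases h' with hc | hk | ⟨hi, hnew, hex⟩
    · exfalso
      have hc := Nat.ble_eq.mp hc
      rw [countB_eq] at hc
      have hle : (Finset.Ico 1 64).card ≤ ((Finset.range Q.n).filter fun i => all.testBit i = true).card := by
        refine Finset.card_le_card_of_injOn (fun a => Q.idx (f a)) (fun a ha => ?_) (fun a ha b hb hab => ?_)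
        · simp only [Finset.coe_Ico, Set.mem_Ico] at ha
          simp only [Finset.coe_filter, Finset.mem_range, Set.mem_setOf_eq]
          exact ⟨(idx_spec hQ hf ha.2 (by omega)).2.1, hall a ha.2 (by omega)⟩
        · simp only [Finset.coe_Ico, Set.mem_Ico] at ha hb
          refine hf.inj a b ha.2 hb.2 ?_
          rw [← (idx_spec hQ hf ha.2 (by omega)).2.2, ← (idx_spec hQ hf hb.2 (by omega)).2.2]
          exact congrArg Q.J hab
      simp at hle; omega
    · obtain ⟨m, hm, hsub⟩ := List.any_eq_true.1 hk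
      refine ⟨m, hm, fun a ha ha0 => ?_⟩
      have h1 := hall a ha ha0
      rw [← Nat.eq_of_beq_eq_true hsub] at h1
      change (all &&& m).testBit _ = true at h1
      rw [Nat.testBit_and, Bool.and_eq_true] at h1
      exact h1.2
    · set v := Q.J (firstBit cand Q.n 0) with hv
      set new := span.map fun s => D.mul s v with hnewDef
      set nb := Q.bitsOf new with hnb
      have hall' : ∀ i, all.testBit i = (ch.testBit i || cand.testBit i) := fun i => by
        show (ch ||| cand).testBit i = _; rw [Nat.testBit_or]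
      by_cases hin : ∃ a, a < 64 ∧ f a = v
      · -- included
        obtain ⟨a, ha, hav⟩ := hin
        have hmem : ∀ c ∈ new, ∃ b, b < 64 ∧ f b = c := by
          intro c hc
          obtain ⟨s, hs, rfl⟩ := List.mem_map.1 hc
          obtain ⟨b, hb, rfl⟩ := hspan s hs
          exact ⟨b ^^^ a, Nat.xor_lt_two_pow (n := 6) hb ha, by rw [← hav, hf.mul b a hb ha]⟩
        have hnz : ∀ {b}, b < 64 → f b ≠ 0 → b ≠ 0 := fun _ hb e => hb (by rw [e, hf.zero])
        have hsub : Nat.beq (Nat.land nb all) nb = true := by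
          rw [show Nat.land nb all = nb from ?_]; · exact Nat.beq_refl _
          refine Nat.eq_of_testBit_eq fun i => ?_
          show (nb &&& all).testBit i = _
          rw [Nat.testBit_and]
          cases hb : nb.testBit i
          · rfl
          · obtain ⟨c, hc, hc0, -, rfl⟩ := testBit_bitsOf hb
            obtain ⟨b, hb', rfl⟩ := hmem c hc
            rw [hall b hb' (hnz hb' hc0)]; rfl
        rcases hnew with ⟨-, hgo⟩ | hn
        swap
        · rw [hsub] at hn; simp at hn
        refine ih _ _ _ hgo (fun s hs => ?_) (fun b hb hb0 => ?_) (fun i hi => ?_) (List.mem_append_left _ h0)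
        · rcases List.mem_append.1 hs with hs | hs
          · exact hspan s hs
          · exact hmem s hs
        · show (Nat.lor ch nb ||| Nat.xor _ (Nat.land _ (Nat.lor ch nb))).testBit _ = true
          rw [Nat.testBit_or]
          show ((ch ||| nb).testBit _ || (Q.meet new cand ^^^ (Q.meet new cand &&& (ch ||| nb))).testBit _) = true
          rw [Nat.testBit_xor, Nat.testBit_and]
          cases hcn : (ch ||| nb).testBit (Q.idx (f b))
          · have hcand : cand.testBit (Q.idx (f b)) = true := by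
              have h1 := hall b hb hb0
              rw [hall'] at h1
              rw [Nat.testBit_or, Bool.or_eq_false_iff] at hcn
              simpa [hcn.1] using h1
            rw [testBit_meet hcand fun c hc hc0 => ?_]
            · rfl
            obtain ⟨d, hd, rfl⟩ := hmem c hc
            exact adj_spec hQ hf hd hb (hnz hd hc0) hb0
          · rfl
        · change ((Q.meet new cand) ^^^ ((Q.meet new cand) &&& (ch ||| nb))).testBit i = true at hi
          show (ch ||| nb).testBit i = false
          rw [Nat.testBit_xor, Nat.testBit_and] at hi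
          cases h2 : (ch ||| nb).testBit i
          · rfl
          · rw [h2] at hi; simp at hi
      · -- excluded
        refine ih _ _ _ hex hspan (fun b hb hb0 => ?_) (fun i hi => ?_) h0
        · show (ch ||| (cand ^^^ (cand &&& nb))).testBit _ = true
          have h1 := hall b hb hb0
          rw [hall'] at h1
          rw [Nat.testBit_or, Nat.testBit_xor, Nat.testBit_and]
          cases hn : nb.testBit (Q.idx (f b))
          · simpa using h1
          · exfalso
            obtain ⟨c, hc, hc0, hJc, hci⟩ := testBit_bitsOf hn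
            obtain ⟨s, hs, hsc⟩ := List.mem_map.1 hc
            obtain ⟨d, hd, rfl⟩ := hspan s hs
            obtain ⟨-, -, hJb⟩ := idx_spec hQ hf hb hb0
            rw [hci, hJb] at hJc
            -- `c = f b = f d * v`, so `v` lies in the image
            refine hin ⟨d ^^^ b, Nat.xor_lt_two_pow (n := 6) hd hb, ?_⟩
            rw [← hf.mul d b hd hb, hJc, ← hsc]
            exact cancel co hf hd (vlt hQ hi)
        · change (cand ^^^ (cand &&& nb)).testBit i = true at hi
          rw [Nat.testBit_xor, Nat.testBit_and] at hi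
          refine hdis i ?_
          cases hc : cand.testBit i
          · rw [hc] at hi; simp at hi
          · rfl

/-- Every subgroup is, up to conjugation, listed. -/
theorem start_spec {G : Type*} [Group G] {t : G} (co : Coord D t) (hQ : Q.Valid D) {f : Nat → Nat}
    (hf : IsElem D f) : ∃ e f', e < 21504 ∧ IsElem D f' ∧
      (∀ a, a < 64 → co.ψ (f' a) = (co.ψ e)⁻¹ * co.ψ (f a) * co.ψ e) ∧
      ∃ m ∈ Q.Ks, ∀ a, a < 64 → a ≠ 0 → m.testBit (Q.idx (f' a)) = true := by
  classical
  -- a class met by the subgroup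
  let Met : Nat → Prop := fun k => k < Q.reps.length ∧ ∃ a, a < 64 ∧ a ≠ 0 ∧ ∃ e, e < 21504 ∧
    co.ψ e * co.ψ (Q.reps.getD k 0) * (co.ψ e)⁻¹ = co.ψ (f a)
  have hrep : ∀ i, i < Q.n → Q.J i ≠ 1 → Q.pos i < Q.reps.length ∧ Q.who i < 21504 ∧
      co.ψ (Q.who i) * co.ψ (Q.reps.getD (Q.pos i) 0) * (co.ψ (Q.who i))⁻¹ = co.ψ (Q.J i) := by
    intro i hi h1
    have h := Tables.all_lt hQ.pos hi
    simp only [checkPos, Bool.or_eq_true, Bool.and_eq_true] at h
    rcases h with h | ⟨hw, hp, he⟩
    · exact absurd (Nat.eq_of_beq_eq_true h) h1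
    have hw := Nat.ble_eq.mp hw
    have hp := Nat.ble_eq.mp hp
    have hr := Tables.all_lt hQ.cases hp
    simp only [checkCase, force_eq, Bool.and_eq_true] at hr
    refine ⟨hp, hw, ?_⟩
    rw [mul_inv_eq_iff_eq_mul, ← co.mul _ _ hw (Nat.ble_eq.mp hr.1),
      ← co.mul _ _ (vlt hQ (Nat.ble_eq.mpr hi)) hw, Nat.eq_of_beq_eq_true he]
  have hex : ∃ k, Met k := by
    by_contra hne
    simp only [not_exists] at hne
    obtain ⟨e, he, he1⟩ := hf.central
    obtain ⟨a, ha, ha0, hae⟩ : ∃ a, a < 64 ∧ a ≠ 0 ∧ a ≠ e := by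
      by_cases h : e = 1
      · exact ⟨2, by norm_num, by norm_num, by omega⟩
      · exact ⟨1, by norm_num, one_ne_zero, fun h' => h h'.symm⟩
    obtain ⟨-, hi, hJ⟩ := idx_spec hQ hf ha ha0
    by_cases h1 : Q.J (Q.idx (f a)) = 1
    · exact hae (hf.inj a e ha he (by rw [← hJ, h1, he1]))
    · obtain ⟨hp, hw, hc⟩ := hrep _ hi h1
      exact hne _ ⟨hp, a, ha, ha0, _, hw, by rw [hc, hJ]⟩
  set k := Nat.find hex with hk
  obtain ⟨hkl, a0, ha0, ha00, e, he, hea⟩ := Nat.find_spec hex
  have hmin : ∀ j, j < k → ¬ Met j := fun j hj => Nat.find_min hex hj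
  have hcase := Tables.all_lt hQ.cases hkl
  simp only [checkCase, force_eq, Bool.and_eq_true, Bool.not_eq_true', ← Bool.not_eq_true] at hcase
  rw [← hk] at hcase
  set r := Q.reps.getD k 0 with hr
  obtain ⟨hrl, hr0, hr1, hdone, hgo⟩ := hcase
  have hrl := Nat.ble_eq.mp hrl
  -- the conjugate
  have hmem : ∀ a, a < 64 → Commute ((co.ψ e)⁻¹ * co.ψ (f a) * co.ψ e) t := fun a ha =>
    ((co.mem e he).inv_left.mul_left (co.mem _ (hf.lt a ha))).mul_left (co.mem e he)
  let f' : Nat → Nat := fun a => if h : a < 64 then (co.surj _ (hmem a h)).choose else 0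
  have hf' : ∀ a, a < 64 → f' a < 21504 ∧ co.ψ (f' a) = (co.ψ e)⁻¹ * co.ψ (f a) * co.ψ e := fun a ha => by
    simp only [f', dif_pos ha]; exact (co.surj _ (hmem a ha)).choose_spec
  have hel : IsElem D f' := by
    refine ⟨fun a ha => (hf' a ha).1, fun a b ha hb => ?_, fun a b ha hb hab => ?_, ?_, ?_⟩
    · have hx : a ^^^ b < 64 := Nat.xor_lt_two_pow (n := 6) ha hb
      refine co.inj _ _ (co.lt _ _ (hf' a ha).1 (hf' b hb).1) (hf' _ hx).1 ?_
      rw [co.mul _ _ (hf' a ha).1 (hf' b hb).1, (hf' a ha).2, (hf' b hb).2, (hf' _ hx).2, ← hf.mul a b ha hb,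
        co.mul _ _ (hf.lt a ha) (hf.lt b hb)]
      group
    · refine hf.inj a b ha hb (co.inj _ _ (hf.lt a ha) (hf.lt b hb) ?_)
      have := congrArg co.ψ hab
      rw [(hf' a ha).2, (hf' b hb).2] at this
      exact mul_left_cancel (mul_right_cancel this)
    · refine co.inj _ _ (hf' 0 (by norm_num)).1 (by norm_num) ?_
      rw [(hf' 0 (by norm_num)).2, hf.zero, co.zero, mul_one, inv_mul_cancel]
    · obtain ⟨a1, ha1, he1⟩ := hf.central
      refine ⟨a1, ha1, co.inj _ _ (hf' a1 ha1).1 (by norm_num) ?_⟩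
      rw [(hf' a1 ha1).2, he1, co.one, mul_assoc, (co.mem e he).symm.eq, inv_mul_cancel_left]
  refine ⟨e, f', he, hel, fun a ha => (hf' a ha).2, ?_⟩
  have hr_eq : f' a0 = r := co.inj _ _ (hf' a0 ha0).1 hrl (by rw [(hf' a0 ha0).2, ← hea]; group)
  obtain ⟨a1, ha1, he1⟩ := hel.central
  have hspan : ∀ s ∈ [0, 1, r, D.mul 1 r], ∃ a, a < 64 ∧ f' a = s := by
    intro s hs
    simp only [List.mem_cons, List.mem_nil_iff, or_false] at hs
    rcases hs with rfl | rfl | rfl | rfl
    · exact ⟨0, by norm_num, hel.zero⟩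
    · exact ⟨a1, ha1, he1⟩
    · exact ⟨a0, ha0, hr_eq⟩
    · exact ⟨a1 ^^^ a0, Nat.xor_lt_two_pow (n := 6) ha1 ha0, by rw [← hel.mul a1 a0 ha1 ha0, he1, hr_eq]⟩
  refine go_spec co hQ hel 600 _ _ _ hgo hspan ?_ ?_ (List.mem_cons_self ..)
  · intro a ha ha0'
    obtain ⟨-, hi, hJ⟩ := idx_spec hQ hel ha ha0'
    show ((Q.bitsOf [0, 1, r, D.mul 1 r]) ||| (_ ^^^ (_ &&& (Q.bitsOf [0, 1, r, D.mul 1 r] ||| Q.done k)))).testBit _ = true
    have hmeet : (Q.meet [0, 1, r, D.mul 1 r] (Nat.pred (Nat.shiftLeft 1 Q.n))).testBit (Q.idx (f' a)) = true := by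
      refine testBit_meet ?_ fun c hc hc0 => ?_
      · show ((1 <<< Q.n) - 1).testBit _ = true
        rw [Nat.one_shiftLeft, Nat.testBit_two_pow_sub_one]
        exact decide_eq_true hi
      · obtain ⟨d, hd, rfl⟩ := hspan c hc
        exact adj_spec hQ hel hd ha (fun e => hc0 (by rw [e, hel.zero])) ha0'
    have hnd : (Q.done k).testBit (Q.idx (f' a)) = false := by
      refine eq_false_of_ne_true fun hd => ?_
      have h := Tables.all_lt hdone hi
      rw [hd] at h
      simp only [Bool.not_true, Bool.false_or, Bool.and_eq_true, Bool.not_eq_true', ← Bool.not_eq_true] at h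
      have hlt := Nat.ble_eq.mp h.2
      obtain ⟨hp, hw, hc⟩ := hrep _ hi (fun e => h.1 (by rw [e]; exact Nat.beq_refl _))
      refine hmin _ hlt ⟨hp, a, ha, ha0', D.mul e (Q.who (Q.idx (f' a))), co.lt _ _ he hw, ?_⟩
      rw [hJ, (hf' a ha).2] at hc
      rw [co.mul _ _ he hw]
      calc co.ψ e * co.ψ (Q.who (Q.idx (f' a))) * co.ψ (Q.reps.getD (Q.pos (Q.idx (f' a))) 0) *
            (co.ψ e * co.ψ (Q.who (Q.idx (f' a))))⁻¹
          = co.ψ e * (co.ψ (Q.who (Q.idx (f' a))) * co.ψ (Q.reps.getD (Q.pos (Q.idx (f' a))) 0) *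
            (co.ψ (Q.who (Q.idx (f' a))))⁻¹) * (co.ψ e)⁻¹ := by group
        _ = co.ψ (f a) := by rw [hc]; group
    rw [Nat.testBit_or, Nat.testBit_xor, Nat.testBit_and, Nat.testBit_or, hmeet, hnd]
    cases (Q.bitsOf [0, 1, r, D.mul 1 r]).testBit (Q.idx (f' a)) <;> rfl
  · intro i hi
    change ((Q.meet [0, 1, r, D.mul 1 r] (Nat.pred (Nat.shiftLeft 1 Q.n))) ^^^
      ((Q.meet [0, 1, r, D.mul 1 r] (Nat.pred (Nat.shiftLeft 1 Q.n))) &&&
        (Q.bitsOf [0, 1, r, D.mul 1 r] ||| Q.done k))).testBit i = true at hi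
    rw [Nat.testBit_xor, Nat.testBit_and, Nat.testBit_or] at hi
    cases h2 : (Q.bitsOf [0, 1, r, D.mul 1 r]).testBit i
    · rfl
    · rw [h2] at hi; simp at hi

end CliqueData

end Cfsg.Agent.HeRecog
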