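import Cfsg.Agent.HeRecog.M8a.Fuse
import Cfsg.Agent.HeRecog.Options
import Cfsg.Agent.Invol.Pair

/-!
A single fused class forming a block of sixteen: the block is a normal subgroup.

The normaliser `N` of the block `A` contains the centraliser of `t` and every conjugate of `t` in
`N` lies in `A`. An involution `u` inducing a transvection on `A` has its centraliser and all its
conjugates inside `N`, so `t` and all its conjugates lie in `N`.
-/

set_option autoImplicit false
set_option linter.all false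
set_option maxRecDepth 100000

namespace Cfsg.Agent.HeRecog

open Subgroup

/-- For two involutions that are not conjugate there is an involution `c` commuting with both such
that `a * c` is conjugate to one of them. -/
theorem ti_central_shift {Y : Type*} [Group Y] [Finite Y] {a b : Y} (ha : orderOf a = 2) (hb : orderOf b = 2)
    (h : ¬ IsConj a b) :
    ∃ c d : Y, orderOf c = 2 ∧ Commute c a ∧ Commute c b ∧
      (d * a * d⁻¹ = a * c ∨ d * b * d⁻¹ = a * c) := by
  have heven : Even (orderOf (a * b)) := by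
    by_contra hc
    exact h (Invol.isConj_of_odd ha hb (Nat.not_even_iff_odd.1 hc))
  set n := orderOf (a * b) / 2 with hn
  refine ⟨(a * b) ^ n, ?_⟩
  obtain ⟨k, hk⟩ | ⟨k, hk⟩ := Nat.even_or_odd n
  · obtain ⟨d, -, hd⟩ := Invol.exists_conj_eq ha hb (k : ℤ)
    refine ⟨d, Invol.orderOf_central heven (orderOf_pos _), Invol.commute_central ha hb heven,
      Invol.commute_central' ha hb heven, Or.inl ?_⟩
    rw [hd, hk, ← zpow_natCast]
    congr 2
    push_cast
    ring
  · obtain ⟨d, -, hd⟩ := Invol.exists_conj_eq hb ha (-k : ℤ)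
    refine ⟨d, Invol.orderOf_central heven (orderOf_pos _), Invol.commute_central ha hb heven,
      Invol.commute_central' ha hb heven, Or.inr ?_⟩
    have hba : b * a = (a * b)⁻¹ := by
      rw [mul_inv_rev, Invol.inv_eq_self ha, Invol.inv_eq_self hb]
    rw [hd, hk, hba, inv_zpow, ← zpow_neg, pow_succ', ← mul_assoc, Invol.mul_mul_cancel_self ha,
      ← zpow_natCast]
    congr 2
    push_cast
    ring

variable {G : Type*} [Group G] [Finite G]

/-- A subgroup of commuting conjugates of `t` with a transvection is normal. -/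
theorem normal_of_transvection {t : G} (ht : orderOf t = 2) (A : Subgroup G) (htA : t ∈ A)
    (hab : ∀ a ∈ A, ∀ b ∈ A, Commute a b) (hconj : ∀ a ∈ A, a ≠ 1 → IsConj t a)
    (hcl : ∀ s, IsConj t s → Commute s t → s ∈ A) {u a1 b : G} (hu : orderOf u = 2)
    (hut : Commute u t) (ha1 : a1 ∈ A) (hnc : ¬ Commute u a1) (hb : b ∈ A) (hb1 : b ≠ 1)
    (hbt : b ≠ t) (hub : Commute u b)
    (htr : ∀ a ∈ A, u * a * u⁻¹ = a ∨ u * a * u⁻¹ = a * t) : A.Normal := by
  set N := normalizer (A : Set G) with hN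
  have ht1 : t ≠ 1 := Invol.ne_one ht
  have htt : t * t = 1 := Invol.mul_self_eq_one ht
  have hNA : ∀ n ∈ N, ∀ a ∈ A, n * a * n⁻¹ ∈ A := fun n hn a ha =>
    (Subgroup.mem_normalizer_iff.1 hn a).1 ha
  have hblock : ∀ g, g * t * g⁻¹ ∈ A → g ∈ N := by
    intro g hg
    have hsub : ∀ a ∈ A, g⁻¹ * a * g ∈ A := by
      intro a ha
      by_cases h1 : a = 1
      · subst h1; simp
      refine hcl _ ((hconj a ha h1).trans (isConj_iff.2 ⟨g⁻¹, by group⟩)) ?_
      have := (Commute.conj_iff g⁻¹).2 (hab a ha _ hg)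
      simpa [mul_assoc] using this
    let f : A → A := fun a => ⟨g⁻¹ * a * g, hsub a a.2⟩
    have hf : Function.Injective f := fun a b h => Subtype.ext (by
      have := congrArg Subtype.val h
      simpa [f] using this)
    refine Subgroup.mem_normalizer_iff.2 fun y => ⟨fun hy => ?_, fun hy => ?_⟩
    · obtain ⟨a, ha⟩ := (Finite.injective_iff_surjective.1 hf) ⟨y, hy⟩
      have : g⁻¹ * (a : G) * g = y := congrArg Subtype.val ha
      rw [← this]
      simp [mul_assoc]
    · have := hsub _ hy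
      simpa [mul_assoc] using this
  have hCN : ∀ c, Commute c t → c ∈ N := fun c hc => hblock c (by
    rw [hc.eq, mul_inv_cancel_right]; exact htA)
  have htrans : ∀ a ∈ A, a ≠ 1 → ∃ n ∈ N, n * t * n⁻¹ = a := fun a ha h1 => by
    obtain ⟨g, hg⟩ := isConj_iff.1 (hconj a ha h1)
    exact ⟨g, hblock g (hg ▸ ha), hg⟩
  have hcA : ∀ a ∈ A, a ≠ 1 → ∀ c, Commute c a → c ∈ N := by
    intro a ha h1 c hc
    obtain ⟨n, hn, hna⟩ := htrans a ha h1
    have h : Commute (n⁻¹ * c * n) t := by
      rw [← hna] at hc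
      have := (Commute.conj_iff n⁻¹).2 hc
      simpa [mul_assoc] using this
    have := N.mul_mem (N.mul_mem hn (hCN _ h)) (N.inv_mem hn)
    simpa [mul_assoc] using this
  -- a conjugate of `t` in the normaliser lies in the block
  have hT : ∀ s, IsConj t s → s ∈ N → s ∈ A := by
    intro s hs hsN
    have hs2 := Invol.orderOf_eq_two_of_isConj hs ht
    obtain ⟨c, hc, hc1, hsc⟩ : ∃ c ∈ A, c ≠ 1 ∧ Commute s c := by
      by_cases h : Commute s t
      · exact ⟨t, htA, ht1, h⟩
      have htx : s * t * s⁻¹ ∈ A := hNA s hsN t htA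
      refine ⟨t * (s * t * s⁻¹), A.mul_mem htA htx, fun e => h ?_, ?_⟩
      · have e' : s * t * s⁻¹ = t := by
          rw [← inv_eq_of_mul_eq_one_right e, Invol.inv_eq_self ht]
        exact mul_inv_eq_iff_eq_mul.1 e'
      · have hc := hab t htA _ htx
        refine mul_inv_eq_iff_eq_mul.1 ?_
        calc s * (t * (s * t * s⁻¹)) * s⁻¹ = s * t * s⁻¹ * ((s * s) * t * (s * s)⁻¹) := by group
          _ = t * (s * t * s⁻¹) := by rw [Invol.mul_self_eq_one hs2, one_mul, inv_one, mul_one, hc.eq]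
    obtain ⟨n, hn, hnc'⟩ := htrans c hc hc1
    have h2 : n⁻¹ * s * n ∈ A := by
      refine hcl _ (hs.trans (isConj_iff.2 ⟨n⁻¹, by group⟩)) ?_
      rw [← hnc'] at hsc
      have := (Commute.conj_iff n⁻¹).2 hsc
      simpa [mul_assoc] using this
    have := hNA n hn _ h2
    simpa [mul_assoc] using this
  have hH2 : ∀ g, g * t * g⁻¹ ∈ N → g ∈ N := fun g hg =>
    hblock g (hT _ (isConj_iff.2 ⟨g, rfl⟩) hg)
  -- the centraliser of a transvection
  have hgood : ∀ v, orderOf v = 2 → Commute v t → Commute v b → ¬ Commute v a1 →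
      (∀ a ∈ A, v * a * v⁻¹ = a ∨ v * a * v⁻¹ = a * t) → ∀ g, Commute g v → g ∈ N := by
    intro v hv hvt hvb hva1 hvtr g hgv
    by_contra hg
    set s := g * t * g⁻¹ with hs
    have hts : IsConj t s := isConj_iff.2 ⟨g, rfl⟩
    have hsv : Commute s v := ((hgv.mul_left hvt.symm).mul_left hgv.inv_left)
    have hbC : b ∈ centralizer ({v} : Set G) := mem_centralizer_singleton_iff.2 hvb.symm.eq
    have hsC : s ∈ centralizer ({v} : Set G) := mem_centralizer_singleton_iff.2 hsv.eq
    have hb2 : orderOf (⟨b, hbC⟩ : centralizer ({v} : Set G)) = 2 := by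
      rw [Subgroup.orderOf_mk]; exact Invol.orderOf_eq_two_of_isConj (hconj b hb hb1) ht
    have hs2 : orderOf (⟨s, hsC⟩ : centralizer ({v} : Set G)) = 2 := by
      rw [Subgroup.orderOf_mk]; exact Invol.orderOf_eq_two_of_isConj hts ht
    by_cases hcj : IsConj (⟨b, hbC⟩ : centralizer ({v} : Set G)) ⟨s, hsC⟩
    · obtain ⟨e, he⟩ := isConj_iff.1 hcj
      have he' : (e : G) * b * (e : G)⁻¹ = s := congrArg Subtype.val he
      set n := (e : G)⁻¹ * g with hn'
      have hnb : n * t * n⁻¹ = b := by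
        calc n * t * n⁻¹ = (e : G)⁻¹ * s * e := by rw [hn', hs]; group
          _ = b := by rw [← he']; group
      have hn : n ∈ N := hblock n (hnb ▸ hb)
      have hev : Commute (e : G) v := mem_centralizer_singleton_iff.1 e.2
      have hnv : Commute v n := (hev.inv_left.mul_left hgv).symm
      have ha2 : n * a1 * n⁻¹ ∈ A := hNA n hn a1 ha1
      have hva : v * a1 * v⁻¹ = a1 * t :=
        (hvtr a1 ha1).resolve_left fun h => hva1 (mul_inv_eq_iff_eq_mul.1 h)
      have hmov : v * (n * a1 * n⁻¹) * v⁻¹ = n * a1 * n⁻¹ * b := by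
        calc v * (n * a1 * n⁻¹) * v⁻¹ = (v * n) * a1 * (v * n)⁻¹ := by group
          _ = (n * v) * a1 * (n * v)⁻¹ := by rw [hnv.eq]
          _ = n * (v * a1 * v⁻¹) * n⁻¹ := by group
          _ = n * a1 * n⁻¹ * (n * t * n⁻¹) := by rw [hva]; group
          _ = n * a1 * n⁻¹ * b := by rw [hnb]
      rcases hvtr _ ha2 with h | h
      · exact hb1 (mul_eq_left.1 (hmov.symm.trans h))
      · exact hbt (mul_left_cancel (hmov.symm.trans h))
    · obtain ⟨c, d, hc2, hcb, hcs, hd⟩ := ti_central_shift hb2 hs2 hcj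
      have hcb' : Commute (c : G) b := congrArg Subtype.val hcb.eq
      have hcs' : Commute (c : G) s := congrArg Subtype.val hcs.eq
      have hc1 : (c : G) ≠ 1 := fun e => Invol.ne_one hc2 (Subtype.ext e)
      have hbc : IsConj t (b * c) := by
        rcases hd with h | h
        · exact (hconj b hb hb1).trans (isConj_iff.2 ⟨(d : G), congrArg Subtype.val h⟩)
        · exact hts.trans (isConj_iff.2 ⟨(d : G), congrArg Subtype.val h⟩)
      have hbcN : b * c ∈ N := hcA b hb hb1 _ ((Commute.refl b).mul_left hcb')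
      have hcAm : (c : G) ∈ A := by
        have := A.mul_mem (A.inv_mem hb) (hT _ hbc hbcN)
        simpa using this
      exact hg (hH2 g (hcA _ hcAm hc1 s hcs'.symm))
  have hnuA : u ∉ A := fun h => hnc (hab u h a1 ha1)
  have huC : ∀ g, Commute g u → g ∈ N := hgood u hu hut hub hnc htr
  -- all conjugates of `u` lie in the normaliser
  have hconjN : ∀ g, g * u * g⁻¹ ∈ N := by
    intro g
    set x := g * u * g⁻¹ with hx
    have hx2 : orderOf x = 2 := by rw [hx, Invol.orderOf_conj]; exact hu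
    have hnj : ¬ IsConj t x := fun h =>
      hnuA (hT u (h.trans (isConj_iff.2 ⟨g⁻¹, by rw [hx]; group⟩)) (hCN u hut))
    obtain ⟨c, d, hc2, hct, hcx, hd⟩ := ti_central_shift ht hx2 hnj
    have hc1 : c ≠ 1 := Invol.ne_one hc2
    rcases hd with h | h
    · have htcA : t * c ∈ A := hcl _ (isConj_iff.2 ⟨d, h⟩) ((Commute.refl t).mul_left hct)
      have hcA' : c ∈ A := by
        have := A.mul_mem (A.inv_mem htA) htcA
        simpa using this
      exact hcA c hcA' hc1 x hcx.symm
    · set k := d * g with hk'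
      have hku : k * u * k⁻¹ = t * c := by rw [hk', ← h, hx]; group
      set t0 := k⁻¹ * t * k with ht0
      have ht0u : Commute t0 u := by
        have h1 : Commute t (k * u * k⁻¹) := by
          rw [hku]; exact (Commute.refl t).mul_right hct.symm
        have := (Commute.conj_iff k⁻¹).2 h1
        simpa [mul_assoc, ht0] using this
      have ht0N : t0 ∈ N := huC t0 ht0u
      have hkN : k ∈ N := by
        have := N.inv_mem (hH2 k⁻¹ (by simpa [ht0, mul_assoc] using ht0N))
        simpa using this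
      have htt0 : IsConj t t0 := isConj_iff.2 ⟨k⁻¹, by rw [ht0]; group⟩
      have ht0A : t0 ∈ A := hT t0 htt0 ht0N
      have hv2 : orderOf (t0 * u) = 2 := by
        refine Invol.orderOf_eq_two_iff.2 ⟨fun e => hnuA ?_, ?_⟩
        · rw [← inv_eq_of_mul_eq_one_right e]; exact A.inv_mem ht0A
        · calc t0 * u * (t0 * u) = (t0 * u) * (u * t0) := by rw [ht0u.eq]
            _ = t0 * (u * u) * t0 := by group
            _ = 1 := by
              rw [Invol.mul_self_eq_one hu, mul_one,
                Invol.mul_self_eq_one (Invol.orderOf_eq_two_of_isConj htt0 ht)]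
      have hvtr : ∀ a ∈ A, t0 * u * a * (t0 * u)⁻¹ = a ∨ t0 * u * a * (t0 * u)⁻¹ = a * t := by
        intro a ha
        have key : ∀ a' ∈ A, u * a * u⁻¹ = a' → t0 * u * a * (t0 * u)⁻¹ = a' := by
          intro a' ha' e
          calc t0 * u * a * (t0 * u)⁻¹ = t0 * (u * a * u⁻¹) * t0⁻¹ := by group
            _ = a' := by rw [e, (hab t0 ht0A a' ha').eq, mul_inv_cancel_right]
        rcases htr a ha with e | e
        · exact Or.inl (key a ha e)
        · exact Or.inr (key _ (A.mul_mem ha htA) e)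
      have hvC := hgood (t0 * u) hv2 ((hab t0 ht0A t htA).mul_left hut)
        ((hab t0 ht0A b hb).mul_left hub)
        (fun e => hnc (by
          have := ((hab t0 ht0A a1 ha1).inv_left.mul_left e)
          simpa using this))
        hvtr
      have hxk : Commute (k⁻¹ * x * k) (t0 * u) := by
        have h1 : Commute x (t * (k * u * k⁻¹)) := by
          rw [hku, ← mul_assoc, htt, one_mul]; exact hcx.symm
        have h2 := (Commute.conj_iff k⁻¹).2 h1
        have e1 : k⁻¹ * (t * (k * u * k⁻¹)) * k⁻¹⁻¹ = t0 * u := by rw [ht0]; group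
        rw [e1] at h2
        simpa using h2
      have := N.mul_mem (N.mul_mem hkN (hvC _ hxk)) (N.inv_mem hkN)
      simpa [mul_assoc] using this
  have hva : u * a1 * u⁻¹ = a1 * t :=
    (htr a1 ha1).resolve_left fun h => hnc (mul_inv_eq_iff_eq_mul.1 h)
  have hall : ∀ g, g ∈ N := by
    intro g
    refine hH2 g ?_
    have e : g * t * g⁻¹ = (g * a1⁻¹) * u * (g * a1⁻¹)⁻¹ * (g * u * g⁻¹)⁻¹ := by
      calc g * t * g⁻¹ = g * a1⁻¹ * (a1 * t) * g⁻¹ := by group
        _ = g * a1⁻¹ * (u * a1 * u⁻¹) * g⁻¹ := by rw [hva]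
        _ = _ := by group
    rw [e]
    exact N.mul_mem (hconjN _) (N.inv_mem (hconjN _))
  exact ⟨fun a ha g => hNA g (hall g) a ha⟩

namespace Classes

open Cfsg.Agent.CosetCert

variable {D : Tables} {K : Classes} {t : G}

/-- A code inducing a transvection with centre `t` on the block. -/
noncomputable def checkTransvection (D : Tables) (A : List Nat) (u a b : Nat) : Bool :=
  Nat.blt u 21504 && (Nat.beq (D.mul u u) 0 && (!Nat.beq u 0 && (A.contains a && (A.contains b &&
    (!Nat.beq b 0 && (!Nat.beq b 1 && (Nat.beq (D.mul u b) (D.mul b u) &&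
      (!Nat.beq (D.mul u a) (D.mul a u) &&
        A.all fun c => Nat.beq (D.mul u c) (D.mul c u) || Nat.beq (D.mul u c) (D.mul (D.mul c 1) u)))))))))

/-- A single fused class forming a block with a transvection: the block is normal, with its elements. -/
theorem block_normal_mem (co : Coord D t) (hK : K.Valid D) (ht : orderOf t = 2) {k : Nat}
    (honly : ∀ j ∈ K.allowed, IsConj t (co.ψ (K.rep j)) → j = k) (hfus : IsConj t (co.ψ (K.rep k)))
    {A : List Nat} (hnd : A.Nodup) (hA : checkBlock K D k A = true) {u a b : Nat}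
    (hU : checkTransvection D A u a b = true) :
    ∃ B : Subgroup G, B.Normal ∧ Nat.card B = 16 ∧ t ∈ B ∧ (∀ g, g ∈ B ↔ ∃ a ∈ A, co.ψ a = g) ∧
      ∀ g, IsConj t g ↔ g ∈ B ∧ g ≠ 1 := by
  classical
  simp only [checkBlock, Bool.and_eq_true, List.all_eq_true, List.contains_iff_mem] at hA
  obtain ⟨hlen, h0, h1, hel, htab, hmul⟩ := hA
  have hlt : ∀ a ∈ A, a < 21504 := fun a ha => Nat.ble_eq.mp (hel a ha).1
  have hsub : ∀ a ∈ A, ∀ b ∈ A, D.mul a b ∈ A ∧ co.ψ a * co.ψ b = co.ψ (D.mul a b) ∧ Commute (co.ψ a) (co.ψ b) :=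
    fun a ha b hb => ⟨(hmul a ha b hb).1, (co.mul a b (hlt a ha) (hlt b hb)).symm, by
      show co.ψ a * co.ψ b = co.ψ b * co.ψ a
      rw [← co.mul a b (hlt a ha) (hlt b hb), ← co.mul b a (hlt b hb) (hlt a ha),
        Nat.eq_of_beq_eq_true (hmul a ha b hb).2]⟩
  let M : Submonoid G :=
    { carrier := {g | ∃ a ∈ A, co.ψ a = g}
      one_mem' := ⟨0, h0, co.zero⟩
      mul_mem' := by
        rintro _ _ ⟨a, ha, rfl⟩ ⟨b, hb, rfl⟩
        exact ⟨_, (hsub a ha b hb).1, (hsub a ha b hb).2.1.symm⟩ }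
  let B : Subgroup G :=
    { M with
      inv_mem' := fun {g} hg => by
        have hp : g ^ (orderOf g - 1) ∈ M := M.pow_mem hg _
        have he : g⁻¹ = g ^ (orderOf g - 1) := by
          refine inv_eq_of_mul_eq_one_right ?_
          rw [← pow_succ', Nat.sub_add_cancel (orderOf_pos g), pow_orderOf_eq_one]
        show g⁻¹ ∈ M
        rw [he]; exact hp }
  have hmem : ∀ g, g ∈ B ↔ ∃ a ∈ A, co.ψ a = g := fun g => Iff.rfl
  have hcard : Nat.card B = 16 := by
    have e : A.toFinset.card = 16 := by rw [List.toFinset_card_of_nodup hnd]; exact Nat.eq_of_beq_eq_true hlen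
    rw [← e, ← Nat.card_eq_finsetCard]
    symm
    refine Nat.card_eq_of_bijective (fun a : A.toFinset => (⟨co.ψ a.1, a.1, List.mem_toFinset.1 a.2, rfl⟩ : B)) ⟨?_, ?_⟩
    · rintro ⟨a, ha⟩ ⟨b, hb⟩ hab
      exact Subtype.ext (co.inj a b (hlt a (List.mem_toFinset.1 ha)) (hlt b (List.mem_toFinset.1 hb))
        (congrArg Subtype.val hab))
    · rintro ⟨g, a, ha, rfl⟩
      exact ⟨⟨a, List.mem_toFinset.2 ha⟩, rfl⟩
  have htB : t ∈ B := (hmem t).2 ⟨1, h1, co.one⟩
  suffices h : B.Normal ∧ (∀ g ∈ B, g ≠ 1 → IsConj t g) from ⟨B, h.1, hcard, htB, hmem, fun g =>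
    ⟨fun hg => ⟨by obtain ⟨x, rfl⟩ := isConj_iff.1 hg; exact h.1.conj_mem t htB x,
      Invol.ne_one (Invol.orderOf_eq_two_of_isConj hg ht)⟩, fun hg => h.2 g hg.1 hg.2⟩⟩
  have hBconj : ∀ g ∈ B, g ≠ 1 → IsConj t g := by
    rintro _ ⟨a, ha, rfl⟩ hne
    have h := (hel a ha).2
    simp only [Bool.or_eq_true, List.any_eq_true, Bool.and_eq_true] at h
    rcases h with h | h | ⟨⟨c, j, e⟩, hm, hc, hj⟩
    · exact absurd (by rw [Nat.eq_of_beq_eq_true h, co.zero]) hne
    · rw [Nat.eq_of_beq_eq_true h, co.one]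
    · obtain rfl := Nat.eq_of_beq_eq_true hc
      obtain rfl := Nat.eq_of_beq_eq_true hj
      have he := List.all_eq_true.1 hK.entries _ hm
      simp only [checkEntry, Bool.and_eq_true] at he
      obtain ⟨hc', he', hk', heq⟩ := he
      have hr := Tables.all_lt hK.count (Nat.ble_eq.mp hk')
      simp only [checkCount, Bool.and_eq_true] at hr
      refine hfus.trans (isConj_iff.2 ⟨co.ψ e, ?_⟩)
      rw [mul_inv_eq_iff_eq_mul, ← co.mul _ _ (Nat.ble_eq.mp he') (Nat.ble_eq.mp hr.1),
        ← co.mul _ _ (Nat.ble_eq.mp hc') (Nat.ble_eq.mp he'), Nat.eq_of_beq_eq_true heq]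
  refine ⟨?_, hBconj⟩
  simp only [checkTransvection, Bool.and_eq_true, Bool.not_eq_true', ← Bool.not_eq_true,
    List.all_eq_true, List.contains_iff_mem, Bool.or_eq_true] at hU
  obtain ⟨hu, hu2, hu0, haA, hbA, hb0, hb1, hub, hua, htr⟩ := hU
  have hu : u < 21504 := Nat.ble_eq.mp hu
  have hab := fun c (hc : c ∈ A) => (co.mul u c hu (hlt c hc)).symm
  have hba := fun c (hc : c ∈ A) => (co.mul c u (hlt c hc) hu).symm
  refine normal_of_transvection ht B htB
    (by rintro _ ⟨a, ha, rfl⟩ _ ⟨b, hb, rfl⟩; exact (hsub a ha b hb).2.2) hBconj ?_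
    (u := co.ψ u) (a1 := co.ψ a) (b := co.ψ b) ?_ (co.mem u hu) ⟨a, haA, rfl⟩ ?_ ⟨b, hbA, rfl⟩ ?_ ?_ ?_ ?_
  · intro s hs hst
    obtain ⟨c, hc, rfl⟩ := co.surj s hst
    by_cases hc1 : c = 1
    · exact ⟨1, h1, by rw [hc1]⟩
    obtain ⟨j, e, hm, hj, hjc⟩ := fused_class co hK ht hc hc1 hs
    have h := htab _ hm
    simp only [honly j hj hjc, Bool.or_eq_true, Bool.not_eq_true', ← Bool.not_eq_true] at h
    rcases h with h | h
    · exact absurd (Nat.beq_refl k) h
    · exact ⟨c, List.contains_iff_mem.1 h, rfl⟩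
  · refine Invol.orderOf_eq_two_iff.2 ⟨fun e => hu0 ?_, ?_⟩
    · rw [co.inj u 0 hu (by norm_num) (by rw [e, co.zero])]; rfl
    · rw [← co.mul u u hu hu, Nat.eq_of_beq_eq_true hu2, co.zero]
  · intro h
    refine hua ?_
    rw [co.inj (D.mul u a) (D.mul a u) (co.lt _ _ hu (hlt a haA)) (co.lt _ _ (hlt a haA) hu)
      (by rw [← hab a haA, ← hba a haA]; exact h.eq)]
    exact Nat.beq_refl _
  · intro e
    exact hb0 (by rw [co.inj b 0 (hlt b hbA) (by norm_num) (by rw [e, co.zero])]; rfl)
  · intro e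
    exact hb1 (by rw [co.inj b 1 (hlt b hbA) (by norm_num) (by rw [e, co.one])]; rfl)
  · show co.ψ u * co.ψ b = co.ψ b * co.ψ u
    rw [hab b hbA, hba b hbA, Nat.eq_of_beq_eq_true hub]
  · rintro _ ⟨c, hc, rfl⟩
    rcases htr c hc with h | h
    · left
      rw [mul_inv_eq_iff_eq_mul, hab c hc, hba c hc, Nat.eq_of_beq_eq_true h]
    · right
      have hc1 : D.mul c 1 < 21504 := co.lt _ _ (hlt c hc) (by norm_num)
      rw [mul_inv_eq_iff_eq_mul, hab c hc, Nat.eq_of_beq_eq_true h, co.mul _ _ hc1 hu,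
        co.mul c 1 (hlt c hc) (by norm_num), co.one]

/-- A single fused class forming a block with a transvection: the block is normal. -/
theorem block_normal_of (co : Coord D t) (hK : K.Valid D) (ht : orderOf t = 2) {k : Nat}
    (honly : ∀ j ∈ K.allowed, IsConj t (co.ψ (K.rep j)) → j = k) (hfus : IsConj t (co.ψ (K.rep k)))
    {A : List Nat} (hnd : A.Nodup) (hA : checkBlock K D k A = true) {u a b : Nat}
    (hU : checkTransvection D A u a b = true) :
    ∃ B : Subgroup G, B.Normal ∧ Nat.card B = 16 ∧ t ∈ B := by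
  obtain ⟨B, h1, h2, h3, -⟩ := block_normal_mem co hK ht honly hfus hnd hA hU
  exact ⟨B, h1, h2, h3⟩

end Classes

namespace M8a

open Cfsg.Agent.CosetCert

theorem transvection2 : Classes.checkTransvection D
    [0, 1, 14, 15, 48, 49, 62, 63, 80, 81, 94, 95, 96, 97, 110, 111] 2 48 14 = true := by decide +kernel

theorem transvection3 : Classes.checkTransvection D
    [0, 1, 16, 17, 40, 41, 56, 57, 68, 69, 84, 85, 108, 109, 124, 125] 2 16 40 = true := by decide +kernel

/-- When only one class is fused and it forms a block, the block is normal. -/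
theorem block_normal {t : G} (co : Coord D t) (ht : orderOf t = 2)
    (hC : Nat.card (Subgroup.centralizer ({t} : Set G)) = 21504) {r : Nat} (hr : FusedSet P K co r)
    (h12 : r = 1 ∨ r = 2) : ∃ A : Subgroup G, A.Normal ∧ Nat.card A = 16 ∧ t ∈ A := by
  have honly : ∀ j ∈ K.allowed, IsConj t (co.ψ (K.rep j)) → inF K.allowed r j = true := by
    intro j hj h
    have key : ∀ i ∈ K.allowed, i < K.reps.length := by decide
    exact (hr.iff j (key j hj)).2 h
  rcases h12 with rfl | rfl
  · refine Classes.block_normal_of co classes ht (k := 2) (fun j hj h => ?_)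
      ((hr.iff 2 (by decide)).1 (by decide)) (by decide) block2 transvection2
    have key : ∀ i ∈ K.allowed, inF K.allowed 1 i = true → i = 2 := by decide
    exact key j hj (honly j hj h)
  · refine Classes.block_normal_of co classes ht (k := 3) (fun j hj h => ?_)
      ((hr.iff 3 (by decide)).1 (by decide)) (by decide) block3 transvection3
    have key : ∀ i ∈ K.allowed, inF K.allowed 2 i = true → i = 3 := by decide
    exact key j hj (honly j hj h)

end M8a

end Cfsg.Agent.HeRecog
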