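import Cfsg.Agent.HeRecog.QGroup
import Cfsg.Agent.Compute.Perm
import Cfsg.Agent.CosetCert.Basic

/-!
Extensions of the extraspecial group by a group given on 168 points with labelled edges:
the labels are forced by the relators, and give the multiplication of the extension.
-/

set_option autoImplicit false
set_option linter.all false

namespace Cfsg.Agent.HeRecog

open Cfsg.Agent.Compute Cfsg.Agent.CosetCert

/-- The data of a labelled table. -/
structure Tables where
  act : Nat → Nat
  T : Nat → Nat
  Ti : Nat → Nat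
  lab : Nat → Nat
  rank : Nat → Nat
  par : Nat → Nat
  aj : Nat → Nat
  pr : Nat → Nat
  ph : Nat → Nat
  facts : List (Nat × Nat × Nat)
  rels : List (List Nat × Nat)

namespace Tables

variable (D : Tables)

/-- The edge and the far end of a step along a letter below four. -/
def edge (j l : Nat) : Nat := if l < 2 then 2 * j + l else 2 * D.Ti (2 * j + (l - 2)) + (l - 2)

def next (j l : Nat) : Nat := if l < 2 then D.T (2 * j + l) else D.Ti (2 * j + (l - 2))

/-- The label read along a letter. -/
def stepLab (j l : Nat) : Nat := if l < 2 then D.lab (D.edge j l) else qinv (D.lab (D.edge j l))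

def endp : Nat → List Nat → Nat
  | j, [] => j
  | j, l :: w => endp (D.next j l) w

def edges : Nat → List Nat → List Nat
  | _, [] => []
  | j, l :: w => D.edge j l :: edges (D.next j l) w

def prodL : Nat → List Nat → Nat
  | _, [] => 0
  | j, l :: w => qmul (D.stepLab j l) (prodL (D.next j l) w)

/-- The conjugate of a code by a representative. -/
def ajV (j v : Nat) : Nat := getField 8 (D.aj j) v

/-- The automorphism of a generator. -/
def actV (g v : Nat) : Nat := getField 8 (D.act g) v

/-- The multiplication. -/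
def mul (c d : Nat) : Nat :=
  128 * getField 8 (D.pr (c / 128)) (d / 128) +
    qmul (qmul (c % 128) (D.ajV (c / 128) (d % 128))) (getField 8 (D.ph (c / 128)) (d / 128))

/-- A fact forces the label of its edge. -/
noncomputable def checkFact (k : Nat) : Bool :=
  let f := D.facts.getD k (0, 0, 0)
  let r := D.rels.getD f.2.1 ([], 0)
  let es := D.edges f.2.2 r.1
  Nat.blt f.2.2 168 && (Nat.blt f.2.1 D.rels.length && (r.1.all (fun l => Nat.blt l 4) &&
    (Nat.beq (D.endp f.2.2 r.1) f.2.2 && (Nat.beq (es.count f.1) 1 && (Nat.beq (D.rank f.1) (k + 1) &&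
      (es.all (fun e => Nat.beq e f.1 || Nat.blt (D.rank e) (k + 1)) &&
        Nat.beq (D.prodL f.2.2 r.1) (D.ajV f.2.2 r.2)))))))

/-- Edges are inside, reversed, and are tree edges or forced. -/
noncomputable def checkEdge (e : Nat) : Bool :=
  Nat.blt (D.T e) 168 && (Nat.blt (D.Ti e) 168 && (Nat.blt (D.lab e) 128 &&
    (Nat.beq (D.T (2 * D.Ti e + e % 2)) (e / 2) && (Nat.beq (D.Ti (2 * D.T e + e % 2)) (e / 2) &&
      (if D.rank e = 0 then Nat.beq (D.par (D.T e)) e && Nat.beq (D.lab e) 0 && !Nat.beq (D.T e) 0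
        else Nat.blt (D.rank e - 1) D.facts.length &&
          Nat.beq (D.facts.getD (D.rank e - 1) (0, 0, 0)).1 e)))))

/-- A representative other than the first comes from an earlier one by a tree edge. -/
noncomputable def checkPar (j : Nat) : Bool :=
  Nat.beq j 0 || (Nat.blt (D.par j / 2) j && (Nat.beq (D.T (D.par j)) j && Nat.beq (D.rank (D.par j)) 0))

/-- The conjugation along a tree edge. -/
noncomputable def checkAj (j : Nat) : Bool :=
  if j = 0 then allFrom (fun v => Nat.beq (D.ajV 0 v) v) 0 128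
  else allFrom (fun v => Nat.beq (D.ajV j v) (D.ajV (D.par j / 2) (D.actV (D.par j % 2) v))) 0 128

/-- The automorphisms respect the product. -/
noncomputable def checkAct (g : Nat) : Bool :=
  Nat.beq (D.actV g 1) 1 && (allFrom (fun a => Nat.blt (D.actV g a) 128 && allFrom (fun b =>
    Nat.beq (D.actV g (qmul a b)) (qmul (D.actV g a) (D.actV g b))) 0 128) 0 128)

/-- A row of the product of representatives. -/
noncomputable def checkRow (j : Nat) : Bool :=
  Nat.beq (getField 8 (D.pr j) 0) j && (Nat.beq (getField 8 (D.ph j) 0) 0 && allFrom (fun i =>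
    Nat.beq i 0 || (Nat.beq (getField 8 (D.pr j) i) (D.T (2 * getField 8 (D.pr j) (D.par i / 2) + D.par i % 2)) &&
      Nat.beq (getField 8 (D.ph j) i)
        (qmul (getField 8 (D.ph j) (D.par i / 2)) (D.lab (2 * getField 8 (D.pr j) (D.par i / 2) + D.par i % 2))))) 0 168)

/-- The checked data. -/
structure Valid : Prop where
  fact : allFrom D.checkFact 0 D.facts.length = true
  edge : allFrom D.checkEdge 0 336 = true
  par : allFrom D.checkPar 0 168 = true
  aj : allFrom D.checkAj 0 168 = true
  act : allFrom D.checkAct 0 2 = true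
  row : allFrom D.checkRow 0 168 = true
  rels_lt : (D.rels.all fun r => Nat.blt r.2 128) = true

variable {G : Type*} [Group G]

/-- The value of a letter. -/
def lt (x y : G) (l : Nat) : G := if l = 0 then x else if l = 1 then y else if l = 2 then x⁻¹ else y⁻¹

/-- The value of a word. -/
def lprod (x y : G) (w : List Nat) : G := (w.map (lt x y)).prod

/-- The hypotheses on the elements. -/
structure Rep (e : Nat → G) (z x y : G) : Prop where
  q : QGens e z
  xz : x * z = z * x
  yz : y * z = z * y
  xact : ∀ i, i < 6 → x * e i * x⁻¹ = qel e z (D.actV 0 (2 * 2 ^ i))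
  yact : ∀ i, i < 6 → y * e i * y⁻¹ = qel e z (D.actV 1 (2 * 2 ^ i))
  rel : ∀ r ∈ D.rels, lprod x y r.1 = qel e z r.2

variable {D}

theorem all_lt {f : Nat → Bool} {n : Nat} (h : allFrom f 0 n = true) {i : Nat} (hi : i < n) :
    f i = true := (allFrom_iff f 0 n).1 h i (Nat.zero_le _) (by omega)

/-- The word of a representative, from the parent table. -/
def repW (D : Tables) : Nat → Nat → List Nat
  | 0, _ => []
  | k + 1, j => if j = 0 then [] else repW D k (D.par j / 2) ++ [D.par j % 2]

/-- The representative. -/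
def rep (D : Tables) (x y : G) (j : Nat) : G := lprod x y (repW D j j)

variable {e : Nat → G} {z x y : G}

theorem repW_stable (hV : D.Valid) : ∀ k j, j ≤ k → j < 168 → repW D k j = repW D j j := by
  intro k
  induction k using Nat.strong_induction_on with
  | _ k ih =>
    intro j hjk hj
    match k with
    | 0 => rw [Nat.le_zero.1 hjk]
    | k + 1 =>
      by_cases h0 : j = 0
      · subst h0; simp [repW]
      have hp := all_lt hV.par hj
      simp only [checkPar, Bool.or_eq_true, Bool.and_eq_true] at hp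
      rcases hp with hp | ⟨hp, -, -⟩
      · exact absurd (Nat.eq_of_beq_eq_true hp) h0
      have hp := Nat.ble_eq.mp hp
      match j, h0 with
      | i + 1, _ =>
        show (if i + 1 = 0 then [] else repW D k (D.par (i + 1) / 2) ++ [D.par (i + 1) % 2]) =
          if i + 1 = 0 then [] else repW D i (D.par (i + 1) / 2) ++ [D.par (i + 1) % 2]
        rw [if_neg (by omega), if_neg (by omega), ih k (by omega) _ (by omega) (by omega),
          ih i (by omega) _ (by omega) (by omega)]

theorem rep_zero : rep D x y 0 = 1 := by simp [rep, repW, lprod]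

theorem rep_par (hV : D.Valid) {j : Nat} (hj : j < 168) (h0 : j ≠ 0) :
    rep D x y j = rep D x y (D.par j / 2) * lt x y (D.par j % 2) := by
  have hp := all_lt hV.par hj
  simp only [checkPar, Bool.or_eq_true, Bool.and_eq_true] at hp
  rcases hp with hp | ⟨hp, -, -⟩
  · exact absurd (Nat.eq_of_beq_eq_true hp) h0
  have hp := Nat.ble_eq.mp hp
  match j, h0 with
  | i + 1, _ =>
    have hs := repW_stable hV i (D.par (i + 1) / 2) (by omega) (by omega)
    simp only [rep, repW, if_neg (Nat.succ_ne_zero i), hs, lprod, List.map_append, List.prod_append]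
    simp

/-- The element of an edge. -/
def ed (D : Tables) (x y : G) (e : Nat) : G :=
  rep D x y (e / 2) * lt x y (e % 2) * (rep D x y (D.T e))⁻¹

/-- The product of the edges of a walk. -/
def prodE (D : Tables) (f : Nat → G) : Nat → List Nat → G
  | _, [] => 1
  | j, l :: w => (if l < 2 then f (D.edge j l) else (f (D.edge j l))⁻¹) * prodE D f (D.next j l) w

theorem edge_facts (hV : D.Valid) {e : Nat} (he : e < 336) :
    D.T e < 168 ∧ D.Ti e < 168 ∧ D.lab e < 128 ∧ D.T (2 * D.Ti e + e % 2) = e / 2 := by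
  have h := all_lt hV.edge he
  simp only [checkEdge, Bool.and_eq_true] at h
  exact ⟨Nat.ble_eq.mp h.1, Nat.ble_eq.mp h.2.1, Nat.ble_eq.mp h.2.2.1, Nat.eq_of_beq_eq_true h.2.2.2.1⟩

theorem step (hV : D.Valid) {j l : Nat} (hj : j < 168) (hl : l < 4) :
    D.edge j l < 336 ∧ D.next j l < 168 ∧ rep D x y j * lt x y l =
      (if l < 2 then ed D x y (D.edge j l) else (ed D x y (D.edge j l))⁻¹) * rep D x y (D.next j l) := by
  by_cases h2 : l < 2
  · simp only [edge, next, if_pos h2]
    obtain ⟨h1, -⟩ := edge_facts hV (show 2 * j + l < 336 by omega)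
    refine ⟨by omega, h1, ?_⟩
    simp [ed, show (2 * j + l) / 2 = j by omega, show (2 * j + l) % 2 = l by omega]
  · simp only [edge, next, if_neg h2]
    obtain ⟨-, h1, -, h3⟩ := edge_facts hV (show 2 * j + (l - 2) < 336 by omega)
    refine ⟨by omega, h1, ?_⟩
    rw [show (2 * j + (l - 2)) / 2 = j by omega, show (2 * j + (l - 2)) % 2 = l - 2 by omega] at h3
    simp only [ed, h3, show (2 * D.Ti (2 * j + (l - 2)) + (l - 2)) / 2 = D.Ti (2 * j + (l - 2)) by omega,
      show (2 * D.Ti (2 * j + (l - 2)) + (l - 2)) % 2 = l - 2 by omega]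
    have hli : lt x y l = (lt x y (l - 2))⁻¹ := by
      interval_cases l <;> simp [lt]
    rw [hli]; group

theorem walk (hV : D.Valid) : ∀ {w : List Nat} {j : Nat}, (∀ l ∈ w, l < 4) → j < 168 →
    D.endp j w < 168 ∧ (∀ a ∈ D.edges j w, a < 336) ∧
      rep D x y j * lprod x y w = prodE D (ed D x y) j w * rep D x y (D.endp j w) := by
  intro w
  induction w with
  | nil => intro j _ hj; simp [endp, prodE, lprod, edges, hj]
  | cons l w ih =>
    intro j hw hj
    obtain ⟨he, hn, hs⟩ := step (x := x) (y := y) hV hj (hw l (List.mem_cons_self ..))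
    obtain ⟨h1, h2, h3⟩ := ih (fun a ha => hw a (List.mem_cons_of_mem _ ha)) hn
    refine ⟨h1, ?_, ?_⟩
    · intro a ha
      rcases List.mem_cons.1 ha with rfl | ha
      · exact he
      · exact h2 a ha
    · show rep D x y j * lprod x y (l :: w) = _ * prodE D (ed D x y) (D.next j l) w * rep D x y _
      rw [lprod, List.map_cons, List.prod_cons, ← mul_assoc, hs, mul_assoc,
        show rep D x y (D.next j l) * (List.map (lt x y) w).prod = _ from h3, mul_assoc]
      rfl

theorem prodE_congr {f g : Nat → G} : ∀ {w : List Nat} {j : Nat},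
    (∀ a ∈ D.edges j w, f a = g a) → prodE D f j w = prodE D g j w := by
  intro w
  induction w with
  | nil => intros; rfl
  | cons l w ih =>
    intro j h
    simp only [prodE]
    rw [h _ (List.mem_cons_self ..), ih fun a ha => h a (List.mem_cons_of_mem _ ha)]

theorem prodE_cancel {f g : Nat → G} {e₀ : Nat} : ∀ {w : List Nat} {j : Nat},
    (D.edges j w).count e₀ = 1 → (∀ a ∈ D.edges j w, a ≠ e₀ → f a = g a) →
    prodE D f j w = prodE D g j w → f e₀ = g e₀ := by
  intro w
  induction w with
  | nil => intro j h; simp [edges] at h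
  | cons l w ih =>
    intro j hc hne heq
    simp only [edges, List.count_cons] at hc
    simp only [prodE] at heq
    by_cases he : D.edge j l = e₀
    · simp only [he, beq_self_eq_true, if_true] at hc
      have hrest : prodE D f (D.next j l) w = prodE D g (D.next j l) w :=
        prodE_congr fun a ha => hne a (List.mem_cons_of_mem _ ha) fun e' => by
          have := List.count_pos_iff.2 (e' ▸ ha : e₀ ∈ D.edges (D.next j l) w)
          omega
      rw [hrest, mul_left_inj, he] at heq
      split at heq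
      · exact heq
      · exact inv_injective heq
    · simp only [beq_iff_eq, if_neg he, Nat.add_zero] at hc
      rw [hne _ (List.mem_cons_self ..) he, mul_right_inj] at heq
      exact ih hc (fun a ha => hne a (List.mem_cons_of_mem _ ha)) heq

theorem qel_gens (hq : QGens e z) {P : Nat → Prop} (h0 : P 0) (h1 : P 1)
    (hg : ∀ i, i < 6 → P (2 * 2 ^ i))
    (hm : ∀ a b, a < 128 → b < 128 → P a → P b → P (qmul a b)) : ∀ a, a < 128 → P a := by
  intro a ha
  have hb : ∀ (i : Nat) (c : Bool), i < 6 → P (if c then 2 * 2 ^ i else 0) ∧ (if c then 2 * 2 ^ i else 0) < 128 :=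
    fun i c hi => by
      cases c
      · exact ⟨h0, by norm_num⟩
      · exact ⟨hg i hi, by interval_cases i <;> norm_num⟩
  have hlt : ∀ p q, qmul p q < 2 * (64) ∨ ¬(p < 128 ∧ q < 128) := fun p q => by
    by_cases h : p < 128 ∧ q < 128
    · left
      have : (p / 2) ^^^ (q / 2) < 2 ^ 6 := Nat.xor_lt_two_pow (by omega) (by omega)
      unfold qmul; omega
    · exact Or.inr h
  have M : ∀ p q, P p ∧ p < 128 → P q ∧ q < 128 → P (qmul p q) ∧ qmul p q < 128 := fun p q hp hq => by
    refine ⟨hm p q hp.2 hq.2 hp.1 hq.1, ?_⟩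
    rcases hlt p q with h | h
    · exact h
    · exact absurd ⟨hp.2, hq.2⟩ h
  have dec : ∀ a : Fin 128, (a : Nat) = qmul (qmul (qmul (qmul (qmul (qmul
      (if (a : Nat).testBit 4 then 2 * 2 ^ 3 else 0) (if (a : Nat).testBit 5 then 2 * 2 ^ 4 else 0))
      (if (a : Nat).testBit 6 then 2 * 2 ^ 5 else 0)) (if (a : Nat).testBit 1 then 2 * 2 ^ 0 else 0))
      (if (a : Nat).testBit 2 then 2 * 2 ^ 1 else 0)) (if (a : Nat).testBit 3 then 2 * 2 ^ 2 else 0))
      (if (a : Nat).testBit 0 then 1 else 0) := by decide +kernel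
  rw [show a = _ from dec ⟨a, ha⟩]
  refine (M _ _ (M _ _ (M _ _ (M _ _ (M _ _ (M _ _ (hb 3 _ (by omega)) (hb 4 _ (by omega)))
    (hb 5 _ (by omega))) (hb 0 _ (by omega))) (hb 1 _ (by omega))) (hb 2 _ (by omega))) ?_).1
  split
  · exact ⟨h1, by norm_num⟩
  · exact ⟨h0, by norm_num⟩

theorem act_spec (hV : D.Valid) (h : D.Rep e z x y) {g : Nat} (hg : g < 2) {a : Nat} (ha : a < 128) :
    D.actV g a < 128 ∧ lt x y g * qel e z a * (lt x y g)⁻¹ = qel e z (D.actV g a) := by
  have hc := all_lt hV.act hg
  simp only [checkAct, Bool.and_eq_true] at hc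
  obtain ⟨h1, hall⟩ := hc
  have hlt : ∀ a, a < 128 → D.actV g a < 128 := fun a ha => by
    have := all_lt hall ha
    simp only [Bool.and_eq_true] at this
    exact Nat.ble_eq.mp this.1
  have hm : ∀ a b, a < 128 → b < 128 → D.actV g (qmul a b) = qmul (D.actV g a) (D.actV g b) :=
    fun a b ha hb => by
      have := all_lt hall ha
      simp only [Bool.and_eq_true] at this
      exact Nat.eq_of_beq_eq_true (all_lt this.2 hb)
  refine ⟨hlt a ha, ?_⟩
  have h10 : D.actV g 1 = 1 := Nat.eq_of_beq_eq_true h1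
  have h00 : D.actV g 0 = 0 := by
    have := hm 1 1 (by norm_num) (by norm_num)
    rwa [show qmul 1 1 = 0 from rfl, h10] at this
  refine qel_gens (P := fun a => lt x y g * qel e z a * (lt x y g)⁻¹ = qel e z (D.actV g a)) h.q
    ?_ ?_ ?_ ?_ a ha
  · simp [h00, QGens.qel_zero]
  · rw [h10, QGens.qel_one]
    interval_cases g
    · show x * z * x⁻¹ = z; rw [h.xz, mul_inv_cancel_right]
    · show y * z * y⁻¹ = z; rw [h.yz, mul_inv_cancel_right]
  · intro i hi
    have hq : qel e z (2 * 2 ^ i) = e i := by interval_cases i <;> simp [qel, part]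
    rw [hq]
    interval_cases g
    · exact h.xact i hi
    · exact h.yact i hi
  · intro a b ha hb pa pb
    rw [hm a b ha hb, ← h.q.qel_mul (hlt a ha) (hlt b hb), ← h.q.qel_mul ha hb, ← pa, ← pb]
    group

theorem aj_spec (hV : D.Valid) (h : D.Rep e z x y) : ∀ {j : Nat}, j < 168 → ∀ {v : Nat}, v < 128 →
    D.ajV j v < 128 ∧ rep D x y j * qel e z v * (rep D x y j)⁻¹ = qel e z (D.ajV j v) := by
  intro j
  induction j using Nat.strong_induction_on with
  | _ j ih =>
    intro hj v hv
    have hc := all_lt hV.aj hj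
    simp only [checkAj] at hc
    by_cases h0 : j = 0
    · rw [if_pos h0] at hc
      have := Nat.eq_of_beq_eq_true (all_lt hc hv)
      subst h0
      simp [this, rep_zero, hv]
    rw [if_neg h0] at hc
    have e1 := Nat.eq_of_beq_eq_true (all_lt hc hv)
    have hp := all_lt hV.par hj
    simp only [checkPar, Bool.or_eq_true, Bool.and_eq_true] at hp
    rcases hp with hp | ⟨hp, -, -⟩
    · exact absurd (Nat.eq_of_beq_eq_true hp) h0
    have hp := Nat.ble_eq.mp hp
    obtain ⟨a1, a2⟩ := act_spec hV h (Nat.mod_lt (D.par j) two_pos) hv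
    obtain ⟨b1, b2⟩ := ih _ hp (by omega) a1
    refine ⟨e1 ▸ b1, ?_⟩
    rw [e1, ← b2, ← a2, rep_par hV hj h0]
    group

theorem stepLab_spec (hV : D.Valid) (h : D.Rep e z x y) {j l : Nat} (hj : j < 168) (hl : l < 4) :
    D.stepLab j l < 128 ∧ (if l < 2 then qel e z (D.lab (D.edge j l))
      else (qel e z (D.lab (D.edge j l)))⁻¹) = qel e z (D.stepLab j l) := by
  obtain ⟨he, -, -⟩ := step (x := x) (y := y) hV hj hl
  obtain ⟨-, -, hlab, -⟩ := edge_facts hV he
  unfold stepLab
  split
  · exact ⟨hlab, rfl⟩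
  · exact ⟨(h.q.qel_qinv hlab).1, (h.q.qel_qinv hlab).2.symm⟩

theorem qmul_lt {a b : Nat} (ha : a < 128) (hb : b < 128) : qmul a b < 128 := by
  have : (a / 2) ^^^ (b / 2) < 2 ^ 6 := Nat.xor_lt_two_pow (by omega) (by omega)
  unfold qmul; omega

theorem prodL_spec (hV : D.Valid) (h : D.Rep e z x y) : ∀ {w : List Nat} {j : Nat},
    (∀ l ∈ w, l < 4) → j < 168 → D.prodL j w < 128 ∧
      prodE D (fun a => qel e z (D.lab a)) j w = qel e z (D.prodL j w) := by
  intro w
  induction w with
  | nil => intro j _ _; simp [prodL, prodE, QGens.qel_zero]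
  | cons l w ih =>
    intro j hw hj
    obtain ⟨-, hn, -⟩ := step (x := x) (y := y) hV hj (hw l (List.mem_cons_self ..))
    obtain ⟨s1, s2⟩ := stepLab_spec hV h hj (hw l (List.mem_cons_self ..))
    obtain ⟨i1, i2⟩ := ih (fun a ha => hw a (List.mem_cons_of_mem _ ha)) hn
    refine ⟨qmul_lt s1 i1, ?_⟩
    simp only [prodE, prodL]
    rw [s2, i2, h.q.qel_mul s1 i1]

/-- A relator read round a point. -/
theorem cycle (hV : D.Valid) (h : D.Rep e z x y) {w : List Nat} {v : Nat} (hr : (w, v) ∈ D.rels)
    (hw : ∀ l ∈ w, l < 4) {j : Nat} (hj : j < 168) (hend : D.endp j w = j) :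
    D.ajV j v < 128 ∧ prodE D (ed D x y) j w = qel e z (D.ajV j v) := by
  obtain ⟨-, -, hwk⟩ := walk (x := x) (y := y) hV hw hj
  rw [hend, h.rel _ hr] at hwk
  have hv : v < 128 := Nat.ble_eq.mp (List.all_eq_true.1 hV.rels_lt _ hr)
  obtain ⟨h1, h2⟩ := aj_spec hV h hj hv
  refine ⟨h1, ?_⟩
  rw [← h2, hwk, mul_inv_cancel_right]

/-- The labels are the edges. -/
theorem ed_eq (hV : D.Valid) (h : D.Rep e z x y) : ∀ (k a : Nat), a < 336 → D.rank a = k →
    ed D x y a = qel e z (D.lab a) := by
  intro k
  induction k using Nat.strong_induction_on with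
  | _ k ih =>
    intro a ha hk
    have hc := all_lt hV.edge ha
    simp only [checkEdge, Bool.and_eq_true] at hc
    obtain ⟨hT, -, -, -, -, hr⟩ := hc
    have hT := Nat.ble_eq.mp hT
    by_cases hk0 : D.rank a = 0
    · simp only [if_pos hk0, Bool.and_eq_true, Bool.not_eq_true', ← Bool.not_eq_true] at hr
      obtain ⟨⟨hp, hl⟩, hne⟩ := hr
      have hne' : D.T a ≠ 0 := fun e' => hne (by rw [e']; rfl)
      rw [Nat.eq_of_beq_eq_true hl, QGens.qel_zero, ed, rep_par hV hT hne', Nat.eq_of_beq_eq_true hp,
        mul_inv_cancel]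
    · simp only [if_neg hk0, Bool.and_eq_true] at hr
      obtain ⟨hlt, hfe⟩ := hr
      have hlt := Nat.ble_eq.mp hlt
      have hf := all_lt hV.fact hlt
      simp only [checkFact, Bool.and_eq_true, List.all_eq_true, Bool.or_eq_true] at hf
      obtain ⟨hs, hri, hlet, hend, hcnt, -, hoth, hval⟩ := hf
      have hfe := Nat.eq_of_beq_eq_true hfe
      generalize D.facts.getD (D.rank a - 1) (0, 0, 0) = f at hs hri hlet hend hcnt hoth hval hfe
      obtain ⟨f1, ri, s⟩ := f
      simp only at hs hri hlet hend hcnt hoth hval hfe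
      subst hfe
      have hri := Nat.ble_eq.mp hri
      rw [List.getD_eq_getElem _ _ hri] at hlet hend hcnt hoth hval
      have hmem : D.rels[ri] ∈ D.rels := List.getElem_mem hri
      generalize D.rels[ri] = r at hlet hend hcnt hoth hval hmem
      obtain ⟨w, v⟩ := r
      have hw : ∀ l ∈ w, l < 4 := fun l hl => Nat.ble_eq.mp (hlet l hl)
      have hs := Nat.ble_eq.mp hs
      obtain ⟨-, hedge, -⟩ := walk (x := x) (y := y) hV hw hs
      obtain ⟨-, hcyc⟩ := cycle hV h hmem hw hs (Nat.eq_of_beq_eq_true hend)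
      obtain ⟨-, hlab⟩ := prodL_spec hV h hw hs
      rw [Nat.eq_of_beq_eq_true hval, ← hcyc] at hlab
      refine prodE_cancel (Nat.eq_of_beq_eq_true hcnt) (fun b hb hne => ?_) hlab.symm
      rcases hoth b hb with h' | h'
      · exact absurd (Nat.eq_of_beq_eq_true h') hne
      · exact ih (D.rank b) (by have := Nat.ble_eq.mp h'; omega) b (hedge b hb) rfl

/-- The element of a code of the extension. -/
def psi (D : Tables) (e : Nat → G) (z x y : G) (c : Nat) : G :=
  qel e z (c % 128) * rep D x y (c / 128)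

theorem row_spec (hV : D.Valid) (h : D.Rep e z x y) {j : Nat} (hj : j < 168) : ∀ {i : Nat}, i < 168 →
    getField 8 (D.pr j) i < 168 ∧ getField 8 (D.ph j) i < 128 ∧
      rep D x y j * rep D x y i = qel e z (getField 8 (D.ph j) i) * rep D x y (getField 8 (D.pr j) i) := by
  intro i
  induction i using Nat.strong_induction_on with
  | _ i ih =>
    intro hi
    have hc := all_lt hV.row hj
    simp only [checkRow, Bool.and_eq_true] at hc
    obtain ⟨h0, h0', hall⟩ := hc
    by_cases hi0 : i = 0
    · subst hi0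
      rw [Nat.eq_of_beq_eq_true h0, Nat.eq_of_beq_eq_true h0']
      simp [hj, rep_zero, QGens.qel_zero]
    have hrow := all_lt hall hi
    simp only [Bool.or_eq_true, Bool.and_eq_true] at hrow
    rcases hrow with h' | ⟨e1, e2⟩
    · exact absurd (Nat.eq_of_beq_eq_true h') hi0
    have hp := all_lt hV.par hi
    simp only [checkPar, Bool.or_eq_true, Bool.and_eq_true] at hp
    rcases hp with hp | ⟨hp, -, -⟩
    · exact absurd (Nat.eq_of_beq_eq_true hp) hi0
    have hp := Nat.ble_eq.mp hp
    obtain ⟨a1, a2, a3⟩ := ih _ hp (by omega)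
    rw [Nat.eq_of_beq_eq_true e1, Nat.eq_of_beq_eq_true e2]
    set j' := getField 8 (D.pr j) (D.par i / 2)
    obtain ⟨he, hn, hs⟩ := step (x := x) (y := y) hV a1 (show D.par i % 2 < 4 by omega)
    have h2 : D.par i % 2 < 2 := Nat.mod_lt _ two_pos
    simp only [edge, next, if_pos h2] at he hn hs
    obtain ⟨-, -, hlab, -⟩ := edge_facts hV he
    refine ⟨hn, qmul_lt a2 hlab, ?_⟩
    rw [rep_par hV hi hi0, ← mul_assoc, a3, mul_assoc, hs, ed_eq hV h _ _ he rfl, ← mul_assoc,
      h.q.qel_mul a2 hlab]

theorem mul_spec (hV : D.Valid) (h : D.Rep e z x y) {c d : Nat} (hc : c < 21504) (hd : d < 21504) :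
    D.mul c d < 21504 ∧ psi D e z x y (D.mul c d) = psi D e z x y c * psi D e z x y d := by
  have hj : c / 128 < 168 := by omega
  have hi : d / 128 < 168 := by omega
  obtain ⟨r1, r2, r3⟩ := row_spec hV h hj hi
  obtain ⟨a1, a2⟩ := aj_spec hV h hj (show d % 128 < 128 by omega)
  have hq1 := qmul_lt (show c % 128 < 128 by omega) a1
  have hq := qmul_lt hq1 r2
  have hdiv : D.mul c d / 128 = getField 8 (D.pr (c / 128)) (d / 128) := by
    unfold mul; omega
  have hmod : D.mul c d % 128 =
      qmul (qmul (c % 128) (D.ajV (c / 128) (d % 128))) (getField 8 (D.ph (c / 128)) (d / 128)) := by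
    unfold mul; omega
  refine ⟨by unfold mul; omega, ?_⟩
  unfold psi
  rw [hdiv, hmod, ← h.q.qel_mul hq1 r2, ← h.q.qel_mul (by omega) a1, ← a2, mul_assoc _ (qel e z (getField 8 _ _)),
    ← r3]
  group

/-- A relator whose labels do not fit is impossible. -/
theorem contradiction (hV : D.Valid) (h : D.Rep e z x y) {w : List Nat} {v j : Nat}
    (hr : (w, v) ∈ D.rels) (hw : ∀ l ∈ w, l < 4) (hj : j < 168) (hend : D.endp j w = j) :
    qel e z (D.prodL j w) = qel e z (D.ajV j v) := by
  obtain ⟨-, hedge, -⟩ := walk (x := x) (y := y) hV hw hj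
  rw [← (cycle hV h hr hw hj hend).2, ← (prodL_spec hV h hw hj).2]
  exact prodE_congr fun a ha => (ed_eq hV h _ a (hedge a ha) rfl).symm

end Tables

end Cfsg.Agent.HeRecog
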