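import Cfsg.Agent.HeRecog.ConfigsGen
import Cfsg.Agent.HeRecog.BlockIso

/-! Groups with the centraliser of a transvection of `SL(5, 2)`, by isomorphism. -/

set_option autoImplicit false
set_option linter.all false
set_option maxRecDepth 100000

namespace Cfsg.Agent.HeRecog.M8a

open Cfsg.Agent.CosetCert

/-- Held's theorem without simplicity. -/
theorem tetrachotomy {G : Type*} [Group G] [Finite G]
    (s : Matrix.SpecialLinearGroup (Fin 5) (ZMod 2))
    (hs : (s : Matrix (Fin 5) (Fin 5) (ZMod 2)) = Matrix.transvection 0 1 1) (j : G) (hj : orderOf j = 2)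
    (e : Subgroup.centralizer ({j} : Set G) ≃*
      Subgroup.centralizer ({s} : Set (Matrix.SpecialLinearGroup (Fin 5) (ZMod 2))))
    (hw : ∃ g : G, Commute (g * j * g⁻¹) j ∧ g * j * g⁻¹ ≠ j) :
    (∃ v : Fin 5 → ZMod 2, v ≠ 0 ∧
      Nonempty (G ≃* MulAction.stabilizer (Matrix.SpecialLinearGroup (Fin 5) (ZMod 2)) v)) ∨
    Nonempty (G ≃* Matrix.SpecialLinearGroup (Fin 5) (ZMod 2)) ∨ Nonempty (G ≃* ↥Cfsg.M24) ∨
      Cfsg.Spor.IsoHe G := by
  obtain ⟨hsl, hsimp, hcard⟩ := Ref.sl5_facts s hs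
  obtain ⟨hMsimp, hMcard, hMz⟩ := Ref.m24_facts
  obtain ⟨z, hz, ⟨ez⟩⟩ := hMz s hs
  obtain ⟨hC, ⟨co⟩⟩ := Ref.coord_of_iso s hs j hj e
  obtain ⟨hCM, ⟨coM⟩⟩ := Ref.coord_of_iso s hs z hz ez
  obtain ⟨hCL, ⟨coL⟩⟩ := Ref.coord_of_iso s hs s hsl (MulEquiv.refl _)
  obtain ⟨v, hv, w, hwo, ⟨ew⟩, hvcard, hvw⟩ := stab_block s hs
  obtain ⟨hCS, ⟨coS⟩⟩ := Ref.coord_of_iso s hs w hwo ew
  have hM : IsBS z := by
    rcases configs coM hz hCM with h | h | h
    · have := card_SS_le h; omega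
    · exact h
    · have := isoHe_card (isoHe_of_BB hCM h); omega
  have hL : IsSS s := by
    rcases configs coL hsl hCL with h | h | h
    · exact h
    · obtain ⟨e'⟩ := iso_BS h hM hMcard
      have := Nat.card_congr e'.toEquiv; omega
    · have := isoHe_card (isoHe_of_BB hCL h); omega
  have hSblock : IsBlock w := by
    have : Nontrivial (MulAction.stabilizer (Matrix.SpecialLinearGroup (Fin 5) (ZMod 2)) v) :=
      ⟨w, 1, fun h => by rw [h, orderOf_one] at hwo; omega⟩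
    rcases configs_gen coS hwo hCS hvw with h | h | h | h
    · exact h
    · obtain ⟨e'⟩ := iso_SS h hL hcard
      have := Nat.card_congr e'.toEquiv; omega
    · obtain ⟨e'⟩ := iso_BS h hM hMcard
      have := Nat.card_congr e'.toEquiv; omega
    · have := isoHe_card h; omega
  have : Nontrivial G := ⟨j, 1, fun h => by rw [h, orderOf_one] at hj; omega⟩
  rcases configs_gen co hj hC hw with h | h | h | h
  · obtain ⟨co1, r1, hr1, h1⟩ := h
    obtain ⟨co2, r2, hr2, h2⟩ := hSblock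
    exact Or.inl ⟨v, hv, block_iso co1 co2 hj hwo hC hCS hr1 hr2 h1 h2⟩
  · exact Or.inr (Or.inl (iso_SS h hL hcard))
  · exact Or.inr (Or.inr (Or.inl (iso_BS h hM hMcard)))
  · exact Or.inr (Or.inr (Or.inr h))

end Cfsg.Agent.HeRecog.M8a
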