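import Cfsg.Agent.HeRecog.M8a.Top
import Cfsg.Agent.HeRecog.M8a.Configs
import Cfsg.Agent.HeRecog.M8a.SwapCoord
import Cfsg.Agent.HeRecog.M8a.SS2IdxC.Main
import Cfsg.Agent.HeRecog.M8a.BS34IdxC.Main
import Cfsg.Agent.HeRecog.HeIdentTop
import Cfsg.Agent.HeRecog.ProdTrick
import Cfsg.Agent.HeRecog.TICase
import Cfsg.Agent.HeRecog.Ref

/-! Simple groups with the centraliser of a transvection of `SL(5, 2)`. -/

set_option autoImplicit false
set_option linter.all false
set_option maxRecDepth 100000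

namespace Cfsg.Agent.HeRecog.M8a

open Cfsg.Agent.CosetCert

theorem pre_SS2 : allFrom (BB47.H.checkPre SS2.L D) 0 21504 = true := BB47.pre_ok

theorem pre_BS34 : allFrom (BB47.H.checkPre BS34.L D) 0 21504 = true := BB47.pre_ok

/-- The configuration of `SL(5, 2)`. -/
def IsSS {G : Type*} [Group G] [Finite G] (t : G) : Prop :=
  ∃ (co : Coord D t) (x y m l : G), SS2.L.Ok P K co x y m l ∧ gen t m = ⊤

/-- The configuration of the Mathieu group. -/
def IsBS {G : Type*} [Group G] [Finite G] (t : G) : Prop :=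
  ∃ (co : Coord D t) (x y m l : G), BS34.L.Ok P K co x y m l ∧ gen t m = ⊤

/-- The configuration of the Held group. -/
def IsBB {G : Type*} [Group G] [Finite G] (t : G) : Prop :=
  ∃ (co : Coord D t) (x y m l : G), BB47.L.Ok P K co x y m l ∧ gen t m = ⊤

theorem centre_absurd {G : Type*} [Group G] [Finite G] [IsSimpleGroup G] {t : G} (ht : orderOf t = 2)
    (hC : Nat.card (Subgroup.centralizer ({t} : Set G)) = 21504) (h : t ∈ Subgroup.center G) : False := by
  have htop : Subgroup.center G = ⊤ := (inferInstance : (Subgroup.center G).Normal).eq_bot_or_eq_top.resolve_left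
    fun e => by
      rw [e, Subgroup.mem_bot] at h
      rw [h, orderOf_one] at ht
      omega
  have hcomm : ∀ a b : G, a * b = b * a := fun a b => (Subgroup.mem_center_iff.1 (htop ▸ Subgroup.mem_top b) a)
  have hcard : Nat.card G = 21504 := by
    rw [← hC, show Subgroup.centralizer ({t} : Set G) = ⊤ from eq_top_iff.2 fun g _ =>
      Subgroup.mem_centralizer_singleton_iff.2 (hcomm g t), Subgroup.card_top]
  have hz : (Subgroup.zpowers t).Normal := ⟨fun a ha g => by rw [hcomm g a, mul_inv_cancel_right]; exact ha⟩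
  rcases hz.eq_bot_or_eq_top with e | e
  · rw [Subgroup.zpowers_eq_bot] at e; rw [e, orderOf_one] at ht; omega
  · have := congrArg (fun H : Subgroup G => Nat.card H) e
    simp only [Subgroup.card_top, Nat.card_zpowers, ht, hcard] at this
    omega

/-- The three configurations. -/
theorem configs {G : Type*} [Group G] [Finite G] [IsSimpleGroup G] {t : G} (co : Coord D t) (ht : orderOf t = 2)
    (hC : Nat.card (Subgroup.centralizer ({t} : Set G)) = 21504) : IsSS t ∨ IsBS t ∨ IsBB t := by
  obtain ⟨r, hr⟩ := exists_fusedSet (P := P) classes co ht (by decide +kernel) (by decide +kernel)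
  have h := Tables.all_lt options_list (hr.bound : r < 32)
  simp only [Bool.or_eq_true, not_varies classes pair_valid ht hC hr (Or.inl rfl : EA = P.X ∨ EA = P.Y),
    not_varies classes pair_valid ht hC hr (Or.inr rfl : EB = P.X ∨ EB = P.Y), Bool.false_eq_true, or_false,
    List.contains_iff_mem] at h
  simp only [List.mem_cons, List.not_mem_nil, or_false] at h
  have hblock : ∀ r, (r = 1 ∨ r = 2) → FusedSet P K co r → False := fun r h12 hr => by
    obtain ⟨A, hA, hcard, htA⟩ := block_normal co ht hC hr h12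
    have := Subgroup.card_le_card_group (Subgroup.centralizer ({t} : Set G))
    rcases hA.eq_bot_or_eq_top with e | e
    · rw [e, Subgroup.card_bot] at hcard; omega
    · rw [e, Subgroup.card_top] at hcard; omega
  have hBS : ∀ co' : Coord D t, FusedSet P K co' 15 → IsBS t := fun co' hr' => by
    obtain ⟨x, y, m, l, h'⟩ := live_BS (fused_of_mask classes pair_valid ht hC hr' (Or.inl rfl) mask15.1)
      (fused_of_mask classes pair_valid ht hC hr' (Or.inr rfl) mask15.2)
    exact ⟨co', x, y, m, l, h', top15 ht hC hr' h'⟩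
  rcases h with rfl | rfl | rfl | rfl | rfl | rfl | rfl
  · exfalso
    refine centre_absurd ht hC (isolated_central ht fun s hs hst => ?_)
    obtain ⟨c, hc, rfl⟩ := co.surj s hst
    by_contra hct
    obtain ⟨k, e, -, hk, hconj⟩ := Classes.fused_class co classes ht hc (fun e => hct (by rw [e, co.one])) hs
    have h0 : ∀ j ∈ K.allowed, inF K.allowed 0 j = false := by decide +kernel
    have hall : ∀ k ∈ K.allowed, k < K.reps.length := by decide +kernel
    exact Bool.false_ne_true ((h0 k hk).symm.trans ((hr.iff k (hall k hk)).2 hconj))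
  · exact (hblock 1 (Or.inl rfl) hr).elim
  · exact (hblock 2 (Or.inr rfl) hr).elim
  · obtain ⟨x, y, m, l, h'⟩ := live_SS (fused_of_mask classes pair_valid ht hC hr (Or.inl rfl) mask7.1)
      (fused_of_mask classes pair_valid ht hC hr (Or.inr rfl) mask7.2)
    exact Or.inl ⟨co, x, y, m, l, h', top7 ht hC hr h'⟩
  · exact Or.inr (Or.inl (hBS co hr))
  · exact Or.inr (Or.inl (hBS _ (Swap.fusedSet hr (by norm_num) Swap.class23)))
  · obtain ⟨x, y, m, l, h'⟩ := live_BB (fused_of_mask classes pair_valid ht hC hr (Or.inl rfl) mask31.1)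
      (fused_of_mask classes pair_valid ht hC hr (Or.inr rfl) mask31.2)
    exact Or.inr (Or.inr ⟨co, x, y, m, l, h', top31 ht hC hr h'⟩)

theorem isoHe_of_BB {G : Type*} [Group G] [Finite G] [IsSimpleGroup G] {t : G}
    (hC : Nat.card (Subgroup.centralizer ({t} : Set G)) = 21504) (h : IsBB t) : Cfsg.Spor.IsoHe G := by
  obtain ⟨co, x, y, m, l, h, htop⟩ := h
  exact HeData.identify_top h BB47.RS_ok BB47Idx.log_valid rfl BB47Idx.fits BB47.same_ok BB47.SS_ok BB47.count_ok
    BB47.img_ok BB47.rels_ok BB47.onto_ok BB47.U_ok BB47.conj_ok BB47.pre_ok hC htop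

theorem iso_SS {G G' : Type*} [Group G] [Finite G] [Nontrivial G] [Group G'] [Finite G'] [IsSimpleGroup G'] {t : G}
    {t' : G'} (h : IsSS t) (h' : IsSS t') (hc : Nat.card G' = 9999360) : Nonempty (G ≃* G') := by
  obtain ⟨co, x, y, m, l, h, htop⟩ := h
  obtain ⟨co', x', y', m', l', h', htop'⟩ := h'
  exact Letters.iso_of_reference h h' SS2.RS_ok SS2IdxC.log_valid SS2IdxC.fits pre_SS2
    (by rw [hc]; rfl) htop htop'

theorem iso_BS {G G' : Type*} [Group G] [Finite G] [Nontrivial G] [Group G'] [Finite G'] [IsSimpleGroup G'] {t : G}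
    {t' : G'} (h : IsBS t) (h' : IsBS t') (hc : Nat.card G' = 244823040) : Nonempty (G ≃* G') := by
  obtain ⟨co, x, y, m, l, h, htop⟩ := h
  obtain ⟨co', x', y', m', l', h', htop'⟩ := h'
  exact Letters.iso_of_reference h h' BS34.RS_ok BS34IdxC.log_valid BS34IdxC.fits pre_BS34
    (by rw [hc]; rfl) htop htop'

theorem card_SS_le {G : Type*} [Group G] [Finite G] {t : G} (h : IsSS t) : Nat.card G ≤ 9999360 := by
  obtain ⟨co, x, y, m, l, h, htop⟩ := h
  obtain ⟨J, hJ, h1, -⟩ := Letters.prod_bound h h SS2.RS_ok SS2IdxC.log_valid SS2IdxC.fits pre_SS2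
  refine le_trans (Nat.card_le_card_of_surjective (fun p : J => (p : G × G).1) fun g => ?_) (le_of_le_of_eq hJ rfl)
  obtain ⟨g', hg⟩ := h1 g (htop ▸ Subgroup.mem_top g)
  exact ⟨⟨(g, g'), hg⟩, rfl⟩

theorem isoHe_card {G : Type*} [Group G] [Finite G] (h : Cfsg.Spor.IsoHe G) : Nat.card G = 4030387200 := by
  obtain ⟨e⟩ := h
  rw [Nat.card_congr e.toEquiv]
  exact HeOrder.order_and_simple.2

/-- Held's theorem, by isomorphism. -/
theorem trichotomy {G : Type*} [Group G] [Finite G] [IsSimpleGroup G]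
    (s : Matrix.SpecialLinearGroup (Fin 5) (ZMod 2))
    (hs : (s : Matrix (Fin 5) (Fin 5) (ZMod 2)) = Matrix.transvection 0 1 1) (j : G) (hj : orderOf j = 2)
    (e : Subgroup.centralizer ({j} : Set G) ≃*
      Subgroup.centralizer ({s} : Set (Matrix.SpecialLinearGroup (Fin 5) (ZMod 2)))) :
    Nonempty (G ≃* Matrix.SpecialLinearGroup (Fin 5) (ZMod 2)) ∨ Nonempty (G ≃* ↥Cfsg.M24) ∨ Cfsg.Spor.IsoHe G := by
  obtain ⟨hsl, hsimp, hcard⟩ := Ref.sl5_facts s hs
  obtain ⟨hMsimp, hMcard, hMz⟩ := Ref.m24_facts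
  obtain ⟨z, hz, ⟨ez⟩⟩ := hMz s hs
  obtain ⟨hC, ⟨co⟩⟩ := Ref.coord_of_iso s hs j hj e
  obtain ⟨hCM, ⟨coM⟩⟩ := Ref.coord_of_iso s hs z hz ez
  obtain ⟨hCL, ⟨coL⟩⟩ := Ref.coord_of_iso s hs s hsl (MulEquiv.refl _)
  have hM : IsBS z := by
    rcases configs coM hz hCM with h | h | h
    · have := card_SS_le h; omega
    · exact h
    · have := isoHe_card (isoHe_of_BB hCM h); omega
  have hL : IsSS s := by
    rcases configs coL hsl hCL with h | h | h
    · exact h
    · obtain ⟨e'⟩ := iso_BS h hM hMcard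
      have := Nat.card_congr e'.toEquiv; omega
    · have := isoHe_card (isoHe_of_BB hCL h); omega
  rcases configs co hj hC with h | h | h
  · exact Or.inl (iso_SS h hL hcard)
  · exact Or.inr (Or.inl (iso_BS h hM hMcard))
  · exact Or.inr (Or.inr (isoHe_of_BB hC h))

end Cfsg.Agent.HeRecog.M8a
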